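import Mathlib.AlgebraicGeometry.Morphisms.Smooth
import Mathlib.AlgebraicGeometry.Morphisms.FinitePresentation
import Mathlib.RingTheory.Smooth.Basic
import Mathlib.RingTheory.Spectrum.Prime.Topology

/-!
The infinitesimal criterion of smoothness, on small opens of the base.
-/

set_option autoImplicit false
set_option backward.isDefEq.respectTransparency false

noncomputable section

universe u

open CategoryTheory CategoryTheory.Limits AlgebraicGeometry

namespace Groth.Agent.TorsTuple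

/-- **Smoothness from lifts along square-zero thickenings over the members of an open covering.** -/
theorem smooth_of_lifts {X Y : Scheme.{u}} (f : X ⟶ Y) [LocallyOfFinitePresentation f]
    (h : ∀ y : Y, ∃ U : Y.Opens, y ∈ U ∧ ∀ (C : Type u) [CommRing C] (I : Ideal C), I ^ 2 = ⊥ →
      ∀ (p : Spec (CommRingCat.of C) ⟶ Y), Set.range p ⊆ U →
        ∀ τ : Spec (CommRingCat.of (C ⧸ I)) ⟶ X,
          τ ≫ f = Spec.map (CommRingCat.ofHom (Ideal.Quotient.mk I)) ≫ p →
          ∃ t : Spec (CommRingCat.of C) ⟶ X, Spec.map (CommRingCat.ofHom (Ideal.Quotient.mk I)) ≫ t = τ ∧ t ≫ f = p) :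
    Smooth f := by
  refine (HasRingHomProperty.iff_exists_appLE (P := @Smooth) (f := f) (RingHom.Smooth.stableUnderComposition.stableUnderCompositionWithLocalizationAway RingHom.Smooth.holdsForLocalizationAway).1).2 fun x => ?_
  obtain ⟨U₁, hxU₁, hlift⟩ := h (f x)
  obtain ⟨U, hU, hxU, hUU₁⟩ := exists_isAffineOpen_mem_and_subset (X := Y) (x := f x) (U := U₁) hxU₁
  obtain ⟨V, hV, hxV, hVU⟩ := exists_isAffineOpen_mem_and_subset (X := X) (x := x) (U := f ⁻¹ᵁ U) hxU
  refine ⟨⟨U, hU⟩, ⟨V, hV⟩, hxV, hVU, ?_⟩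
  have hfp := (HasRingHomProperty.iff_appLE (P := @LocallyOfFinitePresentation)).1 inferInstance
    ⟨U, hU⟩ ⟨V, hV⟩ hVU
  let φ := f.appLE U V hVU
  letI : Algebra Γ(Y, U) Γ(X, V) := φ.hom.toAlgebra
  haveI : Algebra.FinitePresentation Γ(Y, U) Γ(X, V) := hfp
  suffices hfs : Algebra.FormallySmooth Γ(Y, U) Γ(X, V) from ⟨inferInstance, inferInstance⟩
  refine Algebra.FormallySmooth.of_comp_surjective fun C _ _ I hI L => ?_
  let mkI : CommRingCat.of C ⟶ CommRingCat.of (C ⧸ I) := CommRingCat.ofHom (Ideal.Quotient.mk I)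
  let p : Spec (CommRingCat.of C) ⟶ Y := Spec.map (CommRingCat.ofHom (algebraMap Γ(Y, U) C)) ≫ hU.fromSpec
  let τ : Spec (CommRingCat.of (C ⧸ I)) ⟶ X := Spec.map (CommRingCat.ofHom L.toRingHom) ≫ hV.fromSpec
  have hτ : τ ≫ f = Spec.map mkI ≫ p := by
    show (Spec.map _ ≫ hV.fromSpec) ≫ f = _
    rw [Category.assoc, ← IsAffineOpen.SpecMap_appLE_fromSpec f hU hV hVU, ← Category.assoc, ← Spec.map_comp,
      ← Category.assoc (Spec.map mkI), ← Spec.map_comp]
    exact congrArg (fun r => Spec.map r ≫ hU.fromSpec) (CommRingCat.hom_ext L.comp_algebraMap)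
  have hp : Set.range p ⊆ U₁ := by
    rintro _ ⟨c, rfl⟩
    refine hUU₁ ?_
    have := Set.mem_range_self (f := hU.fromSpec) (Spec.map (CommRingCat.ofHom (algebraMap Γ(Y, U) C)) c)
    rw [hU.range_fromSpec] at this
    exact this
  obtain ⟨t, ht, htf⟩ := hlift C I hI p hp τ hτ
  haveI : IsOpenImmersion hV.fromSpec := IsAffineOpen.isOpenImmersion_fromSpec hV
  haveI : IsOpenImmersion hU.fromSpec := IsAffineOpen.isOpenImmersion_fromSpec hU
  have hrange : Set.range t ⊆ Set.range hV.fromSpec := by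
    rintro _ ⟨c, rfl⟩
    obtain ⟨c', hc'⟩ : c ∈ Set.range (PrimeSpectrum.comap (Ideal.Quotient.mk I)) := by
      refine (Set.ext_iff.1 (range_comap_of_surjective _ _ Ideal.Quotient.mk_surjective) c).2
        ((PrimeSpectrum.mem_zeroLocus _ _).2 fun a ha => ?_)
      rw [SetLike.mem_coe, Ideal.mk_ker] at ha
      have : a ^ 2 ∈ (⊥ : Ideal C) := hI ▸ Ideal.pow_mem_pow ha 2
      exact c.isPrime.mem_of_pow_mem 2 ((Submodule.mem_bot _).1 this ▸ zero_mem _)
    refine ⟨Spec.map (CommRingCat.ofHom L.toRingHom) c', ?_⟩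
    rw [← hc']
    show τ c' = (Spec.map mkI ≫ t) c'
    rw [ht]
  let l := IsOpenImmersion.lift hV.fromSpec t hrange
  have hl : l ≫ hV.fromSpec = t := IsOpenImmersion.lift_fac _ _ _
  obtain ⟨ψ, hψ⟩ : ∃ ψ : Γ(X, V) ⟶ CommRingCat.of C, Spec.map ψ = l := Spec.map_surjective l
  have halg : φ ≫ ψ = CommRingCat.ofHom (algebraMap Γ(Y, U) C) := by
    apply Spec.map_injective
    rw [← cancel_mono hU.fromSpec, Spec.map_comp, Category.assoc,
      show Spec.map φ ≫ hU.fromSpec = hV.fromSpec ≫ f from IsAffineOpen.SpecMap_appLE_fromSpec f hU hV hVU,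
      ← Category.assoc, hψ, hl, htf]
  let Ψ : Γ(X, V) →ₐ[Γ(Y, U)] C := { ψ.hom with commutes' := fun r => ConcreteCategory.congr_hom halg r }
  refine ⟨Ψ, AlgHom.ext fun b => ?_⟩
  have h3 : ψ ≫ mkI = CommRingCat.ofHom L.toRingHom := by
    apply Spec.map_injective
    rw [← cancel_mono hV.fromSpec, Spec.map_comp, Category.assoc, hψ, hl, ht]
  exact ConcreteCategory.congr_hom h3 b

end Groth.Agent.TorsTuple
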