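import Groth.Agent.TorsTupleLib.Roots
import Groth.Agent.MaxTorConjLib.Preimage
import Groth.Agent.DescHomLib.MultBC

/-!
Affine flat pieces on which a maximal torus splits and roots of unity are present.
-/

set_option autoImplicit false
set_option linter.style.haveILetI false
set_option linter.unusedSectionVars false
set_option backward.isDefEq.respectTransparency false
set_option maxHeartbeats 2000000
set_option synthInstance.maxHeartbeats 400000

noncomputable section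

universe u

open CategoryTheory CategoryTheory.Limits MonoidalCategory CartesianMonoidalCategory AlgebraicGeometry
open scoped MonObj

attribute [-instance] CategoryTheory.Hom.commGroup

namespace Groth.Agent.TorsTuple

open Groth.Agent.BorelLib

variable {S : Scheme.{u}} {G : Over S} [GrpObj G]

/-- Precomposition of a maximal torus with an isomorphism. -/
theorem isMaximalTorus_precomp {T T' : Over S} [GrpObj T] [GrpObj T'] (θ : T' ≅ T) [IsMonHom θ.hom] {i : T ⟶ G}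
    (h : Red.IsMaximalTorus i) : Red.IsMaximalTorus (θ.hom ≫ i) := by
  obtain ⟨him, hio, hit, hmax⟩ := h
  haveI := him; haveI := hio
  refine ⟨inferInstance, inferInstance, RedRank.isTorus_of_iso θ hit, fun s R _ J _ _ g hR hg => ?_⟩
  haveI := DiagRep.isMonHom_bc_map (Red.geomPt s) i
  haveI := mono_bc (Red.geomPt s) i
  let θs : Red.geomFibre s T' ≅ Red.geomFibre s T := (Over.pullback (Red.geomPt s)).mapIso θ
  haveI : IsMonHom θs.hom := DiagRep.isMonHom_bc_map (Red.geomPt s) θ.hom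
  haveI : IsMonHom (Iso.refl (Red.geomFibre s G)).hom := inferInstanceAs (IsMonHom (𝟙 (Red.geomFibre s G)))
  exact (MaxTorConj.isMaxTorus_iso (Iso.refl (Red.geomFibre s G)) θs (i := (Over.pullback (Red.geomPt s)).map i)
    (i' := (Over.pullback (Red.geomPt s)).map (θ.hom ≫ i)) (by simp [θs])
    ⟨inferInstance, inferInstance, RedRank.isTorus_bc hit _, fun R' _ J' _ _ g' => hmax s R' J' g'⟩).2.2.2 R J g hR hg

/-- A maximal split torus with roots of unity over a scheme over the base. -/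
structure Piece (G : Over S) [GrpObj G] {W : Scheme.{u}} (q : W ⟶ S) (ℓ : ℕ) where
  /-- the rank -/
  r : ℕ
  /-- the torus -/
  v : Red.DS W (Fin r → ℤ) ⟶ Red.bc q G
  isMax : Red.IsMaximalTorus v
  /-- the roots of unity -/
  roots : RootSystem W ℓ

/-- **Pieces above an affine open of the base on which `ℓ` is invertible.** -/
theorem exists_pieces [Smooth G.hom] [QuasiCompact G.hom] (hG : SGA3x.HasMaxTorusFpqcLocally G) {V : S.Opens}
    (hV : IsAffineOpen V) {ℓ : ℕ} (hℓ : 1 < ℓ) (hu : IsUnit (ℓ : Γ(S, V))) :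
    ∃ (J : Type u) (_ : Finite J) (W : J → Scheme.{u}) (q : ∀ j, W j ⟶ S),
      (∀ j, IsAffine (W j)) ∧ (∀ j, Flat (q j)) ∧ (⋃ j, Set.range (q j)) = (V : Set S) ∧
        ∀ j, Nonempty (Piece G (q j) ℓ) := by
  obtain ⟨S₁, f₁, hf₁, hs₁, hcov₁, T₁, _, i₁, hT₁⟩ := hG
  haveI := hf₁; haveI := hs₁
  obtain ⟨him, hio, ⟨S'', f, hflat, hsurj, hcovf, hloc⟩, -⟩ := id hT₁
  haveI := him; haveI := hflat
  haveI : Smooth (Red.bc f₁ G).hom := MorphismProperty.pullback_snd (P := @Smooth) _ _ inferInstance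
  haveI : QuasiCompact (Red.bc f₁ G).hom := MorphismProperty.pullback_snd (P := @QuasiCompact) _ _ inferInstance
  obtain ⟨W₀, hW₀, hW₀V⟩ := SubDesc.hcov_comp f₁ f hcovf hcov₁ V hV
  choose U hU r hr using hloc
  choose A hA hzA hAle using fun z : W₀ => exists_isAffineOpen_mem_and_subset (X := S'') (x := z.1)
    (U := U z.1 ⊓ W₀) ⟨hU z.1, z.2⟩
  obtain ⟨t, ht⟩ := hW₀.elim_finite_subcover (fun z : W₀ => (A z : Set S'')) (fun z => (A z).isOpen)
    (fun z hz => Set.mem_iUnion.2 ⟨⟨z, hz⟩, hzA ⟨z, hz⟩⟩)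
  let π : S'' ⟶ S := f ≫ f₁
  have hrange : ∀ z, Set.range ((A z).ι ≫ π) ⊆ Set.range V.ι := fun z => by
    rintro _ ⟨a, rfl⟩
    rw [Scheme.Opens.range_ι, ← hW₀V]
    exact ⟨a.1, (hAle z a.2).2, rfl⟩
  have huA : ∀ z, IsUnit (ℓ : Γ((A z : Scheme.{u}), ⊤)) := fun z => by
    let k : (A z : Scheme.{u}) ⟶ V := IsOpenImmersion.lift V.ι _ (hrange z)
    have h := hu.map (V.topIso.inv ≫ k.appTop).hom
    simpa using h
  haveI : ∀ z, IsAffine (A z : Scheme.{u}) := fun z => hA z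
  choose W q₀ hWa hq₀f hq₀s hq₀c hR using fun z => exists_rootCover (U := (A z : Scheme.{u})) hℓ (huA z)
  refine ⟨t, inferInstance, fun z => W z.1, fun z => q₀ z.1 ≫ (A z.1).ι ≫ π, fun z => hWa _, fun z => ?_, ?_,
    fun z => ?_⟩
  · haveI := hq₀f z.1
    infer_instance
  · refine Set.Subset.antisymm (Set.iUnion_subset fun z => ?_) fun s hs => ?_
    · rintro _ ⟨w, rfl⟩
      rw [Scheme.Hom.comp_apply, ← Scheme.Opens.range_ι V]
      exact hrange _ ⟨_, rfl⟩
    · rw [← hW₀V] at hs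
      obtain ⟨w, hw, rfl⟩ := hs
      obtain ⟨z, hz, hwz⟩ := Set.mem_iUnion₂.1 (ht hw)
      haveI := hq₀s z
      obtain ⟨w', hw'⟩ := (q₀ z).surjective ⟨w, hwz⟩
      refine Set.mem_iUnion.2 ⟨⟨z, hz⟩, w', ?_⟩
      rw [Scheme.Hom.comp_apply, hw', Scheme.Hom.comp_apply]
      rfl
  · obtain ⟨R⟩ := hR z.1
    obtain ⟨e⟩ := hr z.1.1
    let a : W z.1 ⟶ S'' := q₀ z.1 ≫ (A z.1).ι
    let l : W z.1 ⟶ (U z.1.1 : Scheme.{u}) := q₀ z.1 ≫ S''.homOfLE ((hAle z.1).trans Set.inter_subset_left)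
    let g : W z.1 ⟶ S₁ := a ≫ f
    obtain ⟨E⟩ := DescHom.nonempty_iso_bc e (𝟙 S₁) g l (by simp [l, g, a])
    let e₁ : Red.bc g (Red.bc (𝟙 S₁) T₁) ≅ Red.DS (W z.1) (Fin (r z.1.1) → ℤ) := (Grp.forget _).mapIso E
    haveI : IsMonHom e₁.hom := E.hom.hom.isMonHom_hom
    let b : Red.bc g (Red.bc (𝟙 S₁) T₁) ≅ Red.bc g T₁ := ActBC.bcCompIso g (𝟙 S₁) T₁ (Category.comp_id g)
    haveI : IsMonHom b.hom := ActBC.bcCompIso_isMonHom _ _ _
    haveI : IsMonHom e₁.inv := inferInstance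
    let θ : Red.DS (W z.1) (Fin (r z.1.1) → ℤ) ≅ Red.bc g T₁ := e₁.symm ≪≫ b
    haveI : IsMonHom θ.hom := inferInstanceAs (IsMonHom (e₁.inv ≫ b.hom))
    let c : Red.bc g (Red.bc f₁ G) ≅ Red.bc (q₀ z.1 ≫ (A z.1).ι ≫ π) G :=
      ActBC.bcCompIso g f₁ G (by simp [g, a, π])
    haveI : IsMonHom c.hom := ActBC.bcCompIso_isMonHom _ _ _
    exact ⟨⟨r z.1.1, (θ.hom ≫ (Over.pullback g).map i₁) ≫ c.hom,
      MaxTorConj.isMaximalTorus_iso c (isMaximalTorus_precomp θ (MaxTorConj.isMaximalTorus_bc hT₁ g)), R⟩⟩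

end Groth.Agent.TorsTuple
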