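import Groth.Agent.TorsTupleLib.Pieces
import Groth.Agent.MaxTorConjLib.PreimageDesc
import Groth.Agent.DescLib.Family
import Groth.Agent.SubDescLib.Main

/-!
Maximal tori over a disjoint union.
-/

set_option autoImplicit false
set_option linter.style.haveILetI false
set_option linter.unusedSectionVars false
set_option backward.isDefEq.respectTransparency false
set_option maxHeartbeats 2000000
set_option synthInstance.maxHeartbeats 400000

noncomputable section

universe u

open CategoryTheory CategoryTheory.Limits MonoidalCategory CartesianMonoidalCategory AlgebraicGeometry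
open scoped MonObj

attribute [-instance] CategoryTheory.Hom.commGroup

namespace Groth.Agent.TorsTuple

open Groth.Agent.BorelLib

/-- A torus which is maximal after a jointly surjective family of base changes is maximal. -/
theorem isMaximalTorus_of_bc {S : Scheme.{u}} {G T : Over S} [GrpObj G] [GrpObj T] {i : T ⟶ G} [IsMonHom i] [Mono i]
    (hit : Red.IsTorus T)
    (h : ∀ s : S, ∃ (P : Scheme.{u}) (f : P ⟶ S) (y : P), f y = s ∧
      Red.IsMaximalTorus (T := Red.bc f T) (G := Red.bc f G) ((Over.pullback f).map i)) : Red.IsMaximalTorus i := by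
  refine ⟨inferInstance, inferInstance, hit, fun s R _ J _ _ g hR hg => ?_⟩
  obtain ⟨P, π, y, rfl, him, hio, hjt, hjmax⟩ := h s
  haveI := him; haveI := hio
  obtain ⟨l, hl⟩ := MaxTorConj.exists_geomPt_factor π y
  let t := Red.geomPt (π y)
  let py := Red.geomPt y
  let F := Over.pullback l
  let j : Red.bc π T ⟶ Red.bc π G := (Over.pullback π).map i
  haveI := DiagRep.isMonHom_bc_map py j
  haveI := mono_bc py j
  let cU₁ : Red.bc py (Red.bc π T) ≅ Red.bc (py ≫ π) T := ActBC.bcCompIso py π T rfl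
  let cU₂ : Red.bc l (Red.bc t T) ≅ Red.bc (py ≫ π) T := ActBC.bcCompIso l t T hl
  let cG₁ : Red.bc py (Red.bc π G) ≅ Red.bc (py ≫ π) G := ActBC.bcCompIso py π G rfl
  let cG₂ : Red.bc l (Red.bc t G) ≅ Red.bc (py ≫ π) G := ActBC.bcCompIso l t G hl
  haveI : IsMonHom cU₁.hom := ActBC.bcCompIso_isMonHom _ _ _
  haveI : IsMonHom cU₂.hom := ActBC.bcCompIso_isMonHom _ _ _
  haveI : IsMonHom cG₁.hom := ActBC.bcCompIso_isMonHom _ _ _
  haveI : IsMonHom cG₂.hom := ActBC.bcCompIso_isMonHom _ _ _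
  haveI : IsMonHom cU₁.inv := inferInstance
  haveI : IsMonHom cG₂.inv := inferInstance
  haveI : IsMonHom (cG₁ ≪≫ cG₂.symm).hom := inferInstanceAs (IsMonHom (cG₁.hom ≫ cG₂.inv))
  let eU : Red.bc l (Red.bc t T) ≅ Red.bc py (Red.bc π T) := cU₂ ≪≫ cU₁.symm
  haveI : IsMonHom eU.hom := inferInstanceAs (IsMonHom (cU₂.hom ≫ cU₁.inv))
  have hnat : eU.hom ≫ (Over.pullback py).map j ≫ (cG₁ ≪≫ cG₂.symm).hom = F.map ((Over.pullback t).map i) := by
    show (cU₂.hom ≫ cU₁.inv) ≫ (Over.pullback py).map ((Over.pullback π).map i) ≫ cG₁.hom ≫ cG₂.inv = _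
    rw [ActBC.bcCompIso_hom_naturality_assoc, Category.assoc,
      Iso.inv_hom_id_assoc, ← ActBC.bcCompIso_hom_naturality_assoc, Iso.hom_inv_id, Category.comp_id]
  have hmax := MaxTorConj.isMaxTorus_iso (cG₁ ≪≫ cG₂.symm) eU hnat
    ⟨inferInstance, inferInstance, RedRank.isTorus_bc hjt py, fun R' _ J' _ _ g' => hjmax y R' J' g'⟩
  haveI : IsMonHom (M := Red.bc l R) (N := Red.bc l (Red.bc t G)) (F.map J) := DiagRep.isMonHom_bc_map l J
  haveI : Mono (F.map J) := mono_bc l J
  haveI : IsIso (F.map g) := hmax.2.2.2 (Red.bc l R) (F.map J) (F.map g) (RedRank.isTorus_bc hR l)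
    (by rw [← F.map_comp, hg])
  exact MaxTorConj.isIso_of_isIso_bc l g

variable {κ : Type u} {P : κ → Scheme.{u}}

theorem isIso_sigma_desc {Y : Over (∐ P)} :
    IsIso (Sigma.desc fun k => pullback.fst Y.hom (Sigma.ι P k)) := by
  have h := DescLib.isPullback_sigma (fun k => Sigma.ι P k) (fun k => pullback.fst Y.hom (Sigma.ι P k))
    (fun k => pullback.snd Y.hom (Sigma.ι P k)) fun k => IsPullback.of_hasPullback _ _
  haveI : IsIso (Sigma.desc fun k => Sigma.ι P k) := by
    rw [show (Sigma.desc fun k => Sigma.ι P k) = 𝟙 (∐ P) from Sigma.hom_ext _ _ fun k => by simp]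
    infer_instance
  exact h.isIso_fst_of_isIso

/-- Morphisms over a disjoint union agree if they do over each member. -/
theorem hom_ext_sigma {Y Z : Over (∐ P)} {f g : Y ⟶ Z}
    (h : ∀ k, (Over.pullback (Sigma.ι P k)).map f = (Over.pullback (Sigma.ι P k)).map g) : f = g := by
  haveI := isIso_sigma_desc (Y := Y)
  refine Over.OverMorphism.ext ((cancel_epi (Sigma.desc fun k => pullback.fst Y.hom (Sigma.ι P k))).1
    (Sigma.hom_ext _ _ fun k => ?_))
  rw [Sigma.ι_desc_assoc, Sigma.ι_desc_assoc]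
  have h' := congrArg (fun φ => φ.left ≫ pullback.fst Z.hom (Sigma.ι P k)) (h k)
  simp only [ActBC.pullback_map_left_fst] at h'
  exact h'

variable {S : Scheme.{u}} {G : Over S} [GrpObj G] (q : ∀ k, P k ⟶ S)

/-- **Split maximal tori glue over a disjoint union.** -/
theorem exists_sigma_torus (r : κ → ℕ) (i : ∀ k, Red.DS (P k) (Fin (r k) → ℤ) ⟶ Red.bc (q k) G)
    (hi : ∀ k, Red.IsMaximalTorus (i k)) :
    ∃ (T : Over (∐ P)) (_ : GrpObj T) (j : T ⟶ Red.bc (Sigma.desc q) G)
      (θ : ∀ k, Red.bc (Sigma.ι P k) T ≅ Red.DS (P k) (Fin (r k) → ℤ)), Red.IsMaximalTorus j ∧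
      ∀ k, (θ k).hom ≫ i k =
        (Over.pullback (Sigma.ι P k)).map j ≫ (ActBC.bcCompIso (Sigma.ι P k) (Sigma.desc q) G (Sigma.ι_desc q k)).hom := by
  haveI := fun k => (hi k).1
  haveI := fun k => (hi k).2.1
  let D := fun k => Red.DS (P k) (Fin (r k) → ℤ)
  let π := Sigma.desc q
  let T : Over (∐ P) := Over.mk (Limits.Sigma.map fun k => (D k).hom)
  let j : T ⟶ Red.bc π G := Over.homMk (pullback.lift (Sigma.desc fun k => (i k).left ≫ pullback.fst G.hom (q k))
    T.hom (Sigma.hom_ext _ _ fun k => by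
      have e : (i k).left ≫ pullback.snd G.hom (q k) = (D k).hom := Over.w (i k)
      show Sigma.ι (fun k => (D k).left) k ≫ _ ≫ G.hom =
        Sigma.ι (fun k => (D k).left) k ≫ Limits.Sigma.map (fun k => (D k).hom) ≫ π
      rw [Sigma.ι_desc_assoc, Sigma.ι_map_assoc, Sigma.ι_desc, Category.assoc, pullback.condition, reassoc_of% e]))
    (pullback.lift_snd _ _ _)
  have sq := fun k => (DescLib.isPullback_sigmaι_map (fun k => (D k).hom) k).flip
  let θ : ∀ k, Red.bc (Sigma.ι P k) T ≅ D k := fun k =>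
    (Over.isoMk (sq k).isoPullback (by exact (sq k).isoPullback_hom_snd)).symm
  let c := fun k => ActBC.bcCompIso (Sigma.ι P k) π G (Sigma.ι_desc q k)
  have hθ : ∀ k, (θ k).hom ≫ i k = (Over.pullback (Sigma.ι P k)).map j ≫ (c k).hom := fun k => by
    refine Over.OverMorphism.ext (pullback.hom_ext ?_ ?_)
    · rw [Over.comp_left, Over.comp_left, Category.assoc, Category.assoc, ActBC.bcCompIso_hom_left_fst,
        ← Category.assoc _ (pullback.fst (Red.bc π G).hom _), ActBC.pullback_map_left_fst, Category.assoc]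
      erw [pullback.lift_fst]
      show (sq k).isoPullback.inv ≫ (i k).left ≫ pullback.fst G.hom (q k) = _
      rw [Iso.inv_comp_eq, ← Category.assoc (sq k).isoPullback.hom]
      erw [(sq k).isoPullback_hom_fst]
      rw [Sigma.ι_desc]
    · exact (Over.w ((θ k).hom ≫ i k)).trans (Over.w ((Over.pullback (Sigma.ι P k)).map j ≫ (c k).hom)).symm
  haveI : ∀ k, IsMonHom (c k).hom := fun k => ActBC.bcCompIso_isMonHom _ _ _
  haveI : Mono j := ⟨fun {Y} a b hab => hom_ext_sigma fun k => by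
    rw [← cancel_mono (θ k).hom, ← cancel_mono (i k), Category.assoc, Category.assoc, hθ,
      ← Functor.map_comp_assoc, ← Functor.map_comp_assoc, hab]⟩
  have hback : ∀ {Y : Over (∐ P)} (y : Y ⟶ Red.bc π G),
      (∀ k, ∃ a : Red.bc (Sigma.ι P k) Y ⟶ D k, a ≫ i k = (Over.pullback (Sigma.ι P k)).map y ≫ (c k).hom) →
      ∃ h : Y ⟶ T, h ≫ j = y := by
    intro Y y hy
    choose a ha using hy
    haveI := isIso_sigma_desc (Y := Y)
    let e := Sigma.desc fun k => pullback.fst Y.hom (Sigma.ι P k)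
    let hl : Y.left ⟶ T.left := inv e ≫ Sigma.desc fun k => (a k).left ≫ Sigma.ι (fun k => (D k).left) k
    let h : Y ⟶ T := Over.homMk hl (by
      show (inv e ≫ _) ≫ T.hom = Y.hom
      rw [Category.assoc, IsIso.inv_comp_eq]
      refine Sigma.hom_ext _ _ fun k => ?_
      have ea : (a k).left ≫ (D k).hom = pullback.snd Y.hom (Sigma.ι P k) := Over.w (a k)
      show Sigma.ι _ k ≫ Sigma.desc _ ≫ Limits.Sigma.map (fun k => (D k).hom) = _
      rw [Sigma.ι_desc_assoc, Category.assoc, Sigma.ι_map, reassoc_of% ea, Sigma.ι_desc_assoc, pullback.condition])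
    refine ⟨h, hom_ext_sigma fun k => ?_⟩
    have hk : (Over.pullback (Sigma.ι P k)).map h ≫ (θ k).hom = a k := by
      rw [← Iso.eq_comp_inv]
      refine Over.OverMorphism.ext (pullback.hom_ext ?_ ?_)
      · rw [ActBC.pullback_map_left_fst, Over.comp_left, Category.assoc]
        show pullback.fst Y.hom _ ≫ hl = (a k).left ≫ (sq k).isoPullback.hom ≫ _
        erw [(sq k).isoPullback_hom_fst]
        rw [← Sigma.ι_desc (f := fun _ => _) (fun k => (a k).left ≫ Sigma.ι (fun k => (D k).left) k) k,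
          ← Sigma.ι_desc (fun k => pullback.fst Y.hom (Sigma.ι P k)) k, Category.assoc]
        simp [hl, e]
      · exact (Over.w _).trans (Over.w _).symm
    rw [← cancel_mono (c k).hom, Functor.map_comp, Category.assoc, ← hθ, ← Category.assoc, hk, ha]
  have hpt : ∀ k {Y : Over (∐ P)} (a : Y ⟶ T),
      ((Over.pullback (Sigma.ι P k)).map a ≫ (θ k).hom) ≫ i k = (Over.pullback (Sigma.ι P k)).map (a ≫ j) ≫ (c k).hom :=
    fun k {Y} a => by rw [Category.assoc, hθ, Functor.map_comp_assoc]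
  have hmap1 : ∀ k {Y : Over (∐ P)}, (Over.pullback (Sigma.ι P k)).map (1 : Y ⟶ Red.bc π G) = 1 := fun k {Y} => by
    have h := Functor.map_mul (Over.pullback (Sigma.ι P k)) (1 : Y ⟶ Red.bc π G) 1
    rw [_root_.one_mul] at h
    exact left_eq_mul.1 h
  obtain ⟨hgrp, hmon⟩ := SubDesc.exists_grpObj_of_mono j
    (hback ((fst T T ≫ j) * (snd T T ≫ j)) fun k =>
      ⟨((Over.pullback (Sigma.ι P k)).map (fst T T) ≫ (θ k).hom) * ((Over.pullback (Sigma.ι P k)).map (snd T T) ≫ (θ k).hom), by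
        rw [MonObj.mul_comp, hpt, hpt, ← MonObj.mul_comp]
        exact congrArg (· ≫ (c k).hom) (Functor.map_mul _ _ _).symm⟩)
    (hback (1 : 𝟙_ _ ⟶ Red.bc π G) fun k => ⟨1, by rw [MonObj.one_comp, hmap1, MonObj.one_comp]⟩)
    (hback j⁻¹ fun k => ⟨((θ k).hom)⁻¹, by
      rw [GrpObj.inv_comp, hθ, ← GrpObj.inv_comp]
      refine congrArg (· ≫ (c k).hom) (inv_eq_of_mul_eq_one_left ?_)
      exact (Functor.map_mul _ j⁻¹ j).symm.trans ((congrArg _ (inv_mul_cancel j)).trans (hmap1 k))⟩)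
  letI := hgrp
  haveI := hmon
  haveI hθm : ∀ k, IsMonHom (M := Red.bc (Sigma.ι P k) T) (N := D k) (θ k).hom := fun k => by
    haveI : IsMonHom (M := Red.bc (Sigma.ι P k) T) (N := Red.bc (Sigma.ι P k) (Red.bc π G))
      ((Over.pullback (Sigma.ι P k)).map j) := DiagRep.isMonHom_bc_map _ j
    haveI : IsMonHom ((θ k).hom ≫ i k) := by rw [hθ]; infer_instance
    exact DiagRep.isMonHom_of_comp_mono (θ k).hom (i k)
  have hT : Red.IsTorus T := by
    refine ⟨∐ P, 𝟙 _, inferInstance, inferInstance, fun V hV => ⟨V, hV.isCompact, by simp⟩, fun z => ?_⟩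
    obtain ⟨k, y, hy⟩ := DescLib.exists_sigma_mem z
    haveI : IsOpenImmersion (Sigma.ι P k) := inferInstance
    let U := (Sigma.ι P k).opensRange
    let l : (U : Scheme.{u}) ⟶ P k := IsOpenImmersion.lift (Sigma.ι P k) U.ι (by simp [U])
    obtain ⟨E⟩ := DescHom.nonempty_iso_bc (Grp.mkIso' (θ k)) (𝟙 _) (U.ι ≫ 𝟙 _) l (by
      simp only [l, Category.comp_id]; exact IsOpenImmersion.lift_fac _ _ _)
    let b : Red.bc (U.ι ≫ 𝟙 _) (Red.bc (𝟙 _) T) ≅ Red.bc (U.ι ≫ 𝟙 _) T :=
      ActBC.bcCompIso _ (𝟙 _) T (Category.comp_id _)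
    haveI : IsMonHom b.hom := ActBC.bcCompIso_isMonHom _ _ _
    exact ⟨U, ⟨y, hy⟩, r k, ⟨(Grp.mkIso' b).symm ≪≫ E⟩⟩
  refine ⟨T, hgrp, j, θ, isMaximalTorus_of_bc hT fun z => ?_, hθ⟩
  obtain ⟨k, y, rfl⟩ := DescLib.exists_sigma_mem z
  refine ⟨P k, Sigma.ι P k, y, rfl, ?_⟩
  haveI : IsMonHom (c k).symm.hom := inferInstanceAs (IsMonHom (c k).inv)
  have h := MaxTorConj.isMaximalTorus_iso (c k).symm (isMaximalTorus_precomp (θ k) (hi k))
  rwa [hθ, Category.assoc, Iso.symm_hom, Iso.hom_inv_id, Category.comp_id] at h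

end Groth.Agent.TorsTuple
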