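import Groth.Agent.TorsTupleLib.RedRankZero
import Groth.Agent.S18366
import Groth.Agent.S3938
import Groth.Agent.AbSchLib.Flat

/-!
Reductive groups over separably closed fields.
-/

set_option autoImplicit false
set_option linter.style.haveILetI false
set_option linter.unusedSectionVars false
set_option backward.isDefEq.respectTransparency false
set_option maxHeartbeats 2000000
set_option synthInstance.maxHeartbeats 400000

noncomputable section

universe u

open CategoryTheory CategoryTheory.Limits MonoidalCategory CartesianMonoidalCategory AlgebraicGeometry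
open scoped MonObj

attribute [-instance] CategoryTheory.Hom.commGroup

namespace Groth.Agent.TorsTuple

open Groth.Agent.BorelLib

variable {k : Type u} [Field k]

/-- **Rational points are dense in smooth schemes over separably closed fields.** -/
theorem dense_rational [IsSepClosed k] (X : Over (Spec (CommRingCat.of k))) [Smooth X.hom] :
    Dense {x : ↥X.left | ∃ p : 𝟙_ (Over (Spec (CommRingCat.of k))) ⟶ X, p.left (IsLocalRing.closedPoint k) = x} := by
  rw [dense_iff_inter_open]
  rintro U hU ⟨x, hx⟩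
  obtain ⟨V, hV, hxV, hVU⟩ := exists_isAffineOpen_mem_and_subset (X := X.left) (x := x) (U := ⟨U, hU⟩) hx
  haveI : IsAffine (V : Scheme.{u}) := hV
  haveI : Nonempty (V : Scheme.{u}) := ⟨⟨x, hxV⟩⟩
  haveI : GeometricallyReduced (V.ι ≫ X.hom) := AbSchLib.geometricallyReduced_of_smooth _
  obtain ⟨s, hs⟩ := S18366.result k (V.ι ≫ X.hom)
  refine ⟨(s ≫ V.ι) (IsLocalRing.closedPoint k), hVU ?_, Over.homMk (s ≫ V.ι) ((Category.assoc _ _ _).trans hs), rfl⟩
  rw [Scheme.Hom.comp_apply]
  exact (s (IsLocalRing.closedPoint k)).2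

variable {G : Over (Spec (CommRingCat.of k))} [GrpObj G]

/-- **A reductive group over a separably closed field has a maximal torus.** -/
theorem exists_maximalTorus_sepClosed [IsSepClosed k] (hG : Red.IsReductive G) :
    ∃ (T : Over (Spec (CommRingCat.of k))) (_ : GrpObj T) (i : T ⟶ G), Red.IsMaximalTorus i := by
  haveI := hG.1; haveI := hG.2.1
  obtain ⟨S', f, hf, hs, T', hT, i', hi'⟩ := hasMaxTorus_of_isReductive hG
  haveI := hf; haveI := hs; letI := hT
  obtain ⟨s₀, -⟩ := f.surjective (IsLocalRing.closedPoint k)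
  haveI : Smooth (Over.mk f).hom := inferInstanceAs (Smooth f)
  haveI : Nonempty ↥(Over.mk f).left := ⟨s₀⟩
  obtain ⟨x, p, -⟩ := (dense_rational (Over.mk f)).nonempty
  let σ : Spec (CommRingCat.of k) ⟶ S' := p.left
  have hσ : σ ≫ f = 𝟙 _ := Over.w p
  haveI : Smooth (Red.bc f G).hom := MorphismProperty.pullback_snd (P := @Smooth) _ _ inferInstance
  haveI : QuasiCompact (Red.bc f G).hom := MorphismProperty.pullback_snd (P := @QuasiCompact) _ _ inferInstance
  let e : Red.bc σ (Red.bc f G) ≅ G := ActBC.bcCompIso σ f G hσ ≪≫ asIso (bcIdHom G)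
  haveI : IsMonHom e.hom := by
    haveI : IsMonHom (ActBC.bcCompIso σ f G hσ).hom := ActBC.bcCompIso_isMonHom _ _ _
    show IsMonHom ((ActBC.bcCompIso σ f G hσ).hom ≫ bcIdHom G)
    infer_instance
  exact ⟨Red.bc σ T', inferInstance, _, MaxTorConj.isMaximalTorus_iso e (MaxTorConj.isMaximalTorus_bc hi' σ)⟩

/-- The conjugation map from a group times a subscheme. -/
def conjMap {T : Over (Spec (CommRingCat.of k))} (i : T ⟶ G) : G ⊗ T ⟶ G :=
  (fst G T)⁻¹ * (snd G T ≫ i) * fst G T

theorem comp_conjMap {X T : Over (Spec (CommRingCat.of k))} (i : T ⟶ G) (h : X ⟶ G) (t : X ⟶ T) :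
    lift h t ≫ conjMap i = h⁻¹ * (t ≫ i) * h := by
  simp only [conjMap, MonObj.comp_mul, GrpObj.comp_inv, lift_fst, lift_snd_assoc]

/-- **The conjugates of a maximal torus of a reductive group are dense.** -/
theorem denseRange_conjMap (hG : Red.IsReductive G) {T : Over (Spec (CommRingCat.of k))} [GrpObj T] {i : T ⟶ G}
    (hi : Red.IsMaximalTorus i) : DenseRange (conjMap i).left := by
  let s : ↥(Spec (CommRingCat.of k)) := IsLocalRing.closedPoint k
  let ξ := Red.geomPt s
  let F := Over.pullback ξ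
  let K : Type u := AlgebraicClosure ((Spec (CommRingCat.of k)).residueField s)
  let GK : Over (Spec (CommRingCat.of K)) := Red.geomFibre s G
  obtain ⟨haff, hsm, hconn, -⟩ := id (hG.2.2 s)
  haveI := haff; haveI := hsm; haveI := hconn
  haveI := hG.1; haveI := hG.2.1
  haveI : QuasiCompact G.hom := inferInstance
  haveI := hi.1; haveI := hi.2.1
  have hTK := MaxTorConj.isMaximalTorus_bc hi ξ
  haveI := hTK.1; haveI := hTK.2.1
  obtain ⟨U, ⟨x₀, hx₀⟩, hU⟩ := S3938.result K GK _ (F.map i) (BorelLib.isMaxTorus_of_isMaximalTorus hTK) _ (F.map i)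
    (isCentralizerOf_self_of_isReductiveOver (hG.2.2 s) hTK)
  haveI : Surjective (pullback.fst G.hom ξ) := surjective_fst s G
  haveI : JacobsonSpace ↥GK.left := LocallyOfFiniteType.jacobsonSpace GK.hom
  haveI : IrreducibleSpace ↥GK.left :=
    { isPreirreducible_univ := by rw [← GrpField.Z0_eq_univ (G := GK)]; exact (GrpField.isIrreducible_Z0 (G := GK)).2
      toNonempty := inferInstance }
  have hfst : DenseRange (pullback.fst G.hom ξ) := (pullback.fst G.hom ξ).surjective.denseRange
  have hKr : (pullback.fst G.hom ξ) '' ((U : Set ↥GK.left) ∩ closedPoints ↥GK.left) ⊆ Set.range (conjMap i).left := by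
    rintro _ ⟨x, ⟨hxU, hxc⟩, rfl⟩
    let p : 𝟙_ (Over (Spec (CommRingCat.of K))) ⟶ GK :=
      Over.homMk (pointOfClosedPoint GK.hom x hxc) (pointOfClosedPoint_comp GK.hom x hxc)
    have hp : p.left.base (IsLocalRing.closedPoint K) = x := pointOfClosedPoint_apply GK.hom x hxc _
    obtain ⟨g, y, hgy⟩ := hU p (by rw [hp]; exact hxU)
    obtain ⟨h', hh'⟩ := (HomRep.bcEquiv ξ G (𝟙_ _)).surjective g⁻¹
    obtain ⟨t, ht⟩ := (HomRep.bcEquiv ξ T (𝟙_ _)).surjective y
    have h1 : HomRep.bcEquiv ξ G (𝟙_ _) (lift h' t ≫ conjMap i) = p := by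
      let Φ : ((Over.map ξ).obj (𝟙_ (Over (Spec (CommRingCat.of K)))) ⟶ G) ≃* (𝟙_ _ ⟶ GK) :=
        { HomRep.bcEquiv ξ G (𝟙_ _) with map_mul' := HomRep.bcEquiv_mul ξ G (𝟙_ _) }
      have hy : Φ (t ≫ i) = y ≫ F.map i := by
        show HomRep.bcEquiv ξ G (𝟙_ _) (t ≫ i) = _
        rw [Adjunction.homEquiv_naturality_right, ht]
      show Φ _ = p
      rw [comp_conjMap, map_mul, map_mul, map_inv, hy, show Φ h' = g⁻¹ from hh', inv_inv, hgy]
    have e : ∀ z : (Over.map ξ).obj (𝟙_ (Over (Spec (CommRingCat.of K)))) ⟶ G,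
        (HomRep.bcEquiv ξ G (𝟙_ _) z).left ≫ pullback.fst G.hom ξ = z.left := fun z => by
      have h := congrArg CommaMorphism.left
        ((Over.mapPullbackAdj ξ).homEquiv_counit (g := HomRep.bcEquiv ξ G (𝟙_ _) z))
      rw [show ((Over.mapPullbackAdj ξ).homEquiv _ _).symm (HomRep.bcEquiv ξ G (𝟙_ _) z) = z from
        Equiv.symm_apply_apply _ _] at h
      refine Eq.trans ?_ h.symm
      simp [Over.mapPullbackAdj]
    let pt₀ : ↥((Over.map ξ).obj (𝟙_ (Over (Spec (CommRingCat.of K))))).left :=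
      (IsLocalRing.closedPoint K : PrimeSpectrum K)
    refine ⟨(lift h' t).left pt₀, ?_⟩
    have h2 := congrArg (fun m => m pt₀) (e (lift h' t ≫ conjMap i))
    rw [h1] at h2
    exact h2.symm.trans (congrArg (pullback.fst G.hom ξ) hp)
  have hUd : Dense ((U : Set ↥GK.left) ∩ closedPoints ↥GK.left) := by
    rw [dense_iff_inter_open]
    intro V hV hVn
    have hUV : (V ∩ (U : Set ↥GK.left)).Nonempty :=
      nonempty_preirreducible_inter hV U.isOpen hVn ⟨x₀, hx₀⟩
    obtain ⟨z, hz, hzc⟩ := nonempty_inter_closedPoints hUV (hV.inter U.isOpen).isLocallyClosed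
    exact ⟨z, hz.1, hz.2, hzc⟩
  exact (hfst.dense_image (pullback.fst G.hom ξ).continuous hUd).mono hKr

end Groth.Agent.TorsTuple
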