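import Groth.Agent.TorsTupleLib.RedRankZero
import Groth.Agent.RCentreLib.Centre
import Groth.Agent.S5258
import Groth.Agent.S8401

/-!
The centre as intersection of maximal tori.
-/

set_option autoImplicit false
set_option linter.style.haveILetI false
set_option linter.unusedSectionVars false
set_option backward.isDefEq.respectTransparency false
set_option maxHeartbeats 2000000
set_option synthInstance.maxHeartbeats 400000

noncomputable section

universe u

open CategoryTheory CategoryTheory.Limits MonoidalCategory CartesianMonoidalCategory AlgebraicGeometry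
open scoped MonObj

attribute [-instance] CategoryTheory.Hom.commGroup

namespace Groth.Agent.TorsTuple

open Groth.Agent.BorelLib
open HomRep (bcEquiv)
open MultEq (LE)
open Groth.Agent.RCentre (IsRC)

variable {S : Scheme.{u}}

/-- The adjunction bijection on points of a group, as an isomorphism of groups. -/
def bcMul {P : Scheme.{u}} (p : P ⟶ S) (G : Over S) [GrpObj G] (Y : Over P) :
    ((Over.map p).obj Y ⟶ G) ≃* (Y ⟶ Red.bc p G) :=
  { bcEquiv p G Y with map_mul' := HomRep.bcEquiv_mul p G Y }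

theorem bcMul_comp {P : Scheme.{u}} (p : P ⟶ S) {G G' : Over S} [GrpObj G] [GrpObj G'] (Y : Over P)
    (z : (Over.map p).obj Y ⟶ G) (m : G ⟶ G') :
    bcMul p G Y z ≫ (Over.pullback p).map m = bcMul p G' Y (z ≫ m) :=
  (Adjunction.homEquiv_naturality_right (Over.mapPullbackAdj p) z m).symm

theorem bcMul_left_fst {P : Scheme.{u}} (p : P ⟶ S) (G : Over S) [GrpObj G] (Y : Over P)
    (z : (Over.map p).obj Y ⟶ G) : (bcMul p G Y z).left ≫ pullback.fst G.hom p = z.left := by
  have e : (Over.mapPullbackAdj p).homEquiv Y G z = bcMul p G Y z := rfl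
  have h := congrArg CommaMorphism.left ((Over.mapPullbackAdj p).homEquiv_counit (g := bcMul p G Y z))
  rw [← e, Equiv.symm_apply_apply, e] at h
  refine Eq.trans ?_ h.symm
  simp [Over.mapPullbackAdj]

theorem bcMul_precomp {P : Scheme.{u}} (p : P ⟶ S) (G : Over S) [GrpObj G] {Y Y' : Over P} (x : Y' ⟶ Y)
    (z : (Over.map p).obj Y ⟶ G) : x ≫ bcMul p G Y z = bcMul p G Y' ((Over.map p).map x ≫ z) :=
  (Adjunction.homEquiv_naturality_left (Over.mapPullbackAdj p) x z).symm

/-- Reductive centres pass to base changes. -/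
theorem isRC_bc {G Z : Over S} [GrpObj G] [GrpObj Z] {z : Z ⟶ G} (hz : IsRC z) {P : Scheme.{u}} (p : P ⟶ S) :
    IsRC (G := Red.bc p G) (Z := Red.bc p Z) ((Over.pullback p).map z) := by
  obtain ⟨h1, h2, h3, h4, h5⟩ := hz
  haveI := h1; haveI := h2
  refine ⟨DiagRep.isMonHom_bc_map p z, mono_bc p z, DescHom.isMultTypeFT_bc h3 p,
    fun X x g => RCentre.central_bc z h4 p X x g, fun S' f H _ v _ hH hv => ?_⟩
  let cG : Red.bc f (Red.bc p G) ≅ Red.bc (f ≫ p) G := ActBC.bcCompIso f p G rfl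
  let cZ : Red.bc f (Red.bc p Z) ≅ Red.bc (f ≫ p) Z := ActBC.bcCompIso f p Z rfl
  haveI : IsMonHom cG.hom := ActBC.bcCompIso_isMonHom _ _ _
  obtain ⟨w, hw⟩ := h5 S' (f ≫ p) H (v ≫ cG.hom) hH fun X x g => by
    have h := congrArg (· ≫ cG.hom) (hv X x (g ≫ cG.inv))
    simpa only [MonObj.mul_comp, Category.assoc, Iso.inv_hom_id, Category.comp_id] using h
  refine ⟨w ≫ cZ.inv, (cancel_mono cG.hom).1 ?_⟩
  rw [Category.assoc, Category.assoc, ActBC.bcCompIso_hom_naturality, Iso.inv_hom_id_assoc, hw]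

/-- **Points of a subgroup all of whose conjugates stay in it form a closed subscheme.** -/
theorem exists_inter_conj {G T : Over S} [GrpObj G] [Smooth G.hom] (i : T ⟶ G) [IsClosedImmersion i.left]
    (hconn : ∀ {K : Type u} [Field K] (ξ : Spec (CommRingCat.of K) ⟶ S), ConnectedSpace ↥(Red.bc ξ G).left) :
    ∃ (W : Over S) (w : W ⟶ T), IsClosedImmersion w.left ∧ ∀ (X : Over S) (t : X ⟶ T),
      (∃ x, x ≫ w = t) ↔ ∃ κ : G ⊗ X ⟶ T, κ ≫ i = (fst G X)⁻¹ * (snd G X ≫ t ≫ i) * fst G X := by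
  let c : G ⊗ T ⟶ G := (fst G T)⁻¹ * (snd G T ≫ i) * fst G T
  have hc : ∀ (X : Over S) (t : X ⟶ T),
      (G ◁ t) ≫ c = (fst G X)⁻¹ * (snd G X ≫ t ≫ i) * fst G X := fun X t => by
    simp only [c, MonObj.comp_mul, GrpObj.comp_inv, whiskerLeft_fst, whiskerLeft_snd_assoc]
  let f : (G ⊗ T).left ⟶ T.left := pullback.snd G.hom T.hom
  haveI : Smooth f := MorphismProperty.pullback_snd (P := @Smooth) _ _ inferInstance
  have hf : ∀ p : T.left, ConnectedSpace ↥(pullback f (Red.geomPt p)) := fun p => by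
    haveI : ConnectedSpace ↥(pullback G.hom (Red.geomPt p ≫ T.hom)) := hconn (Red.geomPt p ≫ T.hom)
    let e := pullbackLeftPullbackSndIso G.hom T.hom (Red.geomPt p)
    exact (Scheme.Hom.surjective e.inv).connectedSpace e.inv.continuous
  obtain ⟨W, w, hw, huniv, -⟩ := S5258.result f hf (pullback.fst c.left i.left)
  refine ⟨Over.mk (w ≫ T.hom), Over.homMk w, hw, fun X t => ?_⟩
  let b : pullback f t.left ⟶ (G ⊗ X).left :=
    pullback.lift (pullback.fst f t.left ≫ pullback.fst G.hom T.hom) (pullback.snd f t.left) (by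
      rw [Category.assoc, pullback.condition, ← Category.assoc]
      exact (congrArg (· ≫ T.hom) pullback.condition).trans ((Category.assoc _ _ _).trans
        (congrArg (_ ≫ ·) (Over.w t))))
  let a : (G ⊗ X).left ⟶ pullback f t.left := pullback.lift (G ◁ t).left (snd G X).left
    (congrArg CommaMorphism.left (whiskerLeft_snd G t))
  constructor
  · rintro ⟨x, hx⟩
    obtain ⟨l, hl⟩ := (huniv X.left t.left).1 ⟨x.left, congrArg CommaMorphism.left hx⟩
    have h1 : (a ≫ l ≫ pullback.snd c.left i.left) ≫ i.left = ((G ◁ t) ≫ c).left := by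
      rw [Category.assoc, Category.assoc, ← pullback.condition, reassoc_of% hl, Over.comp_left]
      exact pullback.lift_fst_assoc _ _ _ _
    refine ⟨Over.homMk (a ≫ l ≫ pullback.snd c.left i.left) ?_, ?_⟩
    · rw [← Over.w i, ← Category.assoc, h1]
      exact Over.w ((G ◁ t) ≫ c)
    · rw [← hc]
      exact Over.OverMorphism.ext h1
  · rintro ⟨κ, hκ⟩
    rw [← hc] at hκ
    have hb : b ≫ (G ◁ t).left = pullback.fst f t.left := by
      apply pullback.hom_ext
      · rw [Category.assoc]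
        refine (congrArg (b ≫ ·) (congrArg CommaMorphism.left (whiskerLeft_fst G t))).trans ?_
        exact pullback.lift_fst _ _ _
      · rw [Category.assoc]
        refine (congrArg (b ≫ ·) (congrArg CommaMorphism.left (whiskerLeft_snd G t))).trans ?_
        show b ≫ pullback.snd G.hom X.hom ≫ t.left = _
        rw [pullback.lift_snd_assoc]
        exact pullback.condition.symm
    obtain ⟨g', hg'⟩ := (huniv X.left t.left).2 ⟨pullback.lift (pullback.fst f t.left) (b ≫ κ.left) (by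
      rw [Category.assoc, ← Over.comp_left, hκ, Over.comp_left, reassoc_of% hb]), pullback.lift_fst _ _ _⟩
    exact ⟨Over.homMk g' (by
      show g' ≫ w ≫ T.hom = X.hom
      rw [reassoc_of% hg', Over.w t]), Over.OverMorphism.ext hg'⟩

variable {G : Over S} [GrpObj G]

/-- A point lies in all maximal tori of all base changes. -/
def InAllTori {X : Over S} (g : X ⟶ G) : Prop :=
  ∀ (Y : Scheme.{u}) (y : Y ⟶ X.left) (T : Over Y) [GrpObj T] (i : T ⟶ Red.bc (y ≫ X.hom) G),
    Red.IsMaximalTorus i → ∃ p : Y ⟶ T.left, p ≫ T.hom = 𝟙 Y ∧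
      p ≫ i.left ≫ Limits.pullback.fst G.hom (y ≫ X.hom) = y ≫ g.left

/-- Such a point lies in all conjugates of a maximal torus. -/
theorem exists_mem_conj [IsAffineHom G.hom] [Smooth G.hom] {P : Scheme.{u}} {f : P ⟶ S} {T : Over P} [GrpObj T]
    {i : T ⟶ Red.bc f G} (hi : Red.IsMaximalTorus i) {X : Over S} {g : X ⟶ G} (hg : InAllTori g) (Y : Over P)
    (a : (Over.map f).obj Y ⟶ X) (k : Y ⟶ Red.bc f G) :
    ∃ t : Y ⟶ T, t ≫ i = k⁻¹ * bcMul f G Y (a ≫ g) * k := by
  haveI : Smooth (Red.bc f G).hom := MorphismProperty.pullback_snd (P := @Smooth) _ _ inferInstance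
  haveI : QuasiCompact (Red.bc f G).hom := MorphismProperty.pullback_snd (P := @QuasiCompact) _ _ inferInstance
  let G' := Red.bc f G
  let q := Y.hom
  let Y₀ : Over P := (Over.map q).obj (𝟙_ (Over Y.left))
  let ε : Y₀ ⟶ Y := Over.homMk (𝟙 _) (by
    show 𝟙 _ ≫ q = 𝟙 _ ≫ q
    rfl)
  haveI : IsIso ε.left := inferInstanceAs (IsIso (𝟙 Y.left))
  haveI : IsIso ((Over.forget P).map ε) := inferInstanceAs (IsIso ε.left)
  haveI : IsIso ε := isIso_of_reflects_iso ε (Over.forget P)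
  let gY : Y ⟶ G' := bcMul f G Y (a ≫ g)
  let Φ : (Y ⟶ G') → (𝟙_ (Over Y.left) ⟶ Red.bc q G') := fun z => bcMul q G' (𝟙_ _) (ε ≫ z)
  let k' := Φ k
  haveI := hi.1; haveI := hi.2.1
  have hbc := MaxTorConj.isMaximalTorus_bc hi q
  let R := (Over.pullback q).map i
  haveI := hbc.1; haveI := hbc.2.1
  let e₁ : Red.bc q G' ≅ Red.bc q G' := asIso (AGF.conjBy k' (𝟙 (Red.bc q G')))
  haveI : IsMonHom e₁.hom := DiagRep.isMonHom_conjBy k'
  let c : Red.bc q G' ≅ Red.bc (a.left ≫ X.hom) G := ActBC.bcCompIso q f G (Over.w a).symm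
  haveI : IsMonHom c.hom := ActBC.bcCompIso_isMonHom _ _ _
  have hR := MaxTorConj.isMaximalTorus_iso c (MaxTorConj.isMaximalTorus_iso e₁ hbc)
  obtain ⟨p, hp, hpg⟩ := hg Y.left a.left (Red.bc q T) ((R ≫ e₁.hom) ≫ c.hom) hR
  let p' : 𝟙_ (Over Y.left) ⟶ Red.bc q T := Over.homMk p hp
  obtain ⟨t₀, ht₀⟩ := (bcMul q T (𝟙_ _)).surjective p'
  have hP : p' ≫ R ≫ e₁.hom = Φ gY := by
    refine (cancel_mono c.hom).1 (Over.OverMorphism.ext (pullback.hom_ext ?_ ?_))
    · have hΦ : ((Φ gY) ≫ c.hom).left ≫ pullback.fst G.hom (a.left ≫ X.hom) = a.left ≫ g.left := by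
        rw [Over.comp_left, Category.assoc, ActBC.bcCompIso_hom_left_fst, reassoc_of% (bcMul_left_fst q G' (𝟙_ _) (ε ≫ gY)),
          Over.comp_left, Category.assoc, bcMul_left_fst, Over.comp_left]
        exact Category.id_comp _
      rw [hΦ]
      simpa only [p', Over.comp_left, Over.homMk_left, Category.assoc] using hpg
    · exact (Over.w ((p' ≫ R ≫ e₁.hom) ≫ c.hom)).trans (Over.w ((Φ gY) ≫ c.hom)).symm
  have he : p' ≫ R ≫ e₁.hom = k' * (p' ≫ R) * k'⁻¹ := by
    show p' ≫ R ≫ AGF.conjBy k' (𝟙 (Red.bc q G')) = _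
    rw [← Category.assoc, MonObj.comp_mul, MonObj.comp_mul, GrpObj.comp_inv, Category.comp_id, ← Category.assoc,
      toUnit_unique ((p' ≫ R) ≫ toUnit (Red.bc q G')) (𝟙 _), Category.id_comp]
  rw [he, ← ht₀, bcMul_comp] at hP
  have h : (ε ≫ k) * (t₀ ≫ i : (Over.map q).obj (𝟙_ (Over Y.left)) ⟶ G') * (ε ≫ k)⁻¹ = ε ≫ gY := by
    apply (bcMul q G' (𝟙_ _)).injective
    rw [map_mul, map_mul, map_inv]
    exact hP
  refine ⟨inv ε ≫ t₀, ?_⟩
  have h' := congrArg (inv ε ≫ ·) h
  simp only [MonObj.comp_mul, GrpObj.comp_inv, IsIso.inv_hom_id_assoc] at h'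
  rw [Category.assoc, show bcMul f G Y (a ≫ g) = gY from rfl, ← h']
  simp [mul_assoc]

/-- **Points of a maximal torus whose conjugates stay in it are points of the reductive centre.** -/
theorem factor_rc_of_conj [IsAffineHom G.hom] [Smooth G.hom] (hconn : ∀ s : S, _root_.IsConnected (G.hom.base ⁻¹' {s}))
    {T : Over S} [GrpObj T] {i : T ⟶ G} (hi : Red.IsMaximalTorus i)
    (hsc : ∀ (s : S) (X : Over (Spec (CommRingCat.of (AlgebraicClosure (S.residueField s))))) (x : X ⟶ Red.geomFibre s G),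
      (∀ (X' : Over (Spec (CommRingCat.of (AlgebraicClosure (S.residueField s))))) (y : X' ⟶ X)
        (t : X' ⟶ Red.geomFibre s T), (y ≫ x) * (t ≫ (Over.pullback (Red.geomPt s)).map i : X' ⟶ Red.geomFibre s G) =
          (t ≫ (Over.pullback (Red.geomPt s)).map i) * (y ≫ x)) →
      ∃ t : X ⟶ Red.geomFibre s T, t ≫ (Over.pullback (Red.geomPt s)).map i = x)
    {Z : Over S} [GrpObj Z] {z : Z ⟶ G} (hrc : IsRC z) [IsClosedImmersion z.left]
    {X : Over S} (t₁ : X ⟶ T) (κ₁ : G ⊗ X ⟶ T)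
    (hκ₁ : κ₁ ≫ i = (fst G X)⁻¹ * (snd G X ≫ t₁ ≫ i) * fst G X) : ∃ x : X ⟶ Z, x ≫ z = t₁ ≫ i := by
  haveI := hi.1; haveI := hi.2.1
  haveI := hrc.1; haveI := hrc.2.1
  haveI : QuasiCompact G.hom := inferInstance
  haveI : IsClosedImmersion i.left :=
    Transporter.isClosedImmersion_of_mono (RedRank.locally_of_isTorus hi.2.2.1) ‹IsAffineHom G.hom› i
  obtain ⟨W, w, hw, hW⟩ := exists_inter_conj i fun ξ => connected_geom hconn ξ
  haveI := hw
  obtain ⟨a, ha⟩ := RCentre.exists_factor_of_selfCent G hi.2.2.1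
    hsc z
    fun X' y t => hrc.2.2.2.1 X' y (t ≫ i)
  obtain ⟨m, hm⟩ := (hW _ a).2 ⟨snd _ _ ≫ a, by
    rw [Category.assoc, ha, mul_assoc, hrc.2.2.2.1 _ (snd _ _) (fst _ _), inv_mul_cancel_left]⟩
  haveI : IsClosedImmersion (m.left ≫ w.left ≫ i.left) := by
    rw [← Over.comp_left, ← Over.comp_left, reassoc_of% hm, ha]; infer_instance
  haveI : IsClosedImmersion m.left := IsClosedImmersion.of_comp m.left (w.left ≫ i.left)
  haveI := EqNhd.flat_of_isMultTypeFT hrc.2.2.1
  haveI := MultEq.lfp_of_isMultTypeFT hrc.2.2.1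
  haveI : LocallyOfFiniteType W.hom := by
    rw [← Over.w (w ≫ i), Over.comp_left]; infer_instance
  haveI : IsIso m := RCentre.isIso_of_le_fibres m fun s => by
    let ξ := Red.geomPt s
    let F := Over.pullback ξ
    let GK := Red.bc ξ G
    haveI := RedRank.isAffineHom_bc G ξ
    haveI : IsAffine GK.left := isAffine_of_isAffineHom GK.hom
    haveI : Smooth GK.hom := MorphismProperty.pullback_snd (P := @Smooth) _ _ inferInstance
    haveI : QuasiCompact GK.hom := MorphismProperty.pullback_snd (P := @QuasiCompact) _ _ inferInstance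
    haveI : ConnectedSpace GK.left :=
      connected_geom hconn ξ
    have hK := isRC_bc hrc ξ
    haveI := hK.2.1
    have hTK := MaxTorConj.isMaximalTorus_bc hi ξ
    haveI := hTK.1; haveI := hTK.2.1
    let wK : Red.bc ξ W ⟶ GK := F.map (w ≫ i)
    obtain ⟨x, hx⟩ := (S8401.result _ GK _ (F.map z) hK _ wK).2 fun R _ iR hiR => by
      obtain ⟨g₁, φ, hφ⟩ := MaxTorConj.conj_algClosed (isMaxTorus_of_isMaximalTorus hiR)
        (isMaxTorus_of_isMaximalTorus hTK)
      let kk : Red.bc ξ W ⟶ GK := (toUnit _ ≫ g₁)⁻¹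
      obtain ⟨k, hk⟩ := (bcMul ξ G (Red.bc ξ W)).surjective kk
      let w'' := (bcEquiv ξ W (Red.bc ξ W)).symm (𝟙 _)
      obtain ⟨κ, hκ⟩ := (hW W w).1 ⟨𝟙 W, Category.id_comp w⟩
      have h1 := congrArg (fun v => bcMul ξ G _ (lift k w'' ≫ v)) hκ
      simp only [MonObj.comp_mul, GrpObj.comp_inv, lift_fst, lift_snd_assoc, map_mul, map_inv, hk] at h1
      have hw'' : bcMul ξ G (Red.bc ξ W) (w'' ≫ w ≫ i) = wK := by
        show bcEquiv ξ G (Red.bc ξ W) _ = _
        rw [Adjunction.homEquiv_naturality_right, Equiv.apply_symm_apply, Category.id_comp]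
      rw [hw''] at h1
      let tT : Red.bc ξ W ⟶ Red.bc ξ T := bcEquiv ξ T (Red.bc ξ W) (lift k w'' ≫ κ)
      have htT : tT ≫ F.map i = bcMul ξ G (Red.bc ξ W) (lift k w'' ≫ κ ≫ i) := by
        show _ = bcEquiv ξ G (Red.bc ξ W) _
        rw [← Category.assoc, Adjunction.homEquiv_naturality_right]
      rw [← htT] at h1
      have h2 := congrArg (fun v => (tT ≫ φ.inv) ≫ v) hφ
      simp only [MonObj.comp_mul, GrpObj.comp_inv, Category.assoc, Iso.inv_hom_id_assoc] at h2
      refine ⟨tT ≫ φ.inv, ?_⟩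
      simp only [← Category.assoc, toUnit_unique ((tT ≫ φ.inv) ≫ toUnit R) (toUnit _)] at h2 ⊢
      rw [h1] at h2
      simp only [kk, inv_inv] at h2
      exact mul_left_cancel (mul_right_cancel h2)
    have hxm : x ≫ F.map m = 𝟙 _ := by
      haveI : Mono (w ≫ i) := by
        haveI : Mono (w ≫ i).left := by rw [Over.comp_left]; infer_instance
        exact Over.mono_of_mono_left _
      haveI := mono_bc ξ (w ≫ i)
      rw [← cancel_mono (F.map (w ≫ i)), Category.assoc, ← Functor.map_comp, reassoc_of% hm, ha]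
      exact hx.trans (Category.id_comp _).symm
    have hle : LE (𝟙 W) m ξ := RedRank.le_of_bc_factor (𝟙 W) m ξ x (by rw [hxm, CategoryTheory.Functor.map_id])
    exact RedRank.geomPt_apply s ▸ (MultEq.le_field_iff ξ).1 hle
  obtain ⟨x, hx⟩ := (hW X t₁).2 ⟨κ₁, hκ₁⟩
  refine ⟨x ≫ inv m, ?_⟩
  rw [← ha, ← hm, Category.assoc, Category.assoc, IsIso.inv_hom_id_assoc, reassoc_of% hx]

/-- **A point of all maximal tori is a point of the centre.** -/
theorem le_centre_of_inAllTori (hG : Red.IsReductive G) {X : Over S} {g : X ⟶ G} (hg : InAllTori g)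
    {Z : Over S} [GrpObj Z] {z : Z ⟶ G} (hZ : Red.IsCentre z) : ∃ x : X ⟶ Z, x ≫ z = g := by
  haveI := hG.1; haveI := hG.2.1
  have h0 := unipotentRankZero_of_isReductive hG
  have hconn : ∀ s : S, _root_.IsConnected (G.hom.base ⁻¹' {s}) := fun s =>
    haveI := (hG.2.2 s).2.2.1; CentPre.isConnected_fibre_of_geom G s
  obtain ⟨Z₀, _, z₀, hz₀, hrc⟩ := RCentre.exists_centre G hconn h0
  haveI := hrc.1; haveI := hrc.2.1
  haveI : IsClosedImmersion z₀.left := Transporter.isClosedImmersion_of_mono (by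
    obtain ⟨S', f, h1, h2, h3, hloc⟩ := hrc.2.2.1
    exact ⟨S', f, h1, h2, h3, fun x => by
      obtain ⟨U, hU, M, _, -, h⟩ := hloc x
      exact ⟨U, hU, M, inferInstance, h⟩⟩) ‹IsAffineHom G.hom› z₀
  suffices hle : LE g z₀ (𝟙 S) by
    obtain ⟨x, hx⟩ := hle X X.hom (Category.comp_id _) (𝟙 X)
    refine (hZ.2.2 X g).2 ((hz₀.2.2 X g).1 ⟨x, hx.trans (Category.id_comp g)⟩)
  obtain ⟨S', f, hf, hfs, T, hT, i, hi⟩ := hasMaxTorus_of_isReductive hG
  haveI := hf; haveI := hfs; letI := hT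
  refine MultEq.le_of_family (I := PUnit.{u+1}) (fun _ => f) (fun _ => inferInstance)
    (fun s => ⟨⟨⟩, f.surjective s⟩) fun _ => ?_
  rw [Category.comp_id]
  -- over the cover
  haveI := hi.1; haveI := hi.2.1
  haveI := RedRank.isAffineHom_bc G f
  haveI : Smooth (Red.bc f G).hom := MorphismProperty.pullback_snd (P := @Smooth) _ _ inferInstance
  haveI : QuasiCompact (Red.bc f G).hom := MorphismProperty.pullback_snd (P := @QuasiCompact) _ _ inferInstance
  haveI : IsClosedImmersion i.left :=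
    Transporter.isClosedImmersion_of_mono (RedRank.locally_of_isTorus hi.2.2.1) ‹IsAffineHom (Red.bc f G).hom› i
  let z' := (Over.pullback f).map z₀
  haveI : IsClosedImmersion z'.left := isClosedImmersion_bc f z₀
  intro Y q hq h
  let Y₁ : Over S' := Over.mk q
  let ε : (Over.map f).obj Y₁ ≅ Y := Over.isoMk (Iso.refl _) (by
    show 𝟙 _ ≫ Y.hom = q ≫ f
    rw [Category.id_comp, hq])
  obtain ⟨t, ht⟩ := exists_mem_conj hi hg Y₁ (ε.hom ≫ h) 1
  rw [inv_one, one_mul, mul_one] at ht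
  obtain ⟨κ, hκ⟩ := exists_mem_conj hi hg (Red.bc f G ⊗ Y₁) ((Over.map f).map (snd _ _) ≫ ε.hom ≫ h) (fst _ _)
  obtain ⟨x, hx⟩ := factor_rc_of_conj (fun t => (RCentre.conn_fibre_iff _ t).2
      (RCentre.conn_bc G (fun s => (RCentre.conn_fibre_iff _ s).1 (hconn s)) f t)) hi
    (fun p X' x hx => RCentre.selfCent_geom G h0 f hi (Red.geomPt p) X' x hx) (isRC_bc hrc f) t κ (by
      rw [hκ, ht, bcMul_precomp]
      simp only [Category.assoc])
  refine ⟨ε.inv ≫ (bcEquiv f Z₀ Y₁).symm x, ?_⟩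
  rw [Category.assoc, ← Adjunction.homEquiv_naturality_right_symm, Iso.inv_comp_eq, Equiv.symm_apply_eq]
  show x ≫ z' = bcMul f G Y₁ _
  rw [hx, ht, Category.assoc]

/-- **A point of the centre lies in all maximal tori.** -/
theorem inAllTori_of_centre (hG : Red.IsReductive G) {X : Over S} (g : X ⟶ G)
    (hg : ∀ (X' : Over S) (x : X' ⟶ X) (h : X' ⟶ G), (x ≫ g) * h = h * (x ≫ g)) : InAllTori g := by
  intro Y y T _ i hi
  haveI := hG.1; haveI := hG.2.1
  haveI := hi.1; haveI := hi.2.1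
  have h0 := unipotentRankZero_of_isReductive hG
  let f := y ≫ X.hom
  haveI := RedRank.isAffineHom_bc G f
  haveI : Smooth (Red.bc f G).hom := MorphismProperty.pullback_snd (P := @Smooth) _ _ inferInstance
  let a : (Over.map f).obj (𝟙_ (Over Y)) ⟶ X := Over.homMk y (by
    show y ≫ X.hom = 𝟙 _ ≫ f
    rw [Category.id_comp])
  obtain ⟨t, ht⟩ := RCentre.exists_factor_of_selfCent (Red.bc f G) hi.2.2.1
    (fun p X' x hx => RCentre.selfCent_geom G h0 f hi (Red.geomPt p) X' x hx) (bcMul f G _ (a ≫ g))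
    fun X' x s => by
      obtain ⟨s', hs'⟩ := (bcMul f G X').surjective (s ≫ i)
      rw [← hs', bcMul_precomp, ← map_mul, ← map_mul, ← Category.assoc, hg _ ((Over.map f).map x ≫ a) s']
  refine ⟨t.left, Over.w t, ?_⟩
  have h := congrArg (fun v => v.left ≫ pullback.fst G.hom f) ht
  simp only [Over.comp_left, Category.assoc] at h
  rw [bcMul_left_fst] at h
  exact h.trans rfl

end Groth.Agent.TorsTuple
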