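import Groth.Agent.TorsTupleLib.SubTorus

/-!
Maximal tori of subgroups of maximal rank.
-/

set_option autoImplicit false
set_option linter.style.haveILetI false
set_option linter.unusedSectionVars false
set_option backward.isDefEq.respectTransparency false
set_option maxHeartbeats 2000000
set_option synthInstance.maxHeartbeats 400000

noncomputable section

universe u

open CategoryTheory CategoryTheory.Limits MonoidalCategory CartesianMonoidalCategory AlgebraicGeometry
open scoped MonObj

attribute [-instance] CategoryTheory.Hom.commGroup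

namespace Groth.Agent.TorsTuple

open Groth.Agent.BorelLib

variable {k : Type u} [Field k] [IsAlgClosed k] {G H : Over (Spec (CommRingCat.of k))} [GrpObj G] [GrpObj H]
  [Smooth G.hom] [QuasiCompact G.hom] [Smooth H.hom] [QuasiCompact H.hom]
  (i : H ⟶ G) [IsMonHom i] [Mono i]

/-- **In a subgroup containing a maximal torus, every maximal torus is maximal in the group.** -/
theorem isMaximalTorus_of_sub {T₀ T : Over (Spec (CommRingCat.of k))} [GrpObj T₀] [GrpObj T] {t₀ : T₀ ⟶ H}
    [IsMonHom t₀] (h₀ : Red.IsMaximalTorus (t₀ ≫ i)) {t : T ⟶ H} (ht : Red.IsMaximalTorus t) :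
    Red.IsMaximalTorus (t ≫ i) := by
  haveI := h₀.2.1; haveI := ht.1; haveI := ht.2.1
  haveI : Mono t₀ := mono_of_mono t₀ i
  have hmax₀ := NA.isMaxTorus_of_sub i (isMaxTorus_of_isMaximalTorus h₀) rfl
  obtain ⟨g, φ, hφ⟩ := MaxTorConj.conj_algClosed (isMaxTorus_of_isMaximalTorus ht) hmax₀
  haveI : IsMonHom φ.hom := by
    haveI := DiagRep.isMonHom_conjBy g
    haveI : IsMonHom (φ.hom ≫ t₀) := by
      rw [← hφ, show (toUnit T ≫ g) * t * (toUnit T ≫ g)⁻¹ = t ≫ AGF.conjBy g (𝟙 H) by
        rw [MonObj.comp_mul, MonObj.comp_mul, GrpObj.comp_inv, Category.comp_id, ← Category.assoc,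
          toUnit_unique (t ≫ toUnit H) (toUnit T)]]
      infer_instance
    exact DiagRep.isMonHom_of_comp_mono φ.hom t₀
  let g' : 𝟙_ _ ⟶ G := g ≫ i
  haveI := DiagRep.isMonHom_conjBy g'
  let e : G ≅ G := asIso (AGF.conjBy g' (𝟙 G))
  haveI : IsMonHom e.hom := DiagRep.isMonHom_conjBy g'
  haveI : IsMonHom e.inv := inferInstance
  haveI : IsMonHom e.symm.hom := inferInstanceAs (IsMonHom e.inv)
  have hte : (t ≫ i) ≫ e.hom = φ.hom ≫ t₀ ≫ i := by
    show (t ≫ i) ≫ AGF.conjBy g' (𝟙 G) = _
    rw [MonObj.comp_mul, MonObj.comp_mul, GrpObj.comp_inv, Category.comp_id, ← Category.assoc,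
      toUnit_unique ((t ≫ i) ≫ toUnit G) (toUnit T), ← Category.assoc φ.hom, ← hφ, MonObj.mul_comp,
      MonObj.mul_comp, GrpObj.inv_comp, Category.assoc]
  have h1 := MaxTorConj.isMaximalTorus_iso e.symm (isMaximalTorus_precomp φ h₀)
  rwa [← hte, Category.assoc, Iso.symm_hom, Iso.hom_inv_id, Category.comp_id] at h1

end Groth.Agent.TorsTuple
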