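import Groth.Agent.TorsTupleLib.Good
import Groth.Agent.TorsTupleLib.Sigma

/-!
Cartan subgroups are centralizers of maximal tori which descend along coverings.
-/

set_option autoImplicit false
set_option linter.style.haveILetI false
set_option linter.unusedSectionVars false
set_option backward.isDefEq.respectTransparency false
set_option maxHeartbeats 2000000
set_option synthInstance.maxHeartbeats 400000

noncomputable section

universe u

open CategoryTheory CategoryTheory.Limits MonoidalCategory CartesianMonoidalCategory AlgebraicGeometry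
open scoped MonObj

attribute [-instance] CategoryTheory.Hom.commGroup

namespace Groth.Agent.TorsTuple

open Groth.Agent.BorelLib

variable {S : Scheme.{u}} {G : Over S} [GrpObj G]

/-- Every geometric fibre is the centralizer of a maximal torus. -/
def CartanPts {C : Over S} [GrpObj C] (c : C ⟶ G) : Prop :=
  ∀ (K : Type u) [Field K] [IsAlgClosed K] (ξ : Spec (CommRingCat.of K) ⟶ S),
    ∃ (T' : Over (Spec (CommRingCat.of K))) (_ : GrpObj T') (i' : T' ⟶ Red.bc ξ G),
      Red.IsMaximalTorus i' ∧ Red.IsCentralizerOf (G := Red.bc ξ G) (Z := Red.bc ξ C) i' ((Over.pullback ξ).map c)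

theorem cartanPts_of_isCartan [Smooth G.hom] [QuasiCompact G.hom] {C : Over S} [GrpObj C] {c : C ⟶ G}
    (hc : SGA3x.IsCartan c) : CartanPts c := fun _ _ _ ξ => exists_cartan_at hc ξ

theorem isCentralizerOf_transport {G' H H' Z Z' : Over S} [GrpObj G'] [GrpObj H] [GrpObj H'] [GrpObj Z] [GrpObj Z']
    (e : G ≅ G') [IsMonHom e.hom] (β : H' ≅ H) (δ : Z' ≅ Z) [IsMonHom δ.hom] {i : H ⟶ G} {j : Z ⟶ G} {i' : H' ⟶ G'}
    {j' : Z' ⟶ G'} (hi : β.hom ≫ i ≫ e.hom = i') (hj : δ.hom ≫ j ≫ e.hom = j') (h : Red.IsCentralizerOf i j) :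
    Red.IsCentralizerOf i' j' := by
  haveI := h.1; haveI := h.2.1
  haveI : IsMonHom e.inv := inferInstance
  subst hi; subst hj
  refine ⟨inferInstance, inferInstance, fun X g => ⟨?_, fun hg => ?_⟩⟩
  · rintro ⟨z, rfl⟩ X' x t
    have := congrArg (· ≫ e.hom) ((h.2.2 X ((z ≫ δ.hom) ≫ j)).1 ⟨z ≫ δ.hom, rfl⟩ X' x (t ≫ β.hom))
    simp only [MonObj.mul_comp, Category.assoc] at this
    simpa only [Category.assoc] using this
  · obtain ⟨z, hz⟩ := (h.2.2 X (g ≫ e.inv)).2 fun X' x t => by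
      have := congrArg (· ≫ e.inv) (hg X' x (t ≫ β.inv))
      simp only [MonObj.mul_comp, Category.assoc, Iso.inv_hom_id_assoc, Iso.hom_inv_id, Category.comp_id] at this
      exact this
    exact ⟨z ≫ δ.inv, by rw [Category.assoc, Iso.inv_hom_id_assoc, ← Category.assoc, hz, Category.assoc,
      Iso.inv_hom_id, Category.comp_id]⟩

theorem cartanPts_bc {C : Over S} [GrpObj C] {c : C ⟶ G} (hc : CartanPts c) {P : Scheme.{u}} (f : P ⟶ S) :
    CartanPts (G := Red.bc f G) ((Over.pullback f).map c) := fun K _ _ ξ => by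
  obtain ⟨T', _, i', hi', hcent⟩ := hc K (ξ ≫ f)
  let eG : Red.bc ξ (Red.bc f G) ≅ Red.bc (ξ ≫ f) G := ActBC.bcCompIso ξ f G rfl
  let eC : Red.bc ξ (Red.bc f C) ≅ Red.bc (ξ ≫ f) C := ActBC.bcCompIso ξ f C rfl
  haveI : IsMonHom eG.hom := ActBC.bcCompIso_isMonHom _ _ _
  haveI : IsMonHom eC.hom := ActBC.bcCompIso_isMonHom _ _ _
  haveI : IsMonHom eG.symm.hom := inferInstanceAs (IsMonHom eG.inv)
  refine ⟨T', inferInstance, i' ≫ eG.inv, MaxTorConj.isMaximalTorus_iso eG.symm hi', ?_⟩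
  refine isCentralizerOf_transport eG.symm (Iso.refl T') eC (by simp) ?_ hcent
  show eC.hom ≫ (Over.pullback (ξ ≫ f)).map c ≫ eG.inv = _
  rw [← ActBC.bcCompIso_hom_naturality_assoc, Iso.hom_inv_id, Category.comp_id]

/-- **A smooth subgroup with Cartan geometric fibres commuting with a maximal torus is its centralizer.** -/
theorem isCentralizerOf_of_commutes [Smooth G.hom] [IsSeparated G.hom] [QuasiCompact G.hom] {C T : Over S} [GrpObj C]
    [GrpObj T] {c : C ⟶ G} [IsMonHom c] [Mono c] [Smooth C.hom] (hc : CartanPts c) {i : T ⟶ G}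
    (hi : Red.IsMaximalTorus i) (h : Commutes c i) : Red.IsCentralizerOf i c := by
  obtain ⟨C₀, _, c₀, hc₀, hcl, hcart, -⟩ := S4118.result S G T i hi
  haveI := hc₀.1; haveI := hc₀.2.1; haveI := hcart.2.2.1; haveI := hcl
  obtain ⟨l, hl⟩ := (hc₀.2.2 C c).2 fun X x t => (h X x t).eq
  haveI : Mono (l ≫ c₀) := by rw [hl]; infer_instance
  haveI : Mono l := mono_of_mono l c₀
  haveI : IsIso l := isIso_of_mono_geom l fun K _ _ ξ => by
    obtain ⟨T', _, i', hi', hcent⟩ := hc K ξ
    haveI : Smooth (Red.bc ξ G).hom := MorphismProperty.pullback_snd (P := @Smooth) _ _ inferInstance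
    haveI : IsSeparated (Red.bc ξ G).hom := inferInstanceAs (IsSeparated (pullback.snd G.hom ξ))
    haveI : QuasiCompact (Red.bc ξ G).hom := MorphismProperty.pullback_snd (P := @QuasiCompact) _ _ inferInstance
    let F := Over.pullback ξ
    haveI : Mono (F.map c₀) := mono_bc ξ c₀
    haveI : Mono (F.map l) := mono_bc ξ l
    obtain ⟨z, hz⟩ := exists_factor_centralizer (MaxTorConj.isMaximalTorus_bc hi ξ) hi' hcent (commutes_bc h ξ)
      (F.map c₀) fun X' x t => (commutes_bc (commutes_of_centralizer hc₀) ξ X' x t).eq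
    have e : z ≫ F.map l = 𝟙 _ := by
      rw [← cancel_mono (F.map c₀), Category.assoc, ← F.map_comp, hl, Category.id_comp]
      exact hz
    exact ⟨z, by rw [← cancel_mono (F.map l), Category.assoc, e, Category.id_comp, Category.comp_id], e⟩
  haveI : IsMonHom (l ≫ c₀) := by rw [hl]; infer_instance
  haveI : IsMonHom l := DiagRep.isMonHom_of_comp_mono l c₀
  haveI : IsMonHom (asIso l).hom := ‹IsMonHom l›
  haveI : IsMonHom (Iso.refl G).hom := inferInstanceAs (IsMonHom (𝟙 G))
  exact isCentralizerOf_transport (Iso.refl G) (Iso.refl T) (asIso l) (by simp) (by simp [hl]) hc₀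

/-- **A maximal torus with a given centralizer descends.** -/
theorem exists_torus_of_cover [Smooth G.hom] [IsSeparated G.hom] [QuasiCompact G.hom] {C : Over S} [GrpObj C]
    {c : C ⟶ G} [IsMonHom c] [Mono c] {P : Scheme.{u}} (π : P ⟶ S) [Flat π] [Surjective π]
    (hcov : ∀ V : S.Opens, IsAffineOpen V → ∃ W : P.Opens, IsCompact (W : Set P) ∧ π.base '' (W : Set P) = (V : Set S))
    {T : Over P} [GrpObj T] {j : T ⟶ Red.bc π G} (hj : Red.IsMaximalTorus j)
    (hc : Red.IsCentralizerOf (G := Red.bc π G) (Z := Red.bc π C) j ((Over.pullback π).map c)) :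
    ∃ (U : Over S) (_ : GrpObj U) (iU : U ⟶ G), Red.IsMaximalTorus iU ∧ Red.IsCentralizerOf iU c := by
  haveI := hj.1; haveI := hj.2.1
  haveI := MultEq.isAffineHom_of_isMultTypeFT (RedRank.isMultTypeFT_of_isTorus hj.2.2.1)
  haveI : Smooth (Red.bc π G).hom := MorphismProperty.pullback_snd (P := @Smooth) _ _ inferInstance
  haveI : QuasiCompact (Red.bc π G).hom := MorphismProperty.pullback_snd (P := @QuasiCompact) _ _ inferInstance
  obtain ⟨t₀, ht₀⟩ := (hc.2.2 T j).2 fun X' x t => by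
    rw [← MonObj.mul_comp, ← MonObj.mul_comp, (commute_torus hj.2.2.1 x t).eq]
  have hcc := commutes_of_centralizer hc
  have hswap : ∀ {R : Scheme.{u}} (x₀ x₁ : R ⟶ P), x₀ ≫ π = x₁ ≫ π → ∀ v : R ⟶ T.left, v ≫ T.hom = x₀ →
      ∃ w : R ⟶ T.left, w ≫ T.hom = x₁ ∧
        w ≫ j.left ≫ pullback.fst G.hom π = v ≫ j.left ≫ pullback.fst G.hom π := by
    intro R x₀ x₁ hx₀₁ v hv
    let d := x₀ ≫ π
    haveI : Smooth (Red.bc d G).hom := MorphismProperty.pullback_snd (P := @Smooth) _ _ inferInstance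
    haveI : QuasiCompact (Red.bc d G).hom := MorphismProperty.pullback_snd (P := @QuasiCompact) _ _ inferInstance
    haveI : IsSeparated (Red.bc d G).hom := inferInstanceAs (IsSeparated (pullback.snd G.hom d))
    have data : ∀ (y : R ⟶ P) (h : y ≫ π = d),
        Red.IsMaximalTorus (T := Red.bc y T) (G := Red.bc d G)
            ((Over.pullback y).map j ≫ (ActBC.bcCompIso y π G h).hom) ∧
          Commutes (G := Red.bc d G) ((Over.pullback d).map c) ((Over.pullback y).map j ≫ (ActBC.bcCompIso y π G h).hom) ∧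
          ∃ w : Red.bc y T ⟶ Red.bc d C, w ≫ (Over.pullback d).map c =
            (Over.pullback y).map j ≫ (ActBC.bcCompIso y π G h).hom := fun y h => by
      haveI : IsMonHom (ActBC.bcCompIso y π G h).hom := ActBC.bcCompIso_isMonHom _ _ _
      refine ⟨MaxTorConj.isMaximalTorus_iso _ (MaxTorConj.isMaximalTorus_bc hj y), ?_,
        (Over.pullback y).map t₀ ≫ (ActBC.bcCompIso y π C h).hom, ?_⟩
      · refine commutes_transport (ActBC.bcCompIso y π G h).hom (ActBC.bcCompIso y π C h).inv (𝟙 _) ?_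
          (Category.id_comp _) (commutes_bc hcc y)
        rw [ActBC.bcCompIso_hom_naturality, Iso.inv_hom_id_assoc]
      · rw [Category.assoc, ← ActBC.bcCompIso_hom_naturality, ← Functor.map_comp_assoc, ht₀]
    obtain ⟨hm₀, hC₀, w₀, hw₀⟩ := data x₀ rfl
    obtain ⟨hm₁, hC₁, w₁, hw₁⟩ := data x₁ hx₀₁.symm
    haveI := hm₀.1; haveI := hm₀.2.1; haveI := hm₁.1; haveI := hm₁.2.1
    obtain ⟨φ, hφ⟩ := S4120.result R (Red.bc d G) _ _ _ _ hm₁ hm₀.2.2.1 fun X t₁ t => by
      rw [show t ≫ (Over.pullback x₀).map j ≫ (ActBC.bcCompIso x₀ π G rfl).hom = (t ≫ w₀) ≫ (Over.pullback d).map c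
        by rw [Category.assoc, hw₀]]
      exact (hC₁ X (t ≫ w₀) t₁).eq.symm
    let s : R ⟶ pullback T.hom x₀ := pullback.lift v (𝟙 R) (by rw [hv, Category.id_comp])
    refine ⟨s ≫ φ.left ≫ pullback.fst T.hom x₁, ?_, ?_⟩
    · have e : φ.left ≫ pullback.snd T.hom x₁ = pullback.snd T.hom x₀ := Over.w φ
      rw [Category.assoc, Category.assoc, pullback.condition, reassoc_of% e, pullback.lift_snd_assoc, Category.id_comp]
    · have hl : ∀ (y : R ⟶ P) (h : y ≫ π = d),
          pullback.fst T.hom y ≫ j.left ≫ pullback.fst G.hom π =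
            ((Over.pullback y).map j ≫ (ActBC.bcCompIso y π G h).hom).left ≫ pullback.fst G.hom d := by
        intro y h
        rw [Over.comp_left, Category.assoc, ActBC.bcCompIso_hom_left_fst, ← Category.assoc, ← Category.assoc,
          ActBC.pullback_map_left_fst]
      rw [Category.assoc, Category.assoc, hl x₁ hx₀₁.symm, ← Category.assoc φ.left, ← Over.comp_left, hφ,
        ← hl x₀ rfl, pullback.lift_fst_assoc]
  obtain ⟨U, _, jU, hjU, hjUm, θ, hθm, hθ⟩ := MaxTorConj.exists_descend_subgroup π hcov j hswap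
  haveI := hjU; haveI := hjUm; haveI := hθm
  have hUt : Red.IsTorus U := by
    obtain ⟨S'', f, hflat, hsurj, hcovf, hloc⟩ := hj.2.2.1
    haveI := hflat; haveI := hsurj
    refine ⟨S'', f ≫ π, inferInstance, inferInstance, SubDesc.hcov_comp π f hcovf hcov, fun z => ?_⟩
    obtain ⟨V, hzV, r, ⟨e⟩⟩ := hloc z
    let g := V.ι ≫ f
    let b : Red.bc g (Red.bc π U) ≅ Red.bc (V.ι ≫ f ≫ π) U := ActBC.bcCompIso g π U (Category.assoc _ _ _)
    haveI : IsMonHom b.hom := ActBC.bcCompIso_isMonHom _ _ _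
    haveI : IsMonHom (M := Red.bc g (Red.bc π U)) (N := Red.bc g T) ((Over.pullback g).map θ.hom) :=
      DiagRep.isMonHom_bc_map g θ.hom
    let w : Red.bc (V.ι ≫ f ≫ π) U ≅ Red.bc g T := b.symm ≪≫ (Over.pullback g).mapIso θ
    haveI : IsMonHom w.hom := by
      show IsMonHom (b.inv ≫ (Over.pullback g).map θ.hom)
      infer_instance
    exact ⟨V, hzV, r, ⟨Grp.mkIso' w ≪≫ e⟩⟩
  have hUmax : Red.IsMaximalTorus jU := isMaximalTorus_of_bc hUt fun s => by
    obtain ⟨y, rfl⟩ := π.surjective s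
    exact ⟨P, π, y, rfl, hθ ▸ isMaximalTorus_precomp θ hj⟩
  let F := Over.pullback π
  have hUc : Red.IsCentralizerOf (G := Red.bc π G) (Z := Red.bc π C) (F.map jU) (F.map c) := by
    haveI : IsMonHom (Iso.refl (Red.bc π G)).hom := inferInstanceAs (IsMonHom (𝟙 _))
    haveI : IsMonHom (Iso.refl (Red.bc π C)).hom := inferInstanceAs (IsMonHom (𝟙 _))
    exact isCentralizerOf_transport (Iso.refl _) θ (Iso.refl _) (by simpa using hθ) (by simp [F]) hc
  have hUcc := commutes_of_centralizer hUc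
  refine ⟨U, inferInstance, jU, hUmax, inferInstance, inferInstance, fun X g => ⟨?_, fun hg => ?_⟩⟩
  · rintro ⟨z, rfl⟩ X' x t
    have hinj : ∀ {Y Z : Over S} (a b : Y ⟶ Z), F.map a = F.map b → a = b := fun {Y Z} a b h => by
      haveI : EffectiveEpi (pullback.fst Y.hom π) := DescHom.effectiveEpi_pullback_fst π hcov Y.hom
      refine Over.OverMorphism.ext ((cancel_epi (pullback.fst Y.hom π)).1 ?_)
      rw [← ActBC.pullback_map_left_fst π a, ← ActBC.pullback_map_left_fst π b, h]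
    apply hinj
    rw [← Category.assoc x]
    refine (Functor.map_mul F _ _).trans (Eq.trans ?_ (Functor.map_mul F _ _).symm)
    simp only [F.map_comp]
    exact (hUcc _ (F.map x ≫ F.map z) (F.map t)).eq
  · obtain ⟨z, hz⟩ := (hUc.2.2 _ (F.map g)).2 fun X' x t => by
      obtain ⟨x₀, hx₀⟩ : ∃ x₀ : (Over.map π).obj X' ⟶ X, (Over.mapPullbackAdj π).homEquiv X' X x₀ = x :=
        ⟨_, Equiv.apply_symm_apply _ _⟩
      obtain ⟨t₀, ht₀'⟩ : ∃ t₀ : (Over.map π).obj X' ⟶ U, (Over.mapPullbackAdj π).homEquiv X' U t₀ = t :=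
        ⟨_, Equiv.apply_symm_apply _ _⟩
      rw [← hx₀, ← ht₀', ← Adjunction.homEquiv_naturality_right, ← Adjunction.homEquiv_naturality_right]
      exact ((AlgGrp.Action.homEquiv_mul π _ _).symm.trans ((congrArg _ (hg _ x₀ t₀)).trans
        (AlgGrp.Action.homEquiv_mul π _ _)))
    exact MaxTorConj.factor_mono π hcov c g z hz

end Groth.Agent.TorsTuple
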