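import Groth.Agent.TorsTupleLib.Sigma
import Groth.Agent.TorsTupleLib.Pieces
import Groth.Agent.MaxTorConjLib.PreimageDesc
import Groth.Agent.DescLib.Family
import Groth.Agent.SubDescLib.Main

/-!
Arbitrary maximal tori over a disjoint union.
-/

set_option autoImplicit false
set_option linter.style.haveILetI false
set_option linter.unusedSectionVars false
set_option backward.isDefEq.respectTransparency false
set_option maxHeartbeats 2000000
set_option synthInstance.maxHeartbeats 400000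

noncomputable section

universe u

open CategoryTheory CategoryTheory.Limits MonoidalCategory CartesianMonoidalCategory AlgebraicGeometry
open scoped MonObj

attribute [-instance] CategoryTheory.Hom.commGroup

namespace Groth.Agent.TorsTuple

open Groth.Agent.BorelLib

variable {κ : Type u} {P : κ → Scheme.{u}} {S : Scheme.{u}} {G : Over S} [GrpObj G] (q : ∀ k, P k ⟶ S)

/-- **A group over a disjoint union which is a torus over each member is a torus.** -/
theorem isTorus_of_sigma {T : Over (∐ P)} [GrpObj T] {D : ∀ k, Over (P k)} [∀ k, GrpObj (D k)]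
    (θ : ∀ k, Red.bc (Sigma.ι P k) T ≅ D k) [∀ k, IsMonHom (θ k).hom] (h : ∀ k, Red.IsTorus (D k)) : Red.IsTorus T := by
  choose S'' f hfl hsu hcov hloc using h
  let π : ∐ S'' ⟶ ∐ P := Sigma.desc fun k => f k ≫ Sigma.ι P k
  have hπ : ∀ k, Sigma.ι S'' k ≫ π = f k ≫ Sigma.ι P k := fun k => Sigma.ι_desc _ k
  haveI : Flat π := by
    refine IsZariskiLocalAtSource.sigmaDesc fun k => ?_
    haveI := hfl k
    infer_instance
  haveI : Surjective π := ⟨fun z => by
    obtain ⟨k, y, rfl⟩ := DescLib.exists_sigma_mem z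
    obtain ⟨x, hx⟩ := (hsu k).surj y
    exact ⟨Sigma.ι S'' k x, by rw [← Scheme.Hom.comp_apply, hπ, Scheme.Hom.comp_apply, hx]⟩⟩
  refine ⟨∐ S'', π, inferInstance, inferInstance, fun V hV => ?_, fun z => ?_⟩
  · have hloc' : ∀ v : V, ∃ (k : κ) (B : (P k).Opens), IsAffineOpen B ∧ v.1 ∈ (Sigma.ι P k).base '' (B : Set (P k)) ∧
        B ≤ Sigma.ι P k ⁻¹ᵁ V := fun v => by
      obtain ⟨k, y, hy⟩ := DescLib.exists_sigma_mem v.1
      obtain ⟨B, hB, hyB, hBV⟩ := exists_isAffineOpen_mem_and_subset (X := P k) (x := y)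
        (U := Sigma.ι P k ⁻¹ᵁ V) (by show Sigma.ι P k y ∈ V; rw [hy]; exact v.2)
      exact ⟨k, B, hB, ⟨y, hyB, hy⟩, hBV⟩
    choose k B hB hvB hBV using hloc'
    obtain ⟨F, hF⟩ := hV.isCompact.elim_finite_subcover (fun v : V => (Sigma.ι P (k v)).base '' (B v : Set _))
      (fun v => (Sigma.ι P (k v)).isOpenMap _ (B v).isOpen) fun z hz => Set.mem_iUnion.2 ⟨⟨z, hz⟩, hvB ⟨z, hz⟩⟩
    choose K hKc hKi using fun v : V => hcov (k v) (B v) (hB v)
    refine ⟨⨆ v : F, (Sigma.ι S'' (k v.1)) ''ᵁ K v.1, ?_, Set.Subset.antisymm ?_ fun z hz => ?_⟩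
    · rw [TopologicalSpace.Opens.coe_iSup]
      exact isCompact_iUnion fun v => (hKc v.1).image (Sigma.ι S'' (k v.1)).continuous
    · rw [TopologicalSpace.Opens.coe_iSup, Set.image_iUnion]
      refine Set.iUnion_subset fun v => ?_
      rintro _ ⟨_, ⟨x, hx, rfl⟩, rfl⟩
      show π (Sigma.ι S'' (k v.1) x) ∈ V
      rw [← Scheme.Hom.comp_apply, hπ, Scheme.Hom.comp_apply]
      exact hBV v.1 ((hKi v.1).le ⟨x, hx, rfl⟩)
    · obtain ⟨v, hv, y, hy, rfl⟩ := Set.mem_iUnion₂.1 (hF hz)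
      obtain ⟨x, hx, rfl⟩ := (hKi v).ge hy
      refine ⟨Sigma.ι S'' (k v) x, TopologicalSpace.Opens.mem_iSup.2 ⟨⟨v, hv⟩, x, hx, rfl⟩, ?_⟩
      show π (Sigma.ι S'' (k v) x) = Sigma.ι P (k v) (f (k v) x)
      rw [← Scheme.Hom.comp_apply, hπ, Scheme.Hom.comp_apply]
  · obtain ⟨k, y, rfl⟩ := DescLib.exists_sigma_mem z
    obtain ⟨U₀, hy, r, ⟨e⟩⟩ := hloc k y
    haveI : IsOpenImmersion (Sigma.ι S'' k) := inferInstance
    let U := (Sigma.ι S'' k) ''ᵁ U₀
    let l : (U : Scheme.{u}) ⟶ (U₀ : Scheme.{u}) := IsOpenImmersion.lift (U₀.ι ≫ Sigma.ι S'' k) U.ι (by simp [U, Set.range_comp])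
    let g : (U : Scheme.{u}) ⟶ P k := l ≫ U₀.ι ≫ f k
    have hg : g ≫ Sigma.ι P k = U.ι ≫ π := by
      have hl : l ≫ U₀.ι ≫ Sigma.ι S'' k = U.ι := IsOpenImmersion.lift_fac _ _ _
      rw [← hl]
      simp only [g, Category.assoc, hπ]
    obtain ⟨E⟩ := DescHom.nonempty_iso_bc e (𝟙 (P k)) g l (by simp [g])
    let b' : Red.bc g (Red.bc (𝟙 (P k)) (D k)) ≅ Red.bc g (D k) :=
      ActBC.bcCompIso g (𝟙 (P k)) (D k) (Category.comp_id g)
    haveI : IsMonHom b'.hom := ActBC.bcCompIso_isMonHom _ _ _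
    haveI : IsMonHom b'.inv := inferInstance
    let b : Red.bc g (Red.bc (Sigma.ι P k) T) ≅ Red.bc (U.ι ≫ π) T := ActBC.bcCompIso g (Sigma.ι P k) T hg
    haveI : IsMonHom b.hom := ActBC.bcCompIso_isMonHom _ _ _
    haveI : IsMonHom b.inv := inferInstance
    haveI : IsMonHom ((Over.pullback g).map (θ k).hom) := DiagRep.isMonHom_bc_map g (θ k).hom
    let w : Red.bc (U.ι ≫ π) T ≅ Red.bc g (D k) := b.symm ≪≫ (Over.pullback g).mapIso (θ k)
    haveI : IsMonHom w.hom := by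
      show IsMonHom (b.inv ≫ (Over.pullback g).map (θ k).hom)
      infer_instance
    exact ⟨U, ⟨y, hy, rfl⟩, r, ⟨Grp.mkIso' w ≪≫ (Grp.mkIso' b').symm ≪≫ E⟩⟩

/-- **Maximal tori glue over a disjoint union.** -/
theorem exists_sigma_tori (D : ∀ k, Over (P k)) [∀ k, GrpObj (D k)] (i : ∀ k, D k ⟶ Red.bc (q k) G)
    (hi : ∀ k, Red.IsMaximalTorus (i k)) :
    ∃ (T : Over (∐ P)) (_ : GrpObj T) (j : T ⟶ Red.bc (Sigma.desc q) G)
      (θ : ∀ k, Red.bc (Sigma.ι P k) T ≅ D k), Red.IsMaximalTorus j ∧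
      ∀ k, (θ k).hom ≫ i k =
        (Over.pullback (Sigma.ι P k)).map j ≫ (ActBC.bcCompIso (Sigma.ι P k) (Sigma.desc q) G (Sigma.ι_desc q k)).hom := by
  haveI := fun k => (hi k).1
  haveI := fun k => (hi k).2.1
  let π := Sigma.desc q
  let T : Over (∐ P) := Over.mk (Limits.Sigma.map fun k => (D k).hom)
  let j : T ⟶ Red.bc π G := Over.homMk (pullback.lift (Sigma.desc fun k => (i k).left ≫ pullback.fst G.hom (q k))
    T.hom (Sigma.hom_ext _ _ fun k => by
      have e : (i k).left ≫ pullback.snd G.hom (q k) = (D k).hom := Over.w (i k)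
      show Sigma.ι (fun k => (D k).left) k ≫ _ ≫ G.hom =
        Sigma.ι (fun k => (D k).left) k ≫ Limits.Sigma.map (fun k => (D k).hom) ≫ π
      rw [Sigma.ι_desc_assoc, Sigma.ι_map_assoc, Sigma.ι_desc, Category.assoc, pullback.condition, reassoc_of% e]))
    (pullback.lift_snd _ _ _)
  have sq := fun k => (DescLib.isPullback_sigmaι_map (fun k => (D k).hom) k).flip
  let θ : ∀ k, Red.bc (Sigma.ι P k) T ≅ D k := fun k =>
    (Over.isoMk (sq k).isoPullback (by exact (sq k).isoPullback_hom_snd)).symm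
  let c := fun k => ActBC.bcCompIso (Sigma.ι P k) π G (Sigma.ι_desc q k)
  have hθ : ∀ k, (θ k).hom ≫ i k = (Over.pullback (Sigma.ι P k)).map j ≫ (c k).hom := fun k => by
    refine Over.OverMorphism.ext (pullback.hom_ext ?_ ?_)
    · rw [Over.comp_left, Over.comp_left, Category.assoc, Category.assoc, ActBC.bcCompIso_hom_left_fst,
        ← Category.assoc _ (pullback.fst (Red.bc π G).hom _), ActBC.pullback_map_left_fst, Category.assoc]
      erw [pullback.lift_fst]
      show (sq k).isoPullback.inv ≫ (i k).left ≫ pullback.fst G.hom (q k) = _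
      rw [Iso.inv_comp_eq, ← Category.assoc (sq k).isoPullback.hom]
      erw [(sq k).isoPullback_hom_fst]
      rw [Sigma.ι_desc]
    · exact (Over.w ((θ k).hom ≫ i k)).trans (Over.w ((Over.pullback (Sigma.ι P k)).map j ≫ (c k).hom)).symm
  haveI : ∀ k, IsMonHom (c k).hom := fun k => ActBC.bcCompIso_isMonHom _ _ _
  haveI : Mono j := ⟨fun {Y} a b hab => hom_ext_sigma fun k => by
    rw [← cancel_mono (θ k).hom, ← cancel_mono (i k), Category.assoc, Category.assoc, hθ,
      ← Functor.map_comp_assoc, ← Functor.map_comp_assoc, hab]⟩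
  have hback : ∀ {Y : Over (∐ P)} (y : Y ⟶ Red.bc π G),
      (∀ k, ∃ a : Red.bc (Sigma.ι P k) Y ⟶ D k, a ≫ i k = (Over.pullback (Sigma.ι P k)).map y ≫ (c k).hom) →
      ∃ h : Y ⟶ T, h ≫ j = y := by
    intro Y y hy
    choose a ha using hy
    haveI := isIso_sigma_desc (Y := Y)
    let e := Sigma.desc fun k => pullback.fst Y.hom (Sigma.ι P k)
    let hl : Y.left ⟶ T.left := inv e ≫ Sigma.desc fun k => (a k).left ≫ Sigma.ι (fun k => (D k).left) k
    let h : Y ⟶ T := Over.homMk hl (by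
      show (inv e ≫ _) ≫ T.hom = Y.hom
      rw [Category.assoc, IsIso.inv_comp_eq]
      refine Sigma.hom_ext _ _ fun k => ?_
      have ea : (a k).left ≫ (D k).hom = pullback.snd Y.hom (Sigma.ι P k) := Over.w (a k)
      show Sigma.ι _ k ≫ Sigma.desc _ ≫ Limits.Sigma.map (fun k => (D k).hom) = _
      rw [Sigma.ι_desc_assoc, Category.assoc, Sigma.ι_map, reassoc_of% ea, Sigma.ι_desc_assoc, pullback.condition])
    refine ⟨h, hom_ext_sigma fun k => ?_⟩
    have hk : (Over.pullback (Sigma.ι P k)).map h ≫ (θ k).hom = a k := by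
      rw [← Iso.eq_comp_inv]
      refine Over.OverMorphism.ext (pullback.hom_ext ?_ ?_)
      · rw [ActBC.pullback_map_left_fst, Over.comp_left, Category.assoc]
        show pullback.fst Y.hom _ ≫ hl = (a k).left ≫ (sq k).isoPullback.hom ≫ _
        erw [(sq k).isoPullback_hom_fst]
        rw [← Sigma.ι_desc (f := fun _ => _) (fun k => (a k).left ≫ Sigma.ι (fun k => (D k).left) k) k,
          ← Sigma.ι_desc (fun k => pullback.fst Y.hom (Sigma.ι P k)) k, Category.assoc]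
        simp [hl, e]
      · exact (Over.w _).trans (Over.w _).symm
    rw [← cancel_mono (c k).hom, Functor.map_comp, Category.assoc, ← hθ, ← Category.assoc, hk, ha]
  have hpt : ∀ k {Y : Over (∐ P)} (a : Y ⟶ T),
      ((Over.pullback (Sigma.ι P k)).map a ≫ (θ k).hom) ≫ i k = (Over.pullback (Sigma.ι P k)).map (a ≫ j) ≫ (c k).hom :=
    fun k {Y} a => by rw [Category.assoc, hθ, Functor.map_comp_assoc]
  have hmap1 : ∀ k {Y : Over (∐ P)}, (Over.pullback (Sigma.ι P k)).map (1 : Y ⟶ Red.bc π G) = 1 := fun k {Y} => by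
    have h := Functor.map_mul (Over.pullback (Sigma.ι P k)) (1 : Y ⟶ Red.bc π G) 1
    rw [_root_.one_mul] at h
    exact left_eq_mul.1 h
  obtain ⟨hgrp, hmon⟩ := SubDesc.exists_grpObj_of_mono j
    (hback ((fst T T ≫ j) * (snd T T ≫ j)) fun k =>
      ⟨((Over.pullback (Sigma.ι P k)).map (fst T T) ≫ (θ k).hom) * ((Over.pullback (Sigma.ι P k)).map (snd T T) ≫ (θ k).hom), by
        rw [MonObj.mul_comp, hpt, hpt, ← MonObj.mul_comp]
        exact congrArg (· ≫ (c k).hom) (Functor.map_mul _ _ _).symm⟩)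
    (hback (1 : 𝟙_ _ ⟶ Red.bc π G) fun k => ⟨1, by rw [MonObj.one_comp, hmap1, MonObj.one_comp]⟩)
    (hback j⁻¹ fun k => ⟨((θ k).hom)⁻¹, by
      rw [GrpObj.inv_comp, hθ, ← GrpObj.inv_comp]
      refine congrArg (· ≫ (c k).hom) (inv_eq_of_mul_eq_one_left ?_)
      exact (Functor.map_mul _ j⁻¹ j).symm.trans ((congrArg _ (inv_mul_cancel j)).trans (hmap1 k))⟩)
  letI := hgrp
  haveI := hmon
  haveI hθm : ∀ k, IsMonHom (M := Red.bc (Sigma.ι P k) T) (N := D k) (θ k).hom := fun k => by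
    haveI : IsMonHom (M := Red.bc (Sigma.ι P k) T) (N := Red.bc (Sigma.ι P k) (Red.bc π G))
      ((Over.pullback (Sigma.ι P k)).map j) := DiagRep.isMonHom_bc_map _ j
    haveI : IsMonHom ((θ k).hom ≫ i k) := by rw [hθ]; infer_instance
    exact DiagRep.isMonHom_of_comp_mono (θ k).hom (i k)
  have hT : Red.IsTorus T := isTorus_of_sigma θ fun k => (hi k).2.2.1
  refine ⟨T, hgrp, j, θ, isMaximalTorus_of_bc hT fun z => ?_, hθ⟩
  obtain ⟨k, y, rfl⟩ := DescLib.exists_sigma_mem z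
  refine ⟨P k, Sigma.ι P k, y, rfl, ?_⟩
  haveI : IsMonHom (c k).symm.hom := inferInstanceAs (IsMonHom (c k).inv)
  have h := MaxTorConj.isMaximalTorus_iso (c k).symm (isMaximalTorus_precomp (θ k) (hi k))
  rwa [hθ, Category.assoc, Iso.symm_hom, Iso.hom_inv_id, Category.comp_id] at h

end Groth.Agent.TorsTuple
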