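import Groth.Agent.TorsTupleLib.OrbitTorus
import Groth.Agent.TorsTupleLib.SigmaTori
import Groth.Agent.EtSectLib.Main

/-!
Maximal tori exist etale-locally.
-/

set_option autoImplicit false
set_option linter.style.haveILetI false
set_option linter.unusedSectionVars false
set_option backward.isDefEq.respectTransparency false
set_option maxHeartbeats 2000000
set_option synthInstance.maxHeartbeats 400000

noncomputable section

universe u

open CategoryTheory CategoryTheory.Limits MonoidalCategory CartesianMonoidalCategory AlgebraicGeometry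
open scoped MonObj

attribute [-instance] CategoryTheory.Hom.commGroup

namespace Groth.Agent.TorsTuple

open Groth.Agent.BorelLib

variable {S : Scheme.{u}} {G : Over S} [GrpObj G]

/-- Near each point a maximal torus exists on an etale neighbourhood. -/
theorem exists_etale_torus_at [Smooth G.hom] [IsSeparated G.hom] [QuasiCompact G.hom]
    (hG : SGA3x.HasMaxTorusFpqcLocally G) (s : S) :
    ∃ (S' : Scheme.{u}) (f : S' ⟶ S) (s' : S'), Etale f ∧ f s' = s ∧
      ∃ (T : Over S') (_ : GrpObj T) (i : T ⟶ Red.bc f G), Red.IsMaximalTorus i := by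
  obtain ⟨V, hV, hsV, -⟩ := exists_isAffineOpen_mem_and_subset (X := S) (x := s) (U := ⊤) trivial
  obtain ⟨V', hV'a, hV'cov, hV'u⟩ := exists_two_three hV
  obtain ⟨a, hsa⟩ : ∃ a, s ∈ V' a := by
    rw [← hV'cov] at hsV
    exact hsV.elim (fun h => ⟨true, h⟩) (fun h => ⟨false, h⟩)
  let ℓ : ℕ := if a then 2 else 3
  have hℓ : 1 < ℓ := by cases a <;> simp [ℓ]
  obtain ⟨J, hJ, W, q, hWa, hqf, hqc, hp⟩ := exists_pieces hG (hV'a a) hℓ (hV'u a)
  haveI := hJ
  let B : Scheme.{u} := (V' a : Scheme.{u})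
  let ι₀ : B ⟶ S := (V' a).ι
  haveI : IsAffine B := hV'a a
  let GV := Red.bc ι₀ G
  haveI : Smooth GV.hom := MorphismProperty.pullback_snd (P := @Smooth) _ _ inferInstance
  haveI : IsSeparated GV.hom := inferInstanceAs (IsSeparated (pullback.snd G.hom ι₀))
  haveI : QuasiCompact GV.hom := MorphismProperty.pullback_snd (P := @QuasiCompact) _ _ inferInstance
  have hr : ∀ j, Set.range (q j) ⊆ Set.range ι₀ := fun j => by
    rw [Scheme.Opens.range_ι, ← hqc]
    exact Set.subset_iUnion (fun j => Set.range (q j)) j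
  let q' : ∀ j, W j ⟶ B := fun j => IsOpenImmersion.lift ι₀ (q j) (hr j)
  have hq' : ∀ j, q' j ≫ ι₀ = q j := fun j => IsOpenImmersion.lift_fac _ _ _
  haveI : ∀ j, Flat (q' j) := fun j => by
    haveI : Flat (q' j ≫ ι₀) := by rw [hq']; exact hqf j
    exact flat_lift (q' j) ι₀
  haveI := hWa
  have hp' : ∀ j, Nonempty (Piece GV (q' j) ℓ) := fun j => by
    obtain ⟨p⟩ := hp j
    let e := (ActBC.bcCompIso (q' j) ι₀ G (hq' j)).symm
    haveI : IsMonHom e.hom := by
      haveI : IsMonHom (ActBC.bcCompIso (q' j) ι₀ G (hq' j)).hom := ActBC.bcCompIso_isMonHom _ _ _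
      exact inferInstanceAs (IsMonHom (ActBC.bcCompIso (q' j) ι₀ G (hq' j)).inv)
    exact ⟨⟨p.r, p.v ≫ e.hom, MaxTorConj.isMaximalTorus_iso e p.isMax, p.roots⟩⟩
  obtain ⟨m, hm⟩ := exists_levelPieces q' hℓ fun j => (hp' j).some
  let n := ℓ ^ m
  haveI : NeZero n := ⟨pow_ne_zero _ (by omega)⟩
  let p : ∀ j, LevelPiece GV (q' j) n := fun j => (hm j).some
  have hn : IsUnit (n : Γ(B, ⊤)) := by
    have h := (hV'u a).map (V' a).topIso.inv.hom
    rw [map_natCast] at h
    rw [show (n : Γ(B, ⊤)) = (ℓ : Γ(B, ⊤)) ^ m by simp [n]]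
    exact h.pow m
  have hs' : s ∈ (V' a : Set S) := hsa
  rw [← hqc] at hs'
  obtain ⟨j₀, w₀, hw₀⟩ := Set.mem_iUnion.1 hs'
  obtain ⟨Q⟩ := nonempty_tupleScheme GV n (Fintype.card (Fin (p j₀).r → Fin n))
  have hcov : ∀ t : B, ∃ j, t ∈ Set.range (q' j) := fun t => by
    have ht : ι₀ t ∈ (V' a : Set S) := t.2
    rw [← hqc] at ht
    obtain ⟨j, w, hw⟩ := Set.mem_iUnion.1 ht
    refine ⟨j, w, ι₀.isOpenEmbedding.injective ?_⟩
    rw [← Scheme.Hom.comp_apply, hq']
    exact hw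
  obtain ⟨U, T, _, i, hi, hrange⟩ := exists_torus_orbit_open hn Q p hcov
  let φ : (U : Scheme.{u}) ⟶ B := U.ι ≫ Q.obj.hom
  haveI := Q.smooth hn
  haveI : Smooth φ := inferInstanceAs (Smooth (U.ι ≫ Q.obj.hom))
  haveI : Smooth (φ ≫ ι₀) := inferInstance
  have hsr : s ∈ Set.range (φ ≫ ι₀) := by
    obtain ⟨u', hu'⟩ := hrange ⟨j₀, (Fintype.equivFin _).symm⟩ ⟨w₀, rfl⟩
    refine ⟨u', ?_⟩
    rw [Scheme.Hom.comp_apply, show φ u' = q' j₀ w₀ from hu', ← Scheme.Hom.comp_apply, hq']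
    exact hw₀
  obtain ⟨S', g, s', hg, hgs, k, hk⟩ := EtSectLib.exists_section (φ ≫ ι₀) s hsr
  haveI : Smooth (Red.bc φ GV).hom := MorphismProperty.pullback_snd (P := @Smooth) _ _ inferInstance
  haveI : QuasiCompact (Red.bc φ GV).hom := MorphismProperty.pullback_snd (P := @QuasiCompact) _ _ inferInstance
  let e₁ : Red.bc k (Red.bc φ GV) ≅ Red.bc (k ≫ φ) GV := ActBC.bcCompIso k φ GV rfl
  let e₂ : Red.bc (k ≫ φ) GV ≅ Red.bc g G := ActBC.bcCompIso (k ≫ φ) ι₀ G ((Category.assoc _ _ _).trans hk)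
  haveI : IsMonHom e₁.hom := ActBC.bcCompIso_isMonHom _ _ _
  haveI : IsMonHom e₂.hom := ActBC.bcCompIso_isMonHom _ _ _
  haveI : IsMonHom (e₁ ≪≫ e₂).hom := inferInstanceAs (IsMonHom (e₁.hom ≫ e₂.hom))
  exact ⟨S', g, s', hg, hgs, Red.bc k T, inferInstance, (Over.pullback k).map i ≫ (e₁ ≪≫ e₂).hom,
    MaxTorConj.isMaximalTorus_iso (e₁ ≪≫ e₂) (MaxTorConj.isMaximalTorus_bc hi k)⟩

/-- **Maximal tori exist etale-locally.** -/
theorem hasMaxTorusEtaleLocally [Smooth G.hom] [IsSeparated G.hom] [QuasiCompact G.hom]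
    (hG : SGA3x.HasMaxTorusFpqcLocally G) : SGA3x.HasMaxTorusEtaleLocally G := by
  choose S' f s' hf hs T hT i hi using fun s : S => exists_etale_torus_at hG s
  letI := hT
  haveI : Etale (Sigma.desc f) := IsZariskiLocalAtSource.sigmaDesc hf
  haveI : Surjective (Sigma.desc f) := ⟨fun s => ⟨Sigma.ι S' s (s' s), by
    rw [← Scheme.Hom.comp_apply, Sigma.ι_desc]; exact hs s⟩⟩
  obtain ⟨T', hT', j, θ, hj, -⟩ := exists_sigma_tori (q := f) T i hi
  exact ⟨∐ S', Sigma.desc f, inferInstance, inferInstance, T', hT', j, hj⟩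

end Groth.Agent.TorsTuple
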