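import Groth.Agent.TorsTupleLib.SubTorus
import Groth.Agent.RedRankLib.CommRel

/-!
Subgroups containing Cartan subgroups have maximal tori fpqc-locally.
-/

set_option autoImplicit false
set_option linter.style.haveILetI false
set_option linter.unusedSectionVars false
set_option backward.isDefEq.respectTransparency false
set_option maxHeartbeats 2000000
set_option synthInstance.maxHeartbeats 400000

noncomputable section

universe u

open CategoryTheory CategoryTheory.Limits MonoidalCategory CartesianMonoidalCategory AlgebraicGeometry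
open scoped MonObj

attribute [-instance] CategoryTheory.Hom.commGroup

namespace Groth.Agent.TorsTuple

open Groth.Agent.BorelLib

/-- At every geometric point the subgroup contains the centralizer of a maximal torus. -/
def HasCartanIn {S : Scheme.{u}} {G H : Over S} [GrpObj G] (i : H ⟶ G) : Prop :=
  ∀ (K : Type u) [Field K] [IsAlgClosed K] (ξ : Spec (CommRingCat.of K) ⟶ S),
    ∃ (T' : Over (Spec (CommRingCat.of K))) (_ : GrpObj T') (i' : T' ⟶ Red.bc ξ G), Red.IsMaximalTorus i' ∧
      ∀ (X : Over (Spec (CommRingCat.of K))) (g : X ⟶ Red.bc ξ G),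
        (∀ (X' : Over (Spec (CommRingCat.of K))) (x : X' ⟶ X) (t : X' ⟶ T'),
          (x ≫ g) * (t ≫ i') = (t ≫ i') * (x ≫ g)) → ∃ y, y ≫ (Over.pullback ξ).map i = g

theorem hasCartanIn_bc {S : Scheme.{u}} {G H : Over S} [GrpObj G] (i : H ⟶ G) (h : HasCartanIn i) {W : Scheme.{u}}
    (q : W ⟶ S) : HasCartanIn (G := Red.bc q G) ((Over.pullback q).map i) := fun K _ _ ξ => by
  obtain ⟨T', _, i', hi', hfac⟩ := h K (ξ ≫ q)
  let eG : Red.bc ξ (Red.bc q G) ≅ Red.bc (ξ ≫ q) G := ActBC.bcCompIso ξ q G rfl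
  let eH := ActBC.bcCompIso ξ q H rfl
  haveI : IsMonHom eG.hom := ActBC.bcCompIso_isMonHom _ _ _
  haveI : IsMonHom eG.symm.hom := inferInstanceAs (IsMonHom eG.inv)
  refine ⟨T', inferInstance, i' ≫ eG.inv, MaxTorConj.isMaximalTorus_iso eG.symm hi', fun X g hg => ?_⟩
  obtain ⟨y, hy⟩ := hfac X (g ≫ eG.hom) fun X' x t => by
    have e := congrArg (· ≫ eG.hom) (hg X' x t)
    simp only [MonObj.mul_comp, Category.assoc, Iso.inv_hom_id, Category.comp_id] at e
    exact e
  refine ⟨y ≫ eH.inv, ?_⟩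
  rw [← cancel_mono eG.hom, Category.assoc, Category.assoc, ActBC.bcCompIso_hom_naturality ξ q rfl i,
    Iso.inv_hom_id_assoc, hy]

/-- From the geometric fibres to all geometric points. -/
theorem hasCartanIn_of_fibres {S : Scheme.{u}} {G H : Over S} [GrpObj G] [GrpObj H] [Smooth G.hom] [QuasiCompact G.hom]
    (i : H ⟶ G) (h : ∀ s : S, ∃ (C' : Over (Spec (CommRingCat.of (AlgebraicClosure (S.residueField s))))) (_ : GrpObj C')
      (c' : C' ⟶ Red.geomFibre s H), SGA3x.IsCartanOver _ (c' ≫ (Over.pullback (Red.geomPt s)).map i)) :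
    HasCartanIn i := fun K _ _ ξ => by
  let s := ξ (IsLocalRing.closedPoint K)
  obtain ⟨l, hl⟩ := _root_.MaxTorusRank.exists_lift_geomPt ξ s rfl
  obtain ⟨C', _, c', hC'⟩ := h s
  haveI : Smooth (Red.geomFibre s G).hom := MorphismProperty.pullback_snd (P := @Smooth) _ _ inferInstance
  haveI : QuasiCompact (Red.geomFibre s G).hom := MorphismProperty.pullback_snd (P := @QuasiCompact) _ _ inferInstance
  obtain ⟨-, -, T', _, i', hi', hc⟩ := isCartanOver_bc l hC'
  let eG : Red.bc l (Red.geomFibre s G) ≅ Red.bc ξ G := ActBC.bcCompIso l (Red.geomPt s) G hl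
  let eH := ActBC.bcCompIso l (Red.geomPt s) H hl
  haveI : IsMonHom eG.hom := ActBC.bcCompIso_isMonHom _ _ _
  refine ⟨T', inferInstance, i' ≫ eG.hom, MaxTorConj.isMaximalTorus_iso eG hi', fun X g hg => ?_⟩
  haveI : IsMonHom eG.inv := inferInstance
  obtain ⟨y, hy⟩ := (hc.2.2 X (g ≫ eG.inv)).2 fun X' x t => by
    have e := congrArg (· ≫ eG.inv) (hg X' x t)
    simp only [MonObj.mul_comp, Category.assoc, Iso.hom_inv_id, Category.comp_id] at e
    exact e
  refine ⟨y ≫ (Over.pullback l).map c' ≫ eH.hom, ?_⟩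
  rw [Category.assoc, Category.assoc, ← ActBC.bcCompIso_hom_naturality l (Red.geomPt s) hl i, ← Functor.map_comp_assoc,
    ← Category.assoc, hy, Category.assoc, Iso.inv_hom_id, Category.comp_id]

variable {S : Scheme.{u}}

/-- **A smooth subgroup containing Cartan subgroups has maximal tori fpqc-locally.** -/
theorem exists_sub_torus_cover {G : Over S} [GrpObj G] [Smooth G.hom] [IsSeparated G.hom] [QuasiCompact G.hom]
    (hG : SGA3x.HasMaxTorusFpqcLocally G) {H : Over S} [GrpObj H] [Smooth H.hom] [QuasiCompact H.hom] (i : H ⟶ G)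
    [IsMonHom i] [Mono i] (hconn : ∀ s : S, _root_.IsConnected (G.hom.base ⁻¹' {s}))
    (hH : HasCartanIn i) : SGA3x.HasMaxTorusFpqcLocally H := by
  choose V' hV'a hV'cov hV'u using fun V : {V : S.Opens // IsAffineOpen V} => exists_two_three V.2
  choose J hJ W q hWa hqf hqc hp using fun (V : {V : S.Opens // IsAffineOpen V}) (a : Bool) =>
    exists_pieces hG (hV'a V a) (ℓ := if a then 2 else 3) (by cases a <;> norm_num) (hV'u V a)
  have hloc : ∀ V a (j : J V a), ∃ (r : ℕ) (P : Scheme.{u}) (f : P ⟶ W V a j)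
      (v : Red.DS P (Fin r → ℤ) ⟶ Red.bc (f ≫ q V a j) H), Smooth f ∧ Surjective f ∧ Red.IsMaximalTorus v := by
    intro V a j
    obtain ⟨p⟩ := hp V a j
    haveI := hWa V a j
    let GW := Red.bc (q V a j) G
    haveI : Smooth GW.hom := MorphismProperty.pullback_snd (P := @Smooth) _ _ inferInstance
    haveI : IsSeparated GW.hom := inferInstanceAs (IsSeparated (pullback.snd G.hom (q V a j)))
    haveI : QuasiCompact GW.hom := MorphismProperty.pullback_snd (P := @QuasiCompact) _ _ inferInstance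
    haveI : Smooth (Red.bc (q V a j) H).hom := MorphismProperty.pullback_snd (P := @Smooth) _ _ inferInstance
    haveI : QuasiCompact (Red.bc (q V a j) H).hom := MorphismProperty.pullback_snd (P := @QuasiCompact) _ _ inferInstance
    haveI := DiagRep.isMonHom_bc_map (q V a j) i
    haveI := mono_bc (q V a j) i
    obtain ⟨P, f, vH, hfs, hfj, hv⟩ := exists_sub_torus_local ((Over.pullback (q V a j)).map i)
      (fun K _ _ ξ => by
        haveI := connected_geom hconn (ξ ≫ q V a j)
        let e : Red.bc ξ GW ≅ Red.bc (ξ ≫ q V a j) G := ActBC.bcCompIso ξ (q V a j) G rfl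
        haveI : IsIso e.inv.left := ((Over.forget _).mapIso e).isIso_inv
        exact (Scheme.Hom.surjective e.inv.left).connectedSpace e.inv.left.continuous)
      (hasCartanIn_bc i hH (q V a j)) p.roots p.v p.isMax
    let eH := ActBC.bcCompIso f (q V a j) H rfl
    haveI : IsMonHom eH.hom := ActBC.bcCompIso_isMonHom _ _ _
    exact ⟨p.r, P, f, vH ≫ eH.hom, hfs, hfj, MaxTorConj.isMaximalTorus_iso eH hv⟩
  choose r P f v hfs hfj hv using hloc
  let κ := Σ (V : {V : S.Opens // IsAffineOpen V}) (a : Bool), J V a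
  let P' : κ → Scheme.{u} := fun k => P k.1 k.2.1 k.2.2
  let q' : ∀ k : κ, P' k ⟶ S := fun k => f k.1 k.2.1 k.2.2 ≫ q k.1 k.2.1 k.2.2
  let π : ∐ P' ⟶ S := Sigma.desc q'
  haveI : Flat π := by
    refine IsZariskiLocalAtSource.sigmaDesc fun k => ?_
    haveI := hfs k.1 k.2.1 k.2.2
    haveI := hqf k.1 k.2.1 k.2.2
    infer_instance
  have hcov : ∀ V : S.Opens, IsAffineOpen V →
      ∃ U : (∐ P').Opens, IsCompact (U : Set ↥(∐ P')) ∧ π.base '' (U : Set ↥(∐ P')) = (V : Set S) := by
    intro V hV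
    let V₀ : {V : S.Opens // IsAffineOpen V} := ⟨V, hV⟩
    have hK : ∀ (a : Bool) (j : J V₀ a), ∃ K : (P V₀ a j).Opens, IsCompact (K : Set (P V₀ a j)) ∧
        (f V₀ a j).base '' (K : Set (P V₀ a j)) = Set.univ := fun a j => by
      haveI := hfs V₀ a j
      haveI := hfj V₀ a j
      haveI := hWa V₀ a j
      exact RedRank.hcov_of_open (f V₀ a j) ⊤ (isAffineOpen_top _)
    choose K hKc hKi using hK
    haveI : ∀ a, Finite (J V₀ a) := hJ V₀
    let ι' : ∀ (x : Σ a, J V₀ a), P V₀ x.1 x.2 ⟶ ∐ P' := fun x => Sigma.ι P' ⟨V₀, x.1, x.2⟩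
    refine ⟨⨆ x : Σ a, J V₀ a, (ι' x) ''ᵁ K x.1 x.2, ?_, ?_⟩
    · rw [TopologicalSpace.Opens.coe_iSup]
      exact isCompact_iUnion fun x => (hKc x.1 x.2).image (ι' x).continuous
    · rw [TopologicalSpace.Opens.coe_iSup, Set.image_iUnion]
      have hx : ∀ x : Σ a, J V₀ a, π.base '' ((ι' x) ''ᵁ K x.1 x.2 : Set ↥(∐ P')) = Set.range (q V₀ x.1 x.2) := by
        intro x
        show π.base '' ((ι' x).base '' (K x.1 x.2 : Set _)) = _
        rw [← Set.image_univ, ← hKi x.1 x.2, Set.image_image, Set.image_image]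
        refine Set.image_congr fun y _ => ?_
        show π (ι' x y) = q V₀ x.1 x.2 (f V₀ x.1 x.2 y)
        rw [← Scheme.Hom.comp_apply, ← Scheme.Hom.comp_apply, Sigma.ι_desc]
      simp only [hx]
      rw [Set.iUnion_sigma]
      simp only [hqc]
      rw [show (V : Set S) = ((V' V₀ true ⊔ V' V₀ false : S.Opens) : Set S) from congrArg _ (hV'cov V₀).symm,
        TopologicalSpace.Opens.coe_sup]
      exact Set.ext fun s => by simp [or_comm]
  haveI : Surjective π := ⟨fun s => by
    obtain ⟨V, hV, hsV, -⟩ := exists_isAffineOpen_mem_and_subset (X := S) (x := s) (U := ⊤) trivial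
    obtain ⟨U, -, hU⟩ := hcov V hV
    have hs' : s ∈ (V : Set S) := hsV
    rw [← hU] at hs'
    obtain ⟨y, -, hy⟩ := hs'
    exact ⟨y, hy⟩⟩
  obtain ⟨T, _, j, θ, hj, hθ⟩ := exists_sigma_torus (q := q') (fun k => r k.1 k.2.1 k.2.2)
    (fun k => v k.1 k.2.1 k.2.2) fun k => hv k.1 k.2.1 k.2.2
  exact ⟨∐ P', π, inferInstance, inferInstance, hcov, T, inferInstance, j, hj⟩

end Groth.Agent.TorsTuple
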