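import Groth.Agent.BorelLib.RedTorus
import Groth.Agent.BorelLib.MaxTorGeom
import Groth.Agent.RCentreLib.SelfCent
import Groth.Agent.RCentreLib.Nilp
import Groth.Agent.S3006
import Groth.Agent.TorsTupleLib.SubTorusCover
import Groth.Agent.S4115

/-!
Maximal tori of reductive groups.
-/

set_option autoImplicit false
set_option linter.style.haveILetI false
set_option linter.unusedSectionVars false
set_option backward.isDefEq.respectTransparency false
set_option maxHeartbeats 2000000
set_option synthInstance.maxHeartbeats 400000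

noncomputable section

universe u

open CategoryTheory CategoryTheory.Limits MonoidalCategory CartesianMonoidalCategory AlgebraicGeometry
open scoped MonObj

attribute [-instance] CategoryTheory.Hom.commGroup

namespace Groth.Agent.TorsTuple

open Groth.Agent.BorelLib
open CoactBr (sp)

attribute [local instance] BorelLib.pTop BorelLib.pTopTensor

/-- **Over an algebraically closed field a maximal torus of a reductive group is its own centralizer.** -/
theorem isCentralizerOf_self_of_isReductiveOver {k : Type u} [Field k] [IsAlgClosed k]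
    {G : Over (Spec (CommRingCat.of k))} [GrpObj G] (hG : Red.IsReductiveOver k G)
    {T : Over (Spec (CommRingCat.of k))} [GrpObj T] {iT : T ⟶ G} (hT : Red.IsMaximalTorus iT) :
    Red.IsCentralizerOf iT iT := by
  obtain ⟨haff, hsm, hconn, -⟩ := id hG
  haveI := haff; haveI := hsm; haveI := hconn
  haveI := hT.1; haveI := hT.2.1
  obtain ⟨A, _, _, v, hv, hA, hAr⟩ := exists_setup G
  haveI := hv; haveI := hA; haveI := hAr
  have hred := isRedPts_of_isReductiveOver v hG
  let s : ↥(Spec (CommRingCat.of k)) := (inferInstance : Nonempty ↥(Spec (CommRingCat.of k))).some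
  obtain ⟨hTcl, hTs, hTc, -⟩ := subtorus_facts s iT hT.2.2.1
  haveI := hTcl; haveI := hTs; haveI := hTc
  obtain ⟨⟨C, _, c, hc, hcl, -⟩, -⟩ := S3006.result _ G T iT hTcl hT.2.2.1
  haveI := hc.1; haveI := hc.2.1
  obtain ⟨hCs, -, hp⟩ := centralizer_facts v iT hT.2.2.1 hc
  haveI := hCs; haveI := hcl
  haveI : AlgebraicGeometry.IsReduced T.left := AlgSpLib.isReduced_of_smooth T.hom
  haveI : AlgebraicGeometry.IsReduced C.left := AlgSpLib.isReduced_of_smooth C.hom
  have hpts : ptsSub v c = ptsSub v iT := by
    rw [hp]
    exact hred.centralizer_eq (isPreconnected_univ_of_connected v)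
      (isMaxTor_ptsSub v (BorelLib.isMaxTorus_of_isMaximalTorus hT))
  obtain ⟨e, he⟩ := NA.exists_iso_of_pts iT c fun x => by
    have h := SetLike.ext_iff.1 hpts ((ptEquiv v).symm x)
    rw [mem_ptsSub, mem_ptsSub, (ptEquiv v).apply_symm_apply] at h
    exact h.symm
  refine ⟨inferInstance, inferInstance, fun X g => ⟨?_, fun hg => ?_⟩⟩
  · rintro ⟨z, rfl⟩
    exact (hc.2.2 X _).1 ⟨z ≫ e.hom, by rw [Category.assoc, he]⟩
  · obtain ⟨z, hz⟩ := (hc.2.2 X g).2 hg
    exact ⟨z ≫ e.inv, by rw [Category.assoc, ← he, Iso.inv_hom_id_assoc, hz]⟩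

variable {S : Scheme.{u}} {G : Over S} [GrpObj G]

theorem unipotentRankZero_of_isReductive (hG : Red.IsReductive G) : SGA3x.UnipotentRankZero G :=
  fun s T _ i hi => isCentralizerOf_self_of_isReductiveOver (hG.2.2 s) hi

/-- **A reductive group has maximal tori locally for the etale topology.** -/
theorem hasMaxTorus_of_isReductive (hG : Red.IsReductive G) : SGA3x.HasMaxTorusEtaleLocally G := by
  haveI := hG.1; haveI := hG.2.1
  exact (S4115.result S G).1 (RCentre.redRank_of_rankZero G
    (fun s => haveI := (hG.2.2 s).2.2.1; CentPre.isConnected_fibre_of_geom G s) (unipotentRankZero_of_isReductive hG))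

/-- **A reductive group has maximal tori locally for the fpqc topology.** -/
theorem hasMaxTorusFpqc_of_isReductive (hG : Red.IsReductive G) : SGA3x.HasMaxTorusFpqcLocally G := by
  obtain ⟨S', f, hf, hs, hT⟩ := hasMaxTorus_of_isReductive hG
  haveI := hf; haveI := hs
  exact ⟨S', f, inferInstance, inferInstance, fun V hV => RedRank.hcov_of_open f V hV, hT⟩

end Groth.Agent.TorsTuple
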