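import Groth.Agent.AbSchLib.Flat
import Groth.Agent.BorelLib.ImageField
import Groth.Agent.BorelLib.RedTorus
import Mathlib.AlgebraicGeometry.Morphisms.FlatMono

/-!
Isomorphisms between flat schemes are read on geometric fibres.
-/

set_option autoImplicit false
set_option linter.style.haveILetI false
set_option linter.unusedSectionVars false
set_option backward.isDefEq.respectTransparency false
set_option maxHeartbeats 1000000
set_option synthInstance.maxHeartbeats 400000

noncomputable section

universe u

open CategoryTheory CategoryTheory.Limits MonoidalCategory CartesianMonoidalCategory AlgebraicGeometry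
open scoped MonObj

namespace Groth.Agent.TorsTuple

variable {S : Scheme.{u}}

/-- A monomorphism from a flat scheme which is an isomorphism on geometric fibres is an isomorphism. -/
theorem isIso_of_mono_geom {X Y : Over S} (f : X ⟶ Y) [Mono f] [Flat X.hom] [LocallyOfFinitePresentation X.hom]
    [LocallyOfFiniteType Y.hom]
    (h : ∀ (K : Type u) [Field K] [IsAlgClosed K] (ξ : Spec (CommRingCat.of K) ⟶ S),
      IsIso ((Over.pullback ξ).map f)) : IsIso f := by
  haveI : Flat f.left := AbSchLib.flat_of_geometric_fibres f fun K _ _ ξ => by
    haveI := h K ξ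
    haveI : IsIso ((Over.pullback ξ).map f).left :=
      inferInstanceAs (IsIso ((Over.forget _).map ((Over.pullback ξ).map f)))
    infer_instance
  haveI : Mono f.left := inferInstanceAs (Mono ((Over.forget S).map f))
  haveI : LocallyOfFinitePresentation f.left := by
    haveI : LocallyOfFinitePresentation (f.left ≫ Y.hom) := by rw [Over.w f]; infer_instance
    exact AlgSpLib.lfp_of_comp_lft f.left Y.hom
  haveI : IsOpenImmersion f.left := IsOpenImmersion.of_flat_of_mono f.left
  haveI : Surjective f.left := ⟨fun y => by
    let s := Y.hom y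
    let ξ : Spec (CommRingCat.of (AlgebraicClosure (S.residueField s))) ⟶ S := Red.geomPt s
    obtain ⟨y', hy'⟩ : y ∈ Set.range (pullback.fst Y.hom ξ) := by
      rw [Scheme.Pullback.range_fst]
      exact ⟨IsLocalRing.closedPoint _, RedRank.geomPt_apply _⟩
    haveI := h _ ξ
    haveI : IsIso ((Over.pullback ξ).map f).left :=
      inferInstanceAs (IsIso ((Over.forget _).map ((Over.pullback ξ).map f)))
    obtain ⟨z, hz⟩ := (Scheme.Hom.surjective ((Over.pullback ξ).map f).left) y'
    refine ⟨pullback.fst X.hom ξ z, ?_⟩
    rw [← Scheme.Hom.comp_apply, ← ActBC.pullback_map_left_fst ξ f, Scheme.Hom.comp_apply]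
    exact (congrArg _ hz).trans hy'⟩
  haveI : IsIso ((Over.forget S).map f) := (isIso_iff_isOpenImmersion_and_surjective (f := f.left)).2 ⟨‹_›, ‹_›⟩
  exact isIso_of_reflects_iso f (Over.forget S)

/-- A surjective closed immersion of smooth schemes is an isomorphism. -/
theorem isIso_of_closed_surjective {X Y : Over S} (f : X ⟶ Y) [IsClosedImmersion f.left] [Surjective f.left]
    [Smooth X.hom] [Smooth Y.hom] : IsIso f := by
  haveI : Mono f := Over.mono_of_mono_left f
  refine isIso_of_mono_geom f fun K _ _ ξ => ?_
  haveI : IsClosedImmersion ((Over.pullback ξ).map f).left := BorelLib.isClosedImmersion_bc ξ f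
  haveI : Surjective ((Over.pullback ξ).map f).left := BorelLib.surjective_bc ξ f
  haveI : Smooth ((Over.pullback ξ).obj Y).hom := MorphismProperty.pullback_snd (P := @Smooth) _ _ inferInstance
  haveI : AlgebraicGeometry.IsReduced ((Over.pullback ξ).obj Y).left :=
    AlgSpLib.isReduced_of_smooth ((Over.pullback ξ).obj Y).hom
  haveI : IsIso ((Over.forget _).map ((Over.pullback ξ).map f)) :=
    isIso_of_isClosedImmersion_of_surjective ((Over.pullback ξ).map f).left
  exact isIso_of_reflects_iso ((Over.pullback ξ).map f) (Over.forget _)

end Groth.Agent.TorsTuple
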