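import Groth.Agent.TorsTupleLib.SepPoints

/-!
Schematic density of rational slices.
-/

set_option autoImplicit false
set_option linter.style.haveILetI false
set_option linter.unusedSectionVars false
set_option backward.isDefEq.respectTransparency false
set_option maxHeartbeats 2000000
set_option synthInstance.maxHeartbeats 400000

noncomputable section

universe u

open CategoryTheory CategoryTheory.Limits MonoidalCategory CartesianMonoidalCategory AlgebraicGeometry
open scoped MonObj TensorProduct

attribute [-instance] CategoryTheory.Hom.commGroup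

namespace Groth.Agent.TorsTuple

variable {k : Type u} [Field k]

/-- An element of a tensor product vanishing on all rational slices is zero. -/
theorem tensor_eq_zero_of_slices {A B : Type u} [CommRing A] [CommRing B] [Algebra k A] [Algebra k B]
    [_root_.IsReduced A] (hd : Dense {p : PrimeSpectrum A | ∃ φ : A →ₐ[k] k, p.asIdeal = RingHom.ker φ})
    (z : A ⊗[k] B) (h : ∀ φ : A →ₐ[k] k, Algebra.TensorProduct.map φ (AlgHom.id k B) z = 0) : z = 0 := by
  classical
  let b := Module.Basis.ofVectorSpace k B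
  let e := TensorProduct.equivFinsuppOfBasisRight (M := A) b
  let e' := TensorProduct.equivFinsuppOfBasisRight (M := k) b
  have key : ∀ (φ : A →ₐ[k] k) (w : A ⊗[k] B) i,
      e' (Algebra.TensorProduct.map φ (AlgHom.id k B) w) i = φ (e w i) := by
    intro φ w i
    induction w using TensorProduct.induction_on with
    | zero => simp
    | tmul a c =>
      rw [Algebra.TensorProduct.map_tmul]
      simp [e, e', TensorProduct.equivFinsuppOfBasisRight_apply_tmul_apply]
    | add x y hx hy => simp [map_add, hx, hy]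
  apply e.injective
  ext i
  rw [map_zero, Finsupp.zero_apply]
  have hnil : IsNilpotent (e z i) := by
    rw [← mem_nilradical, nilradical_eq_sInf, Ideal.mem_sInf]
    intro P hP
    have hsub : {p : PrimeSpectrum A | ∃ φ : A →ₐ[k] k, p.asIdeal = RingHom.ker φ} ⊆
        PrimeSpectrum.zeroLocus {e z i} := by
      rintro p ⟨φ, hp⟩
      rw [PrimeSpectrum.mem_zeroLocus, Set.singleton_subset_iff, SetLike.mem_coe, hp, RingHom.mem_ker]
      rw [← key φ z i, h φ, map_zero, Finsupp.zero_apply]
    have := closure_minimal hsub (PrimeSpectrum.isClosed_zeroLocus _) (hd ⟨P, hP⟩)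
    exact Set.singleton_subset_iff.1 this
  exact hnil.eq_zero

/-- The algebra of functions of an affine scheme over a field. -/
theorem exists_specIso (X : Over (Spec (CommRingCat.of k))) [IsAffine X.left] :
    ∃ (A : Type u) (_ : CommRing A) (_ : Algebra k A) (e : X.left ≅ Spec (CommRingCat.of A)),
      e.hom ≫ Spec.map (CommRingCat.ofHom (algebraMap k A)) = X.hom := by
  letI : Algebra k Γ(X.left, ⊤) := (Spec.preimage (X.left.isoSpec.inv ≫ X.hom)).hom.toAlgebra
  refine ⟨Γ(X.left, ⊤), inferInstance, inferInstance, X.left.isoSpec, ?_⟩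
  rw [show CommRingCat.ofHom (algebraMap k Γ(X.left, ⊤)) = Spec.preimage (X.left.isoSpec.inv ≫ X.hom) from rfl,
    Spec.map_preimage, Iso.hom_inv_id_assoc]

/-- **A morphism factors through a closed subscheme as soon as its rational slices do.** -/
theorem factor_of_slices {G X Y T : Over (Spec (CommRingCat.of k))} [IsAffine G.left]
    [AlgebraicGeometry.IsReduced G.left] [IsAffine X.left] (i : T ⟶ Y) [IsClosedImmersion i.left] (u : G ⊗ X ⟶ Y)
    (hd : Dense {x : ↥G.left | ∃ p : 𝟙_ (Over (Spec (CommRingCat.of k))) ⟶ G,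
      p.left (IsLocalRing.closedPoint k) = x})
    (h : ∀ p : 𝟙_ (Over (Spec (CommRingCat.of k))) ⟶ G, ∃ t : X ⟶ T, t ≫ i = lift (toUnit X ≫ p) (𝟙 X) ≫ u) :
    ∃ κ : G ⊗ X ⟶ T, κ ≫ i = u := by
  obtain ⟨A, _, _, eA, heA⟩ := exists_specIso G
  obtain ⟨B, _, _, eB, heB⟩ := exists_specIso X
  haveI : AlgebraicGeometry.IsReduced (Spec (CommRingCat.of A)) := isReduced_of_isOpenImmersion eA.inv
  haveI : _root_.IsReduced A := (affine_isReduced_iff (CommRingCat.of A)).1 inferInstance
  let fA := Spec.map (CommRingCat.ofHom (algebraMap k A))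
  let fB := Spec.map (CommRingCat.ofHom (algebraMap k B))
  let E₁ : (G ⊗ X).left ⟶ pullback fA fB := pullback.map G.hom X.hom fA fB eA.hom eB.hom (𝟙 _)
    (by rw [Category.comp_id, heA]) (by rw [Category.comp_id, heB])
  let E : (G ⊗ X).left ⟶ Spec (CommRingCat.of (A ⊗[k] B)) := E₁ ≫ (pullbackSpecIso k A B).hom
  haveI : IsIso E₁ := inferInstanceAs (IsIso (pullback.map _ _ _ _ _ _ _ _ _))
  haveI : IsIso E := inferInstanceAs (IsIso (E₁ ≫ _))
  let q := pullback.fst u.left i.left
  haveI : IsClosedImmersion q := inferInstanceAs (IsClosedImmersion (pullback.fst u.left i.left))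
  haveI : IsClosedImmersion (q ≫ E) := inferInstance
  obtain ⟨I, eI, hI⟩ := IsClosedImmersion.Spec_iff.1 ‹IsClosedImmersion (q ≫ E)›
  have hd' : Dense {p : PrimeSpectrum A | ∃ φ : A →ₐ[k] k, p.asIdeal = RingHom.ker φ} := by
    refine ((eA.hom.surjective.denseRange).dense_image eA.hom.continuous hd).mono ?_
    rintro _ ⟨_, ⟨p, rfl⟩, rfl⟩
    let φ := Spec.preimage (p.left ≫ eA.hom)
    have hφ : CommRingCat.ofHom (algebraMap k A) ≫ φ = 𝟙 _ := by
      apply Spec.map_injective
      rw [Spec.map_comp, Spec.map_preimage, Spec.map_id, Category.assoc, heA]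
      exact Over.w p
    let φ' : A →ₐ[k] k := { φ.hom with commutes' := fun r => congrArg (fun m => m.hom r) hφ }
    refine ⟨φ', ?_⟩
    rw [← Scheme.Hom.comp_apply, show p.left ≫ eA.hom = Spec.map φ from (Spec.map_preimage _).symm]
    show (IsLocalRing.closedPoint k).asIdeal.comap φ.hom = _
    rw [show (IsLocalRing.closedPoint k).asIdeal = ⊥ from IsLocalRing.maximalIdeal_eq_bot]
    rfl
  have hI0 : I = ⊥ := by
    refine eq_bot_iff.2 fun z hz => (Submodule.mem_bot _).2 (tensor_eq_zero_of_slices hd' z fun φ => ?_)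
    let p : 𝟙_ (Over (Spec (CommRingCat.of k))) ⟶ G :=
      Over.homMk (Spec.map (CommRingCat.ofHom φ.toRingHom) ≫ eA.inv) (by
        rw [Category.assoc, ← heA, Iso.inv_hom_id_assoc, ← Spec.map_comp]
        show Spec.map (CommRingCat.ofHom (φ.toRingHom.comp (algebraMap k A))) = _
        rw [show φ.toRingHom.comp (algebraMap k A) = RingHom.id k from RingHom.ext fun r => φ.commutes r]
        exact Spec.map_id _)
    obtain ⟨t, ht⟩ := h p
    let σ : X ⟶ G ⊗ X := lift (toUnit X ≫ p) (𝟙 X)
    let m : X.left ⟶ pullback u.left i.left := pullback.lift σ.left t.left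
      ((congrArg CommaMorphism.left ht).symm)
    let ψ : A ⊗[k] B →ₐ[k] B :=
      (Algebra.TensorProduct.lid k B).toAlgHom.comp (Algebra.TensorProduct.map φ (AlgHom.id k B))
    have hslice : eB.inv ≫ σ.left ≫ E = Spec.map (CommRingCat.ofHom ψ.toRingHom) := by
      have hσ₁ : σ.left ≫ pullback.fst G.hom X.hom = X.hom ≫ Spec.map (CommRingCat.ofHom φ.toRingHom) ≫ eA.inv :=
        congrArg CommaMorphism.left (lift_fst (toUnit X ≫ p) (𝟙 X))
      have hσ₂ : σ.left ≫ pullback.snd G.hom X.hom = 𝟙 _ :=
        congrArg CommaMorphism.left (lift_snd (toUnit X ≫ p) (𝟙 X))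
      rw [← cancel_mono (pullbackSpecIso k A B).inv]
      simp only [E, Category.assoc, Iso.hom_inv_id, Category.comp_id]
      apply pullback.hom_ext
      · simp only [E₁, fA, fB, pullback.map, Category.assoc, limit.lift_π, PullbackCone.mk_π_app, pullbackSpecIso_inv_fst]
        rw [reassoc_of% hσ₁, Iso.inv_hom_id, Category.comp_id, ← heB, Category.assoc,
          Iso.inv_hom_id_assoc, ← Spec.map_comp, ← Spec.map_comp]
        congr 1
        ext a
        simp [ψ, Algebra.smul_def]
      · simp only [E₁, fA, fB, pullback.map, Category.assoc, limit.lift_π, PullbackCone.mk_π_app, pullbackSpecIso_inv_snd]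
        rw [reassoc_of% hσ₂, Iso.inv_hom_id, ← Spec.map_comp]
        refine ((Spec.map_id _).symm.trans ?_)
        congr 1
        ext b
        simp [ψ]
    have h1 : (eB.inv ≫ m ≫ eI.hom) ≫ Spec.map (CommRingCat.ofHom (Ideal.Quotient.mk I)) =
        Spec.map (CommRingCat.ofHom ψ.toRingHom) := by
      rw [Category.assoc, Category.assoc, ← hI, ← hslice, ← Category.assoc m, pullback.lift_fst]
    obtain ⟨θ, hθ⟩ := Spec.map_surjective (eB.inv ≫ m ≫ eI.hom)
    rw [← hθ, ← Spec.map_comp] at h1
    have h2 := congrArg (fun f => f.hom z) (Spec.map_injective h1)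
    have h3 : ψ z = 0 := by
      refine h2.symm.trans ?_
      show θ.hom (Ideal.Quotient.mk I z) = 0
      rw [Ideal.Quotient.eq_zero_iff_mem.2 hz, map_zero]
    exact (Algebra.TensorProduct.lid k B).injective (h3.trans (map_zero _).symm)
  haveI : IsIso (q ≫ E) := by
    subst hI0
    haveI : IsIso (CommRingCat.ofHom (Ideal.Quotient.mk (⊥ : Ideal (A ⊗[k] B)))) :=
      (ConcreteCategory.isIso_iff_bijective _).2
        ⟨(RingHom.injective_iff_ker_eq_bot _).2 Ideal.mk_ker, Ideal.Quotient.mk_surjective⟩
    rw [hI]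
    infer_instance
  haveI : IsIso q := IsIso.of_isIso_comp_right q E
  refine ⟨Over.homMk (inv q ≫ pullback.snd u.left i.left) ?_, Over.OverMorphism.ext ?_⟩
  · rw [← Over.w i, Category.assoc, ← pullback.condition_assoc, IsIso.inv_hom_id_assoc]
    exact Over.w u
  · show (inv q ≫ pullback.snd u.left i.left) ≫ i.left = u.left
    rw [Category.assoc, ← pullback.condition, IsIso.inv_hom_id_assoc]

end Groth.Agent.TorsTuple
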