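import Groth.Agent.TorsTupleLib.LocalTorus
import Groth.Agent.RedRankLib.CommRel

/-!
Cartan subgroups commute with a maximal torus on an fpqc covering of the base.
-/

set_option autoImplicit false
set_option linter.style.haveILetI false
set_option linter.unusedSectionVars false
set_option backward.isDefEq.respectTransparency false
set_option maxHeartbeats 2000000
set_option synthInstance.maxHeartbeats 400000

noncomputable section

universe u

open CategoryTheory CategoryTheory.Limits MonoidalCategory CartesianMonoidalCategory AlgebraicGeometry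
open scoped MonObj

attribute [-instance] CategoryTheory.Hom.commGroup

namespace Groth.Agent.TorsTuple

open Groth.Agent.BorelLib

variable {S : Scheme.{u}} {G : Over S} [GrpObj G]

/-- An affine open is covered by affine opens on which `2` or `3` is invertible. -/
theorem exists_two_three {V : S.Opens} (hV : IsAffineOpen V) :
    ∃ V' : Bool → S.Opens, (∀ a, IsAffineOpen (V' a)) ∧ V' true ⊔ V' false = V ∧
      ∀ a, IsUnit (((if a then 2 else 3) : ℕ) : Γ(S, V' a)) := by
  refine ⟨fun a => S.basicOpen (((if a then 2 else 3) : ℕ) : Γ(S, V)), fun a => hV.basicOpen _,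
    le_antisymm (sup_le (S.basicOpen_le _) (S.basicOpen_le _)) ?_, fun a => ?_⟩
  · refine ((hV.self_le_iSup_basicOpen_iff (s := {(2 : Γ(S, V)), 3})).2 ?_).trans (iSup_le ?_)
    · refine (Ideal.eq_top_iff_one _).2 ?_
      rw [show (1 : Γ(S, V)) = 3 - 2 by norm_num]
      exact sub_mem (Ideal.subset_span (by simp)) (Ideal.subset_span (by simp))
    · rintro ⟨f, rfl | rfl⟩ <;> simp
  · have h := S.toRingedSpace.isUnit_res_basicOpen (((if a then 2 else 3) : ℕ) : Γ(S, V))
    rwa [map_natCast] at h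

theorem commutes_sigma {κ : Type u} {P : κ → Scheme.{u}} {X C T : Over (∐ P)} [GrpObj X] {c : C ⟶ X} {j : T ⟶ X}
    (h : ∀ k, Commutes (G := Red.bc (Sigma.ι P k) X) ((Over.pullback (Sigma.ι P k)).map c)
      ((Over.pullback (Sigma.ι P k)).map j)) : Commutes c j := by
  have e : (fst C T ≫ c) * (snd C T ≫ j) = (snd C T ≫ j) * (fst C T ≫ c) := by
    refine hom_ext_sigma fun k => ?_
    refine (Functor.map_mul _ _ _).trans (Eq.trans ?_ (Functor.map_mul _ _ _).symm)
    simp only [Functor.map_comp]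
    exact (h k _ _ _).eq
  intro Y z t
  have e' := congrArg (lift z t ≫ ·) e
  simp only [MonObj.comp_mul, lift_fst_assoc, lift_snd_assoc] at e'
  exact e'

/-- **On an fpqc covering, a Cartan subgroup commutes with a maximal torus.** -/
theorem exists_commuting_cover [Smooth G.hom] [IsSeparated G.hom] [QuasiCompact G.hom]
    (hG : SGA3x.HasMaxTorusFpqcLocally G) {C : Over S} [GrpObj C] {c : C ⟶ G} [IsMonHom c] [Mono c] [Smooth C.hom]
    (hc : CartanPts c) :
    ∃ (P : Scheme.{u}) (π : P ⟶ S), Flat π ∧ Surjective π ∧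
      (∀ V : S.Opens, IsAffineOpen V → ∃ W : P.Opens, IsCompact (W : Set P) ∧ π.base '' (W : Set P) = (V : Set S)) ∧
      ∃ (T : Over P) (_ : GrpObj T) (j : T ⟶ Red.bc π G), Red.IsMaximalTorus j ∧
        Commutes (G := Red.bc π G) ((Over.pullback π).map c) j := by
  choose V' hV'a hV'cov hV'u using fun V : {V : S.Opens // IsAffineOpen V} => exists_two_three V.2
  choose J hJ W q hWa hqf hqc hp using fun (V : {V : S.Opens // IsAffineOpen V}) (a : Bool) =>
    exists_pieces hG (hV'a V a) (ℓ := if a then 2 else 3) (by cases a <;> norm_num) (hV'u V a)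
  have hloc : ∀ V a (j : J V a), ∃ (r : ℕ) (P : Scheme.{u}) (f : P ⟶ W V a j)
      (v : Red.DS P (Fin r → ℤ) ⟶ Red.bc (f ≫ q V a j) G), Smooth f ∧ Surjective f ∧ Red.IsMaximalTorus v ∧
        Commutes (G := Red.bc (f ≫ q V a j) G) ((Over.pullback (f ≫ q V a j)).map c) v := by
    intro V a j
    obtain ⟨p⟩ := hp V a j
    haveI := hWa V a j
    let GW := Red.bc (q V a j) G
    haveI : Smooth GW.hom := MorphismProperty.pullback_snd (P := @Smooth) _ _ inferInstance
    haveI : IsSeparated GW.hom := inferInstanceAs (IsSeparated (pullback.snd G.hom (q V a j)))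
    haveI : QuasiCompact GW.hom := MorphismProperty.pullback_snd (P := @QuasiCompact) _ _ inferInstance
    haveI : Smooth (Red.bc (q V a j) C).hom := MorphismProperty.pullback_snd (P := @Smooth) _ _ inferInstance
    haveI := DiagRep.isMonHom_bc_map (q V a j) c
    haveI := mono_bc (q V a j) c
    obtain ⟨P, f, v', hfs, hfj, hv', hcom⟩ :=
      exists_local_commuting (cartanPts_bc hc (q V a j)) p.roots p.v p.isMax
    let eG := ActBC.bcCompIso f (q V a j) G rfl
    let eC := ActBC.bcCompIso f (q V a j) C rfl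
    haveI : IsMonHom eG.hom := ActBC.bcCompIso_isMonHom _ _ _
    refine ⟨p.r, P, f, v' ≫ eG.hom, hfs, hfj, MaxTorConj.isMaximalTorus_iso eG hv',
      commutes_transport eG.hom eC.inv (𝟙 _) ?_ (Category.id_comp _) hcom⟩
    rw [ActBC.bcCompIso_hom_naturality, Iso.inv_hom_id_assoc]
  choose r P f v hfs hfj hv hcom using hloc
  let κ := Σ (V : {V : S.Opens // IsAffineOpen V}) (a : Bool), J V a
  let P' : κ → Scheme.{u} := fun k => P k.1 k.2.1 k.2.2
  let q' : ∀ k : κ, P' k ⟶ S := fun k => f k.1 k.2.1 k.2.2 ≫ q k.1 k.2.1 k.2.2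
  let π : ∐ P' ⟶ S := Sigma.desc q'
  haveI : Flat π := by
    refine IsZariskiLocalAtSource.sigmaDesc fun k => ?_
    haveI := hfs k.1 k.2.1 k.2.2
    haveI := hqf k.1 k.2.1 k.2.2
    infer_instance
  have hcov : ∀ V : S.Opens, IsAffineOpen V →
      ∃ U : (∐ P').Opens, IsCompact (U : Set ↥(∐ P')) ∧ π.base '' (U : Set ↥(∐ P')) = (V : Set S) := by
    intro V hV
    let V₀ : {V : S.Opens // IsAffineOpen V} := ⟨V, hV⟩
    have hK : ∀ (a : Bool) (j : J V₀ a), ∃ K : (P V₀ a j).Opens, IsCompact (K : Set (P V₀ a j)) ∧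
        (f V₀ a j).base '' (K : Set (P V₀ a j)) = Set.univ := fun a j => by
      haveI := hfs V₀ a j
      haveI := hfj V₀ a j
      haveI := hWa V₀ a j
      exact RedRank.hcov_of_open (f V₀ a j) ⊤ (isAffineOpen_top _)
    choose K hKc hKi using hK
    haveI : ∀ a, Finite (J V₀ a) := hJ V₀
    let ι' : ∀ (x : Σ a, J V₀ a), P V₀ x.1 x.2 ⟶ ∐ P' := fun x => Sigma.ι P' ⟨V₀, x.1, x.2⟩
    refine ⟨⨆ x : Σ a, J V₀ a, (ι' x) ''ᵁ K x.1 x.2, ?_, ?_⟩
    · rw [TopologicalSpace.Opens.coe_iSup]
      exact isCompact_iUnion fun x => (hKc x.1 x.2).image (ι' x).continuous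
    · rw [TopologicalSpace.Opens.coe_iSup, Set.image_iUnion]
      have hx : ∀ x : Σ a, J V₀ a, π.base '' ((ι' x) ''ᵁ K x.1 x.2 : Set ↥(∐ P')) = Set.range (q V₀ x.1 x.2) := by
        intro x
        show π.base '' ((ι' x).base '' (K x.1 x.2 : Set _)) = _
        rw [← Set.image_univ, ← hKi x.1 x.2, Set.image_image, Set.image_image]
        refine Set.image_congr fun y _ => ?_
        show π (ι' x y) = q V₀ x.1 x.2 (f V₀ x.1 x.2 y)
        rw [← Scheme.Hom.comp_apply, ← Scheme.Hom.comp_apply, Sigma.ι_desc]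
      simp only [hx]
      rw [Set.iUnion_sigma]
      simp only [hqc]
      rw [show (V : Set S) = ((V' V₀ true ⊔ V' V₀ false : S.Opens) : Set S) from congrArg _ (hV'cov V₀).symm,
        TopologicalSpace.Opens.coe_sup]
      exact Set.ext fun s => by simp [or_comm]
  haveI : Surjective π := ⟨fun s => by
    obtain ⟨V, hV, hsV, -⟩ := exists_isAffineOpen_mem_and_subset (X := S) (x := s) (U := ⊤) trivial
    obtain ⟨U, -, hU⟩ := hcov V hV
    have hs' : s ∈ (V : Set S) := hsV
    rw [← hU] at hs'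
    obtain ⟨y, -, hy⟩ := hs'
    exact ⟨y, hy⟩⟩
  obtain ⟨T, _, j, θ, hj, hθ⟩ := exists_sigma_torus (q := q') (fun k => r k.1 k.2.1 k.2.2)
    (fun k => v k.1 k.2.1 k.2.2) fun k => hv k.1 k.2.1 k.2.2
  refine ⟨∐ P', π, inferInstance, inferInstance, hcov, T, inferInstance, j, hj, commutes_sigma fun k => ?_⟩
  let eG := ActBC.bcCompIso (Sigma.ι P' k) π G (Sigma.ι_desc q' k)
  let eC := ActBC.bcCompIso (Sigma.ι P' k) π C (Sigma.ι_desc q' k)
  haveI : IsMonHom eG.hom := ActBC.bcCompIso_isMonHom _ _ _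
  haveI : IsMonHom eG.inv := inferInstance
  refine commutes_transport eG.inv eC.hom (θ k).hom ?_ ?_ (hcom k.1 k.2.1 k.2.2)
  · rw [← ActBC.bcCompIso_hom_naturality_assoc, Iso.hom_inv_id, Category.comp_id]
  · rw [← Category.assoc, hθ k, Category.assoc, Iso.hom_inv_id, Category.comp_id]

end Groth.Agent.TorsTuple
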