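import Groth.Agent.TorsTupleLib.CartanDesc
import Groth.Agent.MaxTorConjLib.PreimageDesc
import Groth.Agent.BorelLib.CentralPreimageRanks

/-!
Cartan subgroups and extensions of algebraically closed fields.
-/

set_option autoImplicit false
set_option linter.style.haveILetI false
set_option linter.unusedSectionVars false
set_option backward.isDefEq.respectTransparency false
set_option maxHeartbeats 2000000
set_option synthInstance.maxHeartbeats 400000

noncomputable section

universe u

open CategoryTheory CategoryTheory.Limits MonoidalCategory CartesianMonoidalCategory AlgebraicGeometry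
open scoped MonObj

attribute [-instance] CategoryTheory.Hom.commGroup

namespace Groth.Agent.TorsTuple

open Groth.Agent.BorelLib

variable {k K : Type u} [Field k] [IsAlgClosed k] [Field K] [IsAlgClosed K]
  (l : Spec (CommRingCat.of K) ⟶ Spec (CommRingCat.of k))

theorem isCartanOver_bc {G C : Over (Spec (CommRingCat.of k))} [GrpObj G] [GrpObj C] [Smooth G.hom] [QuasiCompact G.hom]
    {c : C ⟶ G} (h : SGA3x.IsCartanOver k c) :
    SGA3x.IsCartanOver K (C := Red.bc l C) (G := Red.bc l G) ((Over.pullback l).map c) := by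
  obtain ⟨hm, hmo, T, _, i, hi, hc⟩ := h
  haveI := hm; haveI := hmo
  exact ⟨DiagRep.isMonHom_bc_map l c, mono_bc l c, Red.bc l T, inferInstance, (Over.pullback l).map i,
    MaxTorConj.isMaximalTorus_bc hi l, BorelLib.isCentralizerOf_bc l hc⟩

/-- **Being a Cartan subgroup descends along extensions of algebraically closed fields.** -/
theorem isCartanOver_descend {G C : Over (Spec (CommRingCat.of k))} [GrpObj G] [GrpObj C] [Smooth G.hom]
    [QuasiCompact G.hom] [Smooth C.hom] [QuasiCompact C.hom] [ConnectedSpace C.left] (c : C ⟶ G) [IsMonHom c] [Mono c]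
    (h : SGA3x.IsCartanOver K (C := Red.bc l C) (G := Red.bc l G) ((Over.pullback l).map c)) :
    SGA3x.IsCartanOver k c := by
  obtain ⟨hm, hmo, T', _, i', hi', hc'⟩ := h
  haveI := hm; haveI := hmo; haveI := hi'.1; haveI := hi'.2.1
  haveI : IsSeparated G.hom := Groth.Agent.GrpField.isSeparated_grp (G := G)
  haveI : IsSeparated C.hom := Groth.Agent.GrpField.isSeparated_grp (G := C)
  let F := Over.pullback l
  let GK := Red.bc l G
  haveI : Smooth GK.hom := MorphismProperty.pullback_snd (P := @Smooth) _ _ inferInstance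
  haveI : QuasiCompact GK.hom := MorphismProperty.pullback_snd (P := @QuasiCompact) _ _ inferInstance
  haveI : IsSeparated GK.hom := inferInstanceAs (IsSeparated (pullback.snd G.hom l))
  obtain ⟨T₀, _, t₀, ht₀⟩ := NA.exists_maxTorus (G := C)
  haveI := ht₀.1; haveI := ht₀.2.1
  let i₀ := t₀ ≫ c
  have ht₀K := MaxTorConj.isMaxTorus_bc_field l ht₀
  haveI := ht₀K.1; haveI := ht₀K.2.1
  obtain ⟨w, hw⟩ := (hc'.2.2 T' i').2 fun X' x t => by
    rw [← MonObj.mul_comp, ← MonObj.mul_comp, (commute_torus hi'.2.2.1 x t).eq]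
  haveI : IsMonHom (w ≫ F.map c) := by rw [hw]; infer_instance
  haveI : IsMonHom w := DiagRep.isMonHom_of_comp_mono w (F.map c)
  haveI : Mono w := mono_of_mono_fac hw
  have hi₀K : F.map i₀ = F.map t₀ ≫ F.map c := F.map_comp _ _
  haveI : IsMonHom (F.map i₀) := by rw [hi₀K]; infer_instance
  haveI : Mono (F.map i₀) := by rw [hi₀K]; infer_instance
  obtain ⟨f, hf⟩ := S4120.result _ GK T' (Red.bc l T₀) i' (F.map i₀) hi' ht₀K.2.2.1 fun X t r => by
    rw [hi₀K, ← Category.assoc r]
    exact (commutes_of_centralizer hc' X (r ≫ F.map t₀) t).eq.symm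
  have hfw : f ≫ w = F.map t₀ := by rw [← cancel_mono (F.map c), Category.assoc, hw, hf, hi₀K]
  haveI : IsIso f := ht₀K.2.2.2 T' w f hi'.2.2.1 hfw
  haveI : IsMonHom (f ≫ i') := by rw [hf]; infer_instance
  haveI : IsMonHom (asIso f).hom := DiagRep.isMonHom_of_comp_mono f i'
  have hi₀max : Red.IsMaximalTorus (T := Red.bc l T₀) (G := GK) (F.map i₀) := by
    rw [← hf]; exact isMaximalTorus_precomp (asIso f) hi'
  have hmax : Red.IsMaximalTorus i₀ := isMaximalTorus_of_bc ht₀.2.2.1 fun s =>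
    ⟨_, l, IsLocalRing.closedPoint K, Subsingleton.elim (α := PrimeSpectrum k) _ _, hi₀max⟩
  haveI : IsMonHom (Iso.refl (Red.bc l C)).hom := inferInstanceAs (IsMonHom (𝟙 _))
  haveI : IsMonHom (Iso.refl GK).hom := inferInstanceAs (IsMonHom (𝟙 _))
  have hcK : Red.IsCentralizerOf (G := GK) (Z := Red.bc l C) (F.map i₀) (F.map c) :=
    isCentralizerOf_transport (Iso.refl GK) (asIso f) (Iso.refl _) (by simp [hf]) (by simp [F]) hc'
  obtain ⟨C₁, _, c₁, hc₁, hcl, hcart, -⟩ := S4118.result _ G T₀ i₀ hmax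
  haveI := hc₁.1; haveI := hc₁.2.1; haveI := hcl
  haveI : Surjective l := ⟨fun s => ⟨IsLocalRing.closedPoint K, Subsingleton.elim (α := PrimeSpectrum k) _ _⟩⟩
  haveI : Flat l := inferInstance
  have hcov : ∀ V : (Spec (CommRingCat.of k)).Opens, IsAffineOpen V → ∃ W : (Spec (CommRingCat.of K)).Opens,
      IsCompact (W : Set ↥(Spec (CommRingCat.of K))) ∧ l.base '' (W : Set _) = (V : Set _) :=
    fun V hV => ⟨l ⁻¹ᵁ V, QuasiCompact.isCompact_preimage (f := l) _ V.isOpen hV.isCompact,
      Set.image_preimage_eq _ l.surjective⟩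
  have hinj : ∀ {Y Z : Over (Spec (CommRingCat.of k))} (a b : Y ⟶ Z), F.map a = F.map b → a = b := fun {Y Z} a b h => by
    haveI : EffectiveEpi (pullback.fst Y.hom l) := DescHom.effectiveEpi_pullback_fst l hcov Y.hom
    refine Over.OverMorphism.ext ((cancel_epi (pullback.fst Y.hom l)).1 ?_)
    rw [← ActBC.pullback_map_left_fst l a, ← ActBC.pullback_map_left_fst l b, h]
  obtain ⟨m, hm⟩ := (hc₁.2.2 C c).2 fun X x t => by
    apply hinj
    refine (Functor.map_mul F _ _).trans (Eq.trans ?_ (Functor.map_mul F _ _).symm)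
    rw [F.map_comp x c, F.map_comp t i₀]
    exact (commutes_of_centralizer hcK _ (F.map x) (F.map t)).eq
  haveI : IsIso (F.map m) := by
    have h₁ := BorelLib.isCentralizerOf_bc l hc₁
    haveI := h₁.2.1
    obtain ⟨z, hz⟩ := (hcK.2.2 _ (F.map c₁)).2 fun X x t => (h₁.2.2 _ (F.map c₁)).1 ⟨𝟙 _, Category.id_comp _⟩ X x t
    refine ⟨z, ?_, ?_⟩
    · rw [← cancel_mono (F.map c), Category.assoc, hz, ← F.map_comp, hm, Category.id_comp]
    · rw [← cancel_mono (F.map c₁), Category.assoc, ← F.map_comp, hm, hz, Category.id_comp]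
  haveI : IsIso m := MaxTorConj.isIso_of_isIso_bc l m
  haveI : IsMonHom (m ≫ c₁) := by rw [hm]; infer_instance
  haveI : IsMonHom (asIso m).hom := DiagRep.isMonHom_of_comp_mono m c₁
  haveI : IsMonHom (Iso.refl G).hom := inferInstanceAs (IsMonHom (𝟙 _))
  exact ⟨inferInstance, inferInstance, T₀, inferInstance, i₀, hmax,
    isCentralizerOf_transport (Iso.refl G) (Iso.refl T₀) (asIso m) (by simp) (by simp [hm]) hc₁⟩

variable {S : Scheme.{u}} {G C : Over S} [GrpObj G] [GrpObj C] [Smooth G.hom] [QuasiCompact G.hom] [Smooth C.hom]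
  [QuasiCompact C.hom] (c : C ⟶ G) [IsMonHom c] [Mono c]

theorem isCartanOver_comp_iff {L : Type u} [Field L] [IsAlgClosed L] (ξ : Spec (CommRingCat.of k) ⟶ S)
    (ξ' : Spec (CommRingCat.of L) ⟶ S) (m : Spec (CommRingCat.of L) ⟶ Spec (CommRingCat.of k)) (h : m ≫ ξ = ξ')
    [ConnectedSpace (Red.bc ξ C).left] :
    SGA3x.IsCartanOver L (C := Red.bc ξ' C) (G := Red.bc ξ' G) ((Over.pullback ξ').map c) ↔
      SGA3x.IsCartanOver k (C := Red.bc ξ C) (G := Red.bc ξ G) ((Over.pullback ξ).map c) := by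
  haveI : Smooth (Red.bc ξ G).hom := MorphismProperty.pullback_snd (P := @Smooth) _ _ inferInstance
  haveI : QuasiCompact (Red.bc ξ G).hom := MorphismProperty.pullback_snd (P := @QuasiCompact) _ _ inferInstance
  haveI : Smooth (Red.bc ξ C).hom := MorphismProperty.pullback_snd (P := @Smooth) _ _ inferInstance
  haveI : QuasiCompact (Red.bc ξ C).hom := MorphismProperty.pullback_snd (P := @QuasiCompact) _ _ inferInstance
  haveI := DiagRep.isMonHom_bc_map ξ c
  haveI := mono_bc ξ c
  let eG := ActBC.bcCompIso m ξ G h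
  let eC := ActBC.bcCompIso m ξ C h
  haveI : IsMonHom eG.hom := ActBC.bcCompIso_isMonHom _ _ _
  haveI : IsMonHom eC.hom := ActBC.bcCompIso_isMonHom _ _ _
  have e : (Over.pullback m).map ((Over.pullback ξ).map c) ≫ eG.hom = eC.hom ≫ (Over.pullback ξ').map c :=
    ActBC.bcCompIso_hom_naturality _ _ _ _
  constructor
  · intro hL
    obtain ⟨-, -, T', _, i', hi', hc'⟩ := hL
    haveI : IsMonHom eG.symm.hom := inferInstanceAs (IsMonHom eG.inv)
    refine isCartanOver_descend m _ ⟨DiagRep.isMonHom_bc_map m _, mono_bc m _, T', inferInstance, i' ≫ eG.inv,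
      MaxTorConj.isMaximalTorus_iso eG.symm hi', isCentralizerOf_transport eG.symm (Iso.refl T') eC (by simp) ?_ hc'⟩
    rw [← Category.assoc, ← e, Category.assoc, Iso.symm_hom, Iso.hom_inv_id, Category.comp_id]
  · intro hk
    obtain ⟨-, -, T', _, i', hi', hc'⟩ := isCartanOver_bc m hk
    haveI : IsMonHom eC.symm.hom := inferInstanceAs (IsMonHom eC.inv)
    refine ⟨DiagRep.isMonHom_bc_map ξ' c, mono_bc ξ' c, T', inferInstance, i' ≫ eG.hom,
      MaxTorConj.isMaximalTorus_iso eG hi', isCentralizerOf_transport eG (Iso.refl T') eC.symm (by simp) ?_ hc'⟩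
    rw [e, Iso.symm_hom, Iso.inv_hom_id_assoc]

end Groth.Agent.TorsTuple
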