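import Groth.Agent.TorsTupleLib.OrbitOpen
import Groth.Agent.TorsTupleLib.Cover

/-!
A maximal torus over the open of enumerated tuples.
-/

set_option autoImplicit false
set_option linter.style.haveILetI false
set_option linter.unusedSectionVars false
set_option backward.isDefEq.respectTransparency false
set_option maxHeartbeats 2000000
set_option synthInstance.maxHeartbeats 400000

noncomputable section

universe u

open CategoryTheory CategoryTheory.Limits MonoidalCategory CartesianMonoidalCategory AlgebraicGeometry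
open scoped MonObj

attribute [-instance] CategoryTheory.Hom.commGroup

namespace Groth.Agent.TorsTuple

open Groth.Agent.BorelLib

variable {S : Scheme.{u}} {G : Over S} [GrpObj G]

/-- The centralizer of a tuple is a subgroup. -/
theorem exists_grpObj_centralizer {r : ℕ} {a : Fin r → (𝟙_ (Over S) ⟶ G)} {Z : Over S} (z : Z ⟶ G) [Mono z]
    (hz : ∀ {X : Over S} (g : X ⟶ G), (∃ h, h ≫ z = g) ↔ ∀ i, g * (toUnit X ≫ a i) = (toUnit X ≫ a i) * g) :
    ∃ _ : GrpObj Z, IsMonHom z := by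
  have h : ∀ {X : Over S} (x : X ⟶ Z) (i : Fin r), Commute (x ≫ z) (toUnit X ≫ a i) := fun x i =>
    (hz (x ≫ z)).1 ⟨x, rfl⟩ i
  refine SubDesc.exists_grpObj_of_mono z ((hz _).2 fun i => ?_) ((hz _).2 fun i => ?_) ((hz _).2 fun i => ?_)
  · exact ((h (fst Z Z) i).mul_left (h (snd Z Z) i)).eq
  · exact (Commute.one_left _).eq
  · have := h (𝟙 Z) i
    rw [Category.id_comp] at this
    exact this.inv_left.eq

/-- A base-changed tuple through any structure map to the base change of the unit. -/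
theorem toUnit_bcTuple_map {P : Scheme.{u}} (f : P ⟶ S) {r : ℕ} (a : Fin r → (𝟙_ (Over S) ⟶ G)) (k : Fin r) {X : Over P}
    (x : X ⟶ Red.bc f (𝟙_ (Over S))) : toUnit X ≫ bcTuple f a k = x ≫ (Over.pullback f).map (a k) := by
  obtain ⟨x₀, rfl⟩ := ((Over.mapPullbackAdj f).homEquiv X _).surjective x
  rw [toUnit_bcTuple, ← Adjunction.homEquiv_naturality_right, toUnit_unique x₀ (toUnit _)]
  rfl

/-- A base-changed tuple, restricted along a further map. -/
theorem map_toUnit_bcTuple {P P' : Scheme.{u}} (π : P ⟶ S) (incl : P' ⟶ P) (f : P' ⟶ S) (h : incl ≫ π = f) {r : ℕ}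
    (a : Fin r → (𝟙_ (Over S) ⟶ G)) (k : Fin r) (Y : Over P) :
    (Over.pullback incl).map (toUnit Y ≫ bcTuple π a k) ≫ (ActBC.bcCompIso incl π G h).hom =
      toUnit (Red.bc incl Y) ≫ bcTuple f a k := by
  let y : Y ⟶ Red.bc π (𝟙_ (Over S)) := (Over.mapPullbackAdj π).homEquiv Y _ (toUnit _)
  rw [toUnit_bcTuple_map π a k y, toUnit_bcTuple_map f a k ((Over.pullback incl).map y ≫ (ActBC.bcCompIso incl π _ h).hom),
    Functor.map_comp, Category.assoc, Category.assoc, ActBC.bcCompIso_hom_naturality]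

/-- **Over the orbit of a piece the centralizer is that of the conjugated torus.** -/
theorem exists_orbit_data [Smooth G.hom] [IsSeparated G.hom] [QuasiCompact G.hom] {n L : ℕ} (Q : TupleScheme G n L)
    {W : Scheme.{u}} {q : W ⟶ S} (p : LevelPiece G q n) (σ : Fin L ≃ (Fin p.r → Fin n))
    (o : Red.bc q G ⟶ Red.bc q Q.obj)
    (ho : ∀ i, o ≫ (Over.pullback q).map (Q.univ i) = orbitTuple (p.tuple σ) i) {U : Scheme.{u}} (φ : U ⟶ S)
    (iU : (Over.mk φ : Over S) ⟶ Q.obj) (lift' : (Red.bc q G).left ⟶ U)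
    (hl : lift' ≫ iU.left = o.left ≫ pullback.fst Q.obj.hom q) :
    ∃ (v : Red.DS (Red.bc q G).left (Fin p.r → ℤ) ⟶ Red.bc lift' (Red.bc φ G))
      (β : Fin L → (𝟙_ (Over (Red.bc q G).left) ⟶ Red.DS (Red.bc q G).left (Fin p.r → ℤ))),
      Red.IsMaximalTorus v ∧
        (∀ k, β k ≫ v = bcTuple lift' (fun k => PowEtCentralLib.adjEquiv φ (𝟙_ (Over U))
          ((Over.homMk (𝟙 U) : (Over.map φ).obj (𝟙_ (Over U)) ⟶ Over.mk φ) ≫ iU ≫ Q.univ k)) k) ∧
        Good v fun k => β k ≫ v := by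
  haveI := p.isMax.1; haveI := p.isMax.2.1
  haveI : Smooth (Red.bc q G).hom := MorphismProperty.pullback_snd (P := @Smooth) _ _ inferInstance
  haveI : QuasiCompact (Red.bc q G).hom := MorphismProperty.pullback_snd (P := @QuasiCompact) _ _ inferInstance
  let P := (Red.bc q G).left
  let h : P ⟶ W := (Red.bc q G).hom
  haveI : Smooth (Red.bc h (Red.bc q G)).hom := MorphismProperty.pullback_snd (P := @Smooth) _ _ inferInstance
  haveI : QuasiCompact (Red.bc h (Red.bc q G)).hom := MorphismProperty.pullback_snd (P := @QuasiCompact) _ _ inferInstance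
  have hlφ : lift' ≫ φ = h ≫ q := by
    have e : iU.left ≫ Q.obj.hom = φ := Over.w iU
    rw [← e, ← Category.assoc, hl, Category.assoc, pullback.condition, ← Category.assoc]
    exact congrArg (· ≫ q) (Over.w o)
  let e₁ : Red.bc h (Red.bc q G) ≅ Red.bc lift' (Red.bc φ G) :=
    ActBC.bcCompIso h q G rfl ≪≫ (ActBC.bcCompIso lift' φ G hlφ).symm
  let e₁Q : Red.bc h (Red.bc q Q.obj) ≅ Red.bc lift' (Red.bc φ Q.obj) :=
    ActBC.bcCompIso h q Q.obj rfl ≪≫ (ActBC.bcCompIso lift' φ Q.obj hlφ).symm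
  haveI : IsMonHom e₁.hom := by
    haveI : IsMonHom (ActBC.bcCompIso h q G rfl).hom := ActBC.bcCompIso_isMonHom _ _ _
    haveI : IsMonHom (ActBC.bcCompIso lift' φ G hlφ).hom := ActBC.bcCompIso_isMonHom _ _ _
    exact inferInstanceAs (IsMonHom ((ActBC.bcCompIso h q G rfl).hom ≫ (ActBC.bcCompIso lift' φ G hlφ).inv))
  let h' : (Over.map h).obj (𝟙_ (Over P)) ⟶ Red.bc q G := Over.homMk (𝟙 _)
  let E := PowEtCentralLib.adjEquiv h (𝟙_ (Over P)) (G := Red.bc q G)
  let A := (Over.mapPullbackAdj h).homEquiv (𝟙_ (Over P))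
  let g := E h'
  haveI := DiagRep.isMonHom_conjBy g
  let ec : Red.bc h (Red.bc q G) ≅ Red.bc h (Red.bc q G) := asIso (AGF.conjBy g (𝟙 _))
  haveI : IsMonHom ec.hom := DiagRep.isMonHom_conjBy g
  let e := ec ≪≫ e₁
  haveI : IsMonHom e.hom := inferInstanceAs (IsMonHom (ec.hom ≫ e₁.hom))
  let θ : Red.DS P (Fin p.r → ℤ) ≅ Red.bc h (Red.DS W (Fin p.r → ℤ)) := (dsIso h _).symm
  haveI : IsMonHom (dsIso (S := W) h (Fin p.r → ℤ)).hom := ActBC.bcCompIso_isMonHom _ _ _
  haveI : IsMonHom θ.hom := inferInstanceAs (IsMonHom (dsIso h _).inv)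
  let v := (θ.hom ≫ (Over.pullback h).map p.v) ≫ e.hom
  let β := fun k => A _ (toUnit _ ≫ enumDS p.ζ (σ k)) ≫ θ.inv
  have hb : (fun k => bcTuple h (p.tuple σ) k ≫ e.hom) = fun k => β k ≫ v := funext fun k => by
    show E (toUnit _ ≫ enumDS p.ζ (σ k) ≫ p.v) ≫ e.hom =
      (A _ (toUnit _ ≫ enumDS p.ζ (σ k)) ≫ θ.inv) ≫ (θ.hom ≫ (Over.pullback h).map p.v) ≫ e.hom
    rw [Category.assoc, Category.assoc, Iso.inv_hom_id_assoc, ← Category.assoc (A _ (toUnit _ ≫ enumDS p.ζ (σ k))),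
      ← Category.assoc (toUnit _) (enumDS p.ζ (σ k))]
    exact congrArg (· ≫ e.hom) (Adjunction.homEquiv_naturality_right (Over.mapPullbackAdj h) _ p.v)
  refine ⟨v, β, MaxTorConj.isMaximalTorus_iso e (isMaximalTorus_precomp θ (MaxTorConj.isMaximalTorus_bc p.isMax h)),
    fun k => ?_, hb ▸ good_transport e θ.hom (Category.assoc _ _ _).symm (good_bc (p.good_tuple σ) h)⟩
  rw [← congrFun hb k]
  let ψ : (Over.map φ).obj (𝟙_ (Over U)) ⟶ Over.mk φ := Over.homMk (𝟙 U)
  have hR : bcTuple lift' (fun k => PowEtCentralLib.adjEquiv φ (𝟙_ (Over U)) (ψ ≫ iU ≫ Q.univ k)) k =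
      (Over.mapPullbackAdj lift').homEquiv _ _ (toUnit _ ≫ (Over.mapPullbackAdj φ).homEquiv _ _ (ψ ≫ iU)) ≫
        (Over.pullback lift').map ((Over.pullback φ).map (Q.univ k)) := by
    rw [← Adjunction.homEquiv_naturality_right, Category.assoc, ← Adjunction.homEquiv_naturality_right,
      Category.assoc ψ]
    rfl
  have hL : bcTuple h (p.tuple σ) k ≫ e.hom = (A _ (h' ≫ o) ≫ e₁Q.hom) ≫
      (Over.pullback lift').map ((Over.pullback φ).map (Q.univ k)) := by
    have hnat : e₁Q.hom ≫ (Over.pullback lift').map ((Over.pullback φ).map (Q.univ k)) =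
        (Over.pullback h).map ((Over.pullback q).map (Q.univ k)) ≫ e₁.hom := by
      show ((ActBC.bcCompIso h q Q.obj rfl).hom ≫ (ActBC.bcCompIso lift' φ Q.obj hlφ).inv) ≫ _ =
        _ ≫ (ActBC.bcCompIso h q G rfl).hom ≫ (ActBC.bcCompIso lift' φ G hlφ).inv
      rw [← cancel_mono (ActBC.bcCompIso lift' φ G hlφ).hom]
      simp only [Category.assoc, Iso.inv_hom_id, Category.comp_id]
      rw [ActBC.bcCompIso_hom_naturality, Iso.inv_hom_id_assoc, ← ActBC.bcCompIso_hom_naturality]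
    have horb : A _ (h' ≫ o) ≫ (Over.pullback h).map ((Over.pullback q).map (Q.univ k)) =
        bcTuple h (p.tuple σ) k ≫ ec.hom := by
      refine (Adjunction.homEquiv_naturality_right _ _ _).symm.trans ?_
      rw [Category.assoc, ho, comp_orbitTuple]
      show E _ = E (toUnit _ ≫ p.tuple σ k) ≫ AGF.conjBy g (𝟙 _)
      rw [map_mul, map_mul, map_inv, MonObj.comp_mul, MonObj.comp_mul, GrpObj.comp_inv, Category.comp_id,
        ← Category.assoc (E (toUnit _ ≫ p.tuple σ k)), toUnit_unique (E (toUnit _ ≫ p.tuple σ k) ≫ toUnit _) (𝟙 _),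
        Category.id_comp]
    rw [Category.assoc, hnat, ← Category.assoc (A _ (h' ≫ o)), horb, Category.assoc]
    rfl
  rw [hR, hL]
  refine congrArg (· ≫ _) (Over.OverMorphism.ext (pullback.hom_ext ?_ ((Over.w _).trans (Over.w _).symm)))
  refine Eq.trans ?_ (homEquiv_left_fst (X := 𝟙_ (Over P)) lift' (toUnit _ ≫ (Over.mapPullbackAdj φ).homEquiv _ _ (ψ ≫ iU))).symm
  refine pullback.hom_ext ?_ ?_
  · have e1 : e₁Q.hom.left ≫ pullback.fst (Red.bc φ Q.obj).hom lift' ≫ pullback.fst Q.obj.hom φ =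
        pullback.fst (Red.bc q Q.obj).hom h ≫ pullback.fst Q.obj.hom q := by
      show ((ActBC.bcCompIso h q Q.obj rfl).hom.left ≫ (ActBC.bcCompIso lift' φ Q.obj hlφ).inv.left) ≫ _ = _
      rw [← ActBC.bcCompIso_hom_left_fst lift' φ Q.obj hlφ, Category.assoc, ← Category.assoc
        (ActBC.bcCompIso lift' φ Q.obj hlφ).inv.left, ← Over.comp_left, Iso.inv_hom_id, Over.id_left, Category.id_comp,
        ActBC.bcCompIso_hom_left_fst]
    rw [Over.comp_left, Category.assoc, Category.assoc, e1, ← Category.assoc, homEquiv_left_fst]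
    show (h'.left ≫ o.left) ≫ _ =
      ((toUnit ((Over.map lift').obj (𝟙_ (Over P)))).left ≫ ((Over.mapPullbackAdj φ).homEquiv _ _ (ψ ≫ iU)).left) ≫ _
    have e2 : (toUnit ((Over.map lift').obj (𝟙_ (Over P)))).left = lift' := by
      have e' : (toUnit ((Over.map lift').obj (𝟙_ (Over P)))).left ≫ 𝟙 U = 𝟙 P ≫ lift' := Over.w _
      simpa using e'
    rw [e2, Category.assoc lift', homEquiv_left_fst]
    show (𝟙 P ≫ o.left) ≫ _ = lift' ≫ 𝟙 U ≫ iU.left
    rw [Category.id_comp, Category.id_comp, hl]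
  · have w₁ : ∀ {Y : Over P} (y : Y ⟶ Red.bc lift' (Red.bc φ Q.obj)),
        (y.left ≫ pullback.fst (Red.bc φ Q.obj).hom lift') ≫ (Red.bc φ Q.obj).hom = Y.hom ≫ lift' := fun y => by
      rw [Category.assoc, pullback.condition, ← Category.assoc]
      exact congrArg (· ≫ lift') (Over.w y)
    refine (w₁ _).trans ?_
    exact (Over.w ((toUnit _ : (Over.map lift').obj (𝟙_ (Over P)) ⟶ _) ≫
      (Over.mapPullbackAdj φ).homEquiv _ _ (ψ ≫ iU))).symm

/-- **A maximal torus over the open of enumerated tuples.** -/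
theorem exists_torus_orbit_open [IsAffine S] [Smooth G.hom] [IsSeparated G.hom] [QuasiCompact G.hom] {n L : ℕ}
    [NeZero n] (hn : IsUnit (n : Γ(S, ⊤))) (Q : TupleScheme G n L) {J : Type u} [Finite J] {W : J → Scheme.{u}}
    [∀ j, IsAffine (W j)] {q : ∀ j, W j ⟶ S} [∀ j, Flat (q j)] (p : ∀ j, LevelPiece G (q j) n)
    (hcov : ∀ s : S, ∃ j, s ∈ Set.range (q j)) :
    ∃ (U : Q.obj.left.Opens) (T : Over (U : Scheme.{u})) (_ : GrpObj T) (i : T ⟶ Red.bc (U.ι ≫ Q.obj.hom) G),
      Red.IsMaximalTorus i ∧ ∀ k : OrbitIdx (L := L) p, Set.range (q k.1) ⊆ Set.range (U.ι ≫ Q.obj.hom) := by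
  obtain ⟨U, o, ho, hof, hU⟩ := exists_orbit_open Q p hn hcov
  let κ := OrbitIdx (L := L) p
  haveI : Finite κ := by
    have : ∀ j : J, Finite (Fin L ≃ (Fin (p j).r → Fin n)) := fun j => inferInstance
    exact inferInstanceAs (Finite (Σ j : J, (Fin L ≃ (Fin (p j).r → Fin n))))
  let φ : (U : Scheme.{u}) ⟶ S := U.ι ≫ Q.obj.hom
  let P : κ → Scheme.{u} := fun k => (Red.bc (q k.1) G).left
  let l : ∀ k, P k ⟶ Q.obj.left := fun k => (o k).left ≫ pullback.fst Q.obj.hom (q k.1)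
  have hl : ∀ k, Set.range (l k) ⊆ Set.range U.ι := fun k => by
    rw [Scheme.Opens.range_ι, hU]
    exact Set.subset_iUnion (fun k => Set.range (l k)) k
  let lift' : ∀ k, P k ⟶ (U : Scheme.{u}) := fun k => IsOpenImmersion.lift U.ι (l k) (hl k)
  have hl' : ∀ k, lift' k ≫ U.ι = l k := fun k => IsOpenImmersion.lift_fac _ _ _
  let π : ∐ P ⟶ (U : Scheme.{u}) := Sigma.desc lift'
  haveI : Flat π := IsZariskiLocalAtSource.sigmaDesc fun k => by
    haveI : Flat (lift' k ≫ U.ι) := by rw [hl']; exact hof k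
    exact flat_lift (lift' k) U.ι
  haveI := Q.qc inferInstance; haveI := Q.sep; haveI := Q.lfp
  haveI : ∀ k, QuasiCompact (lift' k) := fun k => by
    haveI : QuasiCompact (Red.bc (q k.1) G).hom := MorphismProperty.pullback_snd (P := @QuasiCompact) _ _ inferInstance
    haveI : IsSeparated Q.obj.hom := Q.sep
    haveI : QuasiCompact (l k ≫ Q.obj.hom) := by
      rw [show l k ≫ Q.obj.hom = (Red.bc (q k.1) G).hom ≫ q k.1 by
        rw [Category.assoc, pullback.condition, ← Category.assoc]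
        exact congrArg (· ≫ q k.1) (Over.w (o k))]
      infer_instance
    haveI : QuasiCompact (lift' k ≫ U.ι) := by rw [hl']; exact QuasiCompact.of_comp (l k) Q.obj.hom
    exact QuasiCompact.of_comp (lift' k) U.ι
  haveI := quasiCompact_sigmaDesc lift'
  haveI : Surjective π := ⟨fun y => by
    have hy : U.ι y ∈ (U : Set Q.obj.left) := y.2
    rw [hU] at hy
    obtain ⟨k, w, hw⟩ := Set.mem_iUnion.1 hy
    refine ⟨Sigma.ι P k w, U.ι.isOpenEmbedding.injective ?_⟩
    rw [← Scheme.Hom.comp_apply, ← Scheme.Hom.comp_apply, Sigma.ι_desc_assoc, hl']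
    exact hw⟩
  have hcovU : ∀ V : (U : Scheme.{u}).Opens, IsAffineOpen V →
      ∃ K : (∐ P).Opens, IsCompact (K : Set ↥(∐ P)) ∧ π.base '' (K : Set ↥(∐ P)) = (V : Set ↥(U : Scheme.{u})) :=
    fun V hV => ⟨π ⁻¹ᵁ V, QuasiCompact.isCompact_preimage (f := π) _ V.isOpen hV.isCompact,
      Set.image_preimage_eq _ π.surjective⟩
  let iU : (Over.mk φ : Over S) ⟶ Q.obj := Over.homMk U.ι rfl
  let GU := Red.bc φ G
  haveI : Smooth GU.hom := MorphismProperty.pullback_snd (P := @Smooth) _ _ inferInstance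
  haveI : IsSeparated GU.hom := inferInstanceAs (IsSeparated (pullback.snd G.hom φ))
  haveI : QuasiCompact GU.hom := MorphismProperty.pullback_snd (P := @QuasiCompact) _ _ inferInstance
  let a : Fin L → (𝟙_ (Over (U : Scheme.{u})) ⟶ GU) := fun k => PowEtCentralLib.adjEquiv φ (𝟙_ _)
    ((Over.homMk (𝟙 _) : (Over.map φ).obj (𝟙_ (Over (U : Scheme.{u}))) ⟶ Over.mk φ) ≫ iU ≫ Q.univ k)
  have ha : IsTors n a := isTors_map (PowEtCentralLib.adjEquiv φ (𝟙_ _) (G := G)).toMonoidHom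
    (isTors_comp (isTors_comp Q.isTors iU) _)
  obtain ⟨C, c, hcc, hcs, hc⟩ := exists_tupleCentralizer (by simpa using hn.map φ.appTop.hom) ha
  haveI := hcc; haveI := hcs
  haveI : Mono c := Over.mono_of_mono_left c
  obtain ⟨hCg, hcm⟩ := exists_grpObj_centralizer c hc
  letI := hCg
  haveI := hcm
  choose v β hv hβ hgood using fun k : κ =>
    exists_orbit_data Q (p k.1) k.2 (o k) (ho k) φ iU (lift' k) (hl' k)
  obtain ⟨T, _, j, θ, hj, hθ⟩ := exists_sigma_torus (q := lift') (fun k => (p k.1).r) v hv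
  haveI := DiagRep.isMonHom_bc_map π c
  haveI := mono_bc π c
  haveI := hj.1; haveI := hj.2.1
  have hcent : Red.IsCentralizerOf (G := Red.bc π GU) (Z := Red.bc π C) j ((Over.pullback π).map c) := by
    have hcomm : Commutes (G := Red.bc π GU) ((Over.pullback π).map c) j := by
      refine commutes_sigma fun k => ?_
      let eG := ActBC.bcCompIso (Sigma.ι P k) π GU (Sigma.ι_desc lift' k)
      let eC := ActBC.bcCompIso (Sigma.ι P k) π C (Sigma.ι_desc lift' k)
      haveI : IsMonHom eG.hom := ActBC.bcCompIso_isMonHom _ _ _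
      haveI : IsMonHom eG.inv := inferInstance
      have hk : Commutes (G := Red.bc (lift' k) GU) ((Over.pullback (lift' k)).map c) (v k) := fun X z t => by
        obtain ⟨z₀, rfl⟩ := ((Over.mapPullbackAdj (lift' k)).homEquiv X C).surjective z
        refine hgood k X _ (fun i => ?_) t
        show Commute _ (toUnit X ≫ β k i ≫ v k)
        rw [hβ, toUnit_bcTuple, ← Adjunction.homEquiv_naturality_right]
        have e₀ : Commute (z₀ ≫ c) (toUnit _ ≫ a i) := (hc (z₀ ≫ c)).1 ⟨z₀, rfl⟩ i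
        exact e₀.map (PowEtCentralLib.adjEquiv (lift' k) X (G := GU))
      refine commutes_transport eG.inv eC.hom (θ k).hom ?_ ?_ hk
      · rw [← ActBC.bcCompIso_hom_naturality_assoc, Iso.hom_inv_id, Category.comp_id]
      · rw [← Category.assoc, hθ k, Category.assoc, Iso.hom_inv_id, Category.comp_id]
    refine ⟨inferInstance, inferInstance, fun Y g => ⟨?_, fun hg => ?_⟩⟩
    · rintro ⟨z, rfl⟩ Y' y t
      rw [← Category.assoc]
      exact (hcomm Y' (y ≫ z) t).eq
    · obtain ⟨g₀, rfl⟩ := ((Over.mapPullbackAdj π).homEquiv Y GU).surjective g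
      have hga : ∀ i, Commute ((Over.mapPullbackAdj π).homEquiv Y GU g₀) (toUnit Y ≫ bcTuple π a i) := fun i => by
        refine hom_ext_sigma fun k => ?_
        refine (Functor.map_mul _ _ _).trans (Eq.trans ?_ (Functor.map_mul _ _ _).symm)
        let eG := ActBC.bcCompIso (Sigma.ι P k) π GU (Sigma.ι_desc lift' k)
        let t : Red.bc (Sigma.ι P k) Y ⟶ Red.bc (Sigma.ι P k) T := toUnit _ ≫ β k i ≫ (θ k).inv
        have et : (Over.pullback (Sigma.ι P k)).map (toUnit Y ≫ bcTuple π a i) =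
            t ≫ (Over.pullback (Sigma.ι P k)).map j := by
          have eb : β k i ≫ v k = bcTuple (lift' k) a i := hβ k i
          rw [← cancel_mono eG.hom, map_toUnit_bcTuple π _ _ (Sigma.ι_desc lift' k) a i Y, ← eb]
          simp only [t, Category.assoc]
          rw [← hθ k, Iso.inv_hom_id_assoc]
        rw [et]
        obtain ⟨y₀, hy₀⟩ : ∃ y₀ : (Over.map (Sigma.ι P k)).obj (Red.bc (Sigma.ι P k) Y) ⟶ Y,
            (Over.mapPullbackAdj (Sigma.ι P k)).homEquiv _ _ y₀ = 𝟙 _ := ⟨_, Equiv.apply_symm_apply _ _⟩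
        obtain ⟨t₀, ht₀⟩ : ∃ t₀ : (Over.map (Sigma.ι P k)).obj (Red.bc (Sigma.ι P k) Y) ⟶ T,
            (Over.mapPullbackAdj (Sigma.ι P k)).homEquiv _ _ t₀ = t := ⟨_, Equiv.apply_symm_apply _ _⟩
        rw [← Category.id_comp ((Over.pullback (Sigma.ι P k)).map ((Over.mapPullbackAdj π).homEquiv Y GU g₀)), ← hy₀,
          ← ht₀, ← Adjunction.homEquiv_naturality_right, ← Adjunction.homEquiv_naturality_right]
        exact (AlgGrp.Action.homEquiv_mul _ _ _).symm.trans ((congrArg _ (hg _ y₀ t₀)).trans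
          (AlgGrp.Action.homEquiv_mul _ _ _))
      obtain ⟨h₀, hh₀⟩ := (hc g₀).2 fun i => by
        have e := hga i
        rw [toUnit_bcTuple] at e
        exact (Commute.of_map (PowEtCentralLib.adjEquiv π Y (G := GU)).injective e).eq
      exact ⟨(Over.mapPullbackAdj π).homEquiv Y C h₀, by rw [← Adjunction.homEquiv_naturality_right, hh₀]⟩
  obtain ⟨TU, _, iT, hiT, -⟩ := exists_torus_of_cover π hcovU hj hcent
  refine ⟨U, TU, inferInstance, iT, hiT, fun k => ?_⟩
  rintro _ ⟨w, rfl⟩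
  let η₀ : 𝟙_ (Over (W k.1)) ⟶ Red.bc (q k.1) G := 1
  refine ⟨lift' k (η₀.left w), ?_⟩
  rw [Scheme.Hom.comp_apply, ← Scheme.Hom.comp_apply (lift' k) U.ι, hl']
  show Q.obj.hom (((o k).left ≫ pullback.fst Q.obj.hom (q k.1)) (η₀.left w)) = _
  rw [← Scheme.Hom.comp_apply, ← Scheme.Hom.comp_apply, Category.assoc, pullback.condition,
    ← Category.assoc (o k).left, ← Category.assoc η₀.left]
  erw [Over.w (o k)]
  erw [Over.w η₀]
  rw [Scheme.Hom.comp_apply]
  rfl

end Groth.Agent.TorsTuple
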