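import Groth.Agent.TorsTupleLib.Enum

/-!
Orbits of enumerated tuples read on geometric points.
-/

set_option autoImplicit false
set_option linter.style.haveILetI false
set_option linter.unusedSectionVars false
set_option backward.isDefEq.respectTransparency false
set_option maxHeartbeats 2000000
set_option synthInstance.maxHeartbeats 400000

noncomputable section

universe u

open CategoryTheory CategoryTheory.Limits MonoidalCategory CartesianMonoidalCategory AlgebraicGeometry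
open scoped MonObj

attribute [-instance] CategoryTheory.Hom.commGroup

namespace Groth.Agent.TorsTuple

open Groth.Agent.BorelLib

variable {S : Scheme.{u}} {G : Over S} [GrpObj G]

theorem homEquiv_left_fst {P : Scheme.{u}} (f : P ⟶ S) {X : Over P} {Y : Over S} (z : (Over.map f).obj X ⟶ Y) :
    ((Over.mapPullbackAdj f).homEquiv X Y z).left ≫ pullback.fst Y.hom f = z.left := by
  simp [Over.mapPullbackAdj]

/-- The scheme of tuples commutes with base change. -/
def TupleScheme.bc [QuasiCompact G.hom] {n L : ℕ} (Q : TupleScheme G n L) {P : Scheme.{u}} (f : P ⟶ S) :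
    TupleScheme (Red.bc f G) n L where
  obj := Red.bc f Q.obj
  univ k := (Over.pullback f).map (Q.univ k)
  isTors := isTors_map (MonoidHom.mk' (fun g => (Over.pullback f).map g) fun a b => Functor.map_mul _ a b) Q.isTors
  exists_lift {X} y hy := by
    obtain ⟨h, hh⟩ := Q.exists_lift (fun k => (PowEtCentralLib.adjEquiv f X (G := G)).symm (y k))
      (isTors_map (PowEtCentralLib.adjEquiv f X (G := G)).symm.toMonoidHom hy)
    refine ⟨(Over.mapPullbackAdj f).homEquiv X Q.obj h, fun k => ?_⟩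
    rw [← Adjunction.homEquiv_naturality_right, hh]
    exact (PowEtCentralLib.adjEquiv f X (G := G)).apply_symm_apply (y k)
  ext {X} a b hab := by
    obtain ⟨a₀, rfl⟩ := ((Over.mapPullbackAdj f).homEquiv X Q.obj).surjective a
    obtain ⟨b₀, rfl⟩ := ((Over.mapPullbackAdj f).homEquiv X Q.obj).surjective b
    refine congrArg _ (Q.ext _ _ fun k => ((Over.mapPullbackAdj f).homEquiv X G).injective ?_)
    rw [Adjunction.homEquiv_naturality_right, Adjunction.homEquiv_naturality_right]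
    exact hab k
  lfp := by haveI := Q.lfp; exact MorphismProperty.pullback_snd (P := @LocallyOfFinitePresentation) _ _ inferInstance
  sep := by haveI := Q.sep; exact MorphismProperty.pullback_snd (P := @IsSeparated) _ _ inferInstance
  qc _ := by haveI := Q.qc inferInstance; exact MorphismProperty.pullback_snd (P := @QuasiCompact) _ _ inferInstance

section Pts

variable {n : ℕ} {W : Scheme.{u}} {q : W ⟶ S} (p : LevelPiece G q n) {K : Type u} [Field K]
  (x : Spec (CommRingCat.of K) ⟶ W) (ξ : Spec (CommRingCat.of K) ⟶ S) (hx : x ≫ q = ξ)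

/-- The torus of a piece at a point. -/
def LevelPiece.torusAt : Red.bc x (Red.DS W (Fin p.r → ℤ)) ⟶ Red.bc ξ G :=
  (Over.pullback x).map p.v ≫ (ActBC.bcCompIso x q G hx).hom

/-- An enumerated torsion point at a point. -/
def LevelPiece.ptAt (N : Fin p.r → Fin n) : 𝟙_ _ ⟶ Red.bc x (Red.DS W (Fin p.r → ℤ)) :=
  (Over.mapPullbackAdj x).homEquiv (𝟙_ _) _ (toUnit _ ≫ enumDS p.ζ N)

theorem LevelPiece.isMax_torusAt [Smooth G.hom] [QuasiCompact G.hom] : Red.IsMaximalTorus (p.torusAt x ξ hx) := by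
  haveI : Smooth (Red.bc q G).hom := MorphismProperty.pullback_snd (P := @Smooth) _ _ inferInstance
  haveI : QuasiCompact (Red.bc q G).hom := MorphismProperty.pullback_snd (P := @QuasiCompact) _ _ inferInstance
  haveI : IsMonHom (ActBC.bcCompIso x q G hx).hom := ActBC.bcCompIso_isMonHom _ _ _
  exact MaxTorConj.isMaximalTorus_iso _ (MaxTorConj.isMaximalTorus_bc p.isMax x)

theorem LevelPiece.ptAt_pow (N : Fin p.r → Fin n) : p.ptAt x N ^ n = 1 := by
  show PowEtCentralLib.adjEquiv x (𝟙_ _) (G := Red.DS W (Fin p.r → ℤ)) (toUnit _ ≫ enumDS p.ζ N) ^ n = 1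
  rw [← map_pow, ← MonObj.comp_pow, enumDS_pow p.isPrim.1, MonObj.comp_one, map_one]

theorem LevelPiece.ptAt_bijective [NeZero n] : Function.Injective (p.ptAt x) ∧
    ∀ a : 𝟙_ _ ⟶ Red.bc x (Red.DS W (Fin p.r → ℤ)), a ^ n = 1 → ∃ N, p.ptAt x N = a := by
  obtain ⟨hi, hs⟩ := enum_bijective (r := p.r) p.isPrim x
  refine ⟨fun N N' h => hi (((Over.mapPullbackAdj x).homEquiv _ _).injective h), fun a ha => ?_⟩
  let E := PowEtCentralLib.adjEquiv x (𝟙_ _) (G := Red.DS W (Fin p.r → ℤ))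
  obtain ⟨N, hN⟩ := hs (E.symm a) (by rw [← map_pow, ha, map_one])
  exact ⟨N, (congrArg E hN).trans (E.apply_symm_apply a)⟩

/-- **Two pieces over a point differ by a conjugation and a reindexing.** -/
theorem exists_reindex [NeZero n] [IsAlgClosed K] [Smooth G.hom] [QuasiCompact G.hom] {W₂ : Scheme.{u}} {q₂ : W₂ ⟶ S}
    (p₂ : LevelPiece G q₂ n) (x₂ : Spec (CommRingCat.of K) ⟶ W₂) (hx₂ : x₂ ≫ q₂ = ξ) :
    ∃ (g : 𝟙_ _ ⟶ Red.bc ξ G) (τ : (Fin p.r → Fin n) ≃ (Fin p₂.r → Fin n)),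
      ∀ N, g * (p.ptAt x N ≫ p.torusAt x ξ hx) * g⁻¹ = p₂.ptAt x₂ (τ N) ≫ p₂.torusAt x₂ ξ hx₂ := by
  have h₁ := p.isMax_torusAt x ξ hx
  have h₂ := p₂.isMax_torusAt x₂ ξ hx₂
  haveI := h₁.1; haveI := h₁.2.1; haveI := h₂.1; haveI := h₂.2.1
  haveI : Smooth (Red.bc ξ G).hom := MorphismProperty.pullback_snd (P := @Smooth) _ _ inferInstance
  haveI : QuasiCompact (Red.bc ξ G).hom := MorphismProperty.pullback_snd (P := @QuasiCompact) _ _ inferInstance
  obtain ⟨g, φ, hφ⟩ := MaxTorConj.conj_algClosed (isMaxTorus_of_isMaximalTorus h₁) (isMaxTorus_of_isMaximalTorus h₂)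
  have hc : ∀ a : 𝟙_ _ ⟶ Red.bc x (Red.DS W (Fin p.r → ℤ)),
      g * (a ≫ p.torusAt x ξ hx) * g⁻¹ = (a ≫ φ.hom) ≫ p₂.torusAt x₂ ξ hx₂ := fun a => by
    rw [Category.assoc, ← hφ, MonObj.comp_mul, MonObj.comp_mul, GrpObj.comp_inv, ← Category.assoc a (toUnit _),
      toUnit_unique (a ≫ toUnit _) (𝟙 _), Category.id_comp]
  have hφn : ∀ a : 𝟙_ _ ⟶ Red.bc x (Red.DS W (Fin p.r → ℤ)), a ^ n = 1 ↔ (a ≫ φ.hom) ^ n = 1 := fun a => by
    constructor <;> intro ha
    · refine (cancel_mono (p₂.torusAt x₂ ξ hx₂)).1 ?_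
      rw [MonObj.pow_comp, ← hc, conj_pow, ← MonObj.pow_comp, ha, MonObj.one_comp, MonObj.one_comp, mul_one,
        mul_inv_cancel]
    · refine (cancel_mono (p.torusAt x ξ hx)).1 ?_
      rw [MonObj.pow_comp, MonObj.one_comp]
      have e : (g * (a ≫ p.torusAt x ξ hx) * g⁻¹) ^ n = 1 := by rw [hc, ← MonObj.pow_comp, ha, MonObj.one_comp]
      rw [conj_pow] at e
      exact conj_eq_one_iff.1 e
  choose τ hτ using fun N => (p₂.ptAt_bijective x₂).2 (p.ptAt x N ≫ φ.hom) ((hφn _).1 (p.ptAt_pow x N))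
  refine ⟨g, Equiv.ofBijective τ ⟨fun N N' h => (p.ptAt_bijective x).1 ?_, fun N₂ => ?_⟩, fun N => ?_⟩
  · rw [← cancel_mono φ.hom, ← hτ, ← hτ, h]
  · obtain ⟨N, hN⟩ := (p.ptAt_bijective x).2 (p₂.ptAt x₂ N₂ ≫ φ.inv) ((hφn _).2 (by
      rw [Category.assoc, Iso.inv_hom_id, Category.comp_id]; exact p₂.ptAt_pow x₂ N₂))
    exact ⟨N, (p₂.ptAt_bijective x₂).1 (by rw [hτ, hN, Category.assoc, Iso.inv_hom_id, Category.comp_id])⟩
  · rw [hc, Equiv.ofBijective_apply, hτ]

/-- The tuple of a piece. -/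
def LevelPiece.tuple {L : ℕ} (σ : Fin L ≃ (Fin p.r → Fin n)) (k : Fin L) : 𝟙_ (Over W) ⟶ Red.bc q G :=
  enumDS p.ζ (σ k) ≫ p.v

theorem LevelPiece.isTors_tuple {L : ℕ} (σ : Fin L ≃ (Fin p.r → Fin n)) : IsTors n (p.tuple σ) := by
  haveI := p.isMax.1
  exact isTors_map (compHom p.v _) (y := fun k => enumDS p.ζ (σ k))
    ⟨fun i j => (enumDS_comm p.ζ _ _).eq, fun i => enumDS_pow p.isPrim.1 _⟩

theorem LevelPiece.good_tuple {L : ℕ} (σ : Fin L ≃ (Fin p.r → Fin n)) : Good p.v (p.tuple σ) := fun X g h t =>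
  p.good X g (fun N => by have := h (σ.symm N); rwa [LevelPiece.tuple, Equiv.apply_symm_apply] at this) t

/-- The orbit map evaluated at a point. -/
theorem orbit_eval {L : ℕ} (Q : TupleScheme G n L) (σ : Fin L ≃ (Fin p.r → Fin n)) (o : Red.bc q G ⟶ Red.bc q Q.obj)
    (ho : ∀ k, o ≫ (Over.pullback q).map (Q.univ k) = orbitTuple (p.tuple σ) k)
    (h : (Over.map x).obj (𝟙_ _) ⟶ Red.bc q G) (k : Fin L) :
    ((Over.mapPullbackAdj x).homEquiv _ _ (h ≫ o) ≫ (ActBC.bcCompIso x q Q.obj hx).hom) ≫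
        (Over.pullback ξ).map (Q.univ k) =
      ((Over.mapPullbackAdj x).homEquiv _ _ h ≫ (ActBC.bcCompIso x q G hx).hom) *
        (p.ptAt x (σ k) ≫ p.torusAt x ξ hx) *
        ((Over.mapPullbackAdj x).homEquiv _ _ h ≫ (ActBC.bcCompIso x q G hx).hom)⁻¹ := by
  haveI := p.isMax.1
  haveI : IsMonHom (ActBC.bcCompIso x q G hx).hom := ActBC.bcCompIso_isMonHom _ _ _
  rw [Category.assoc, ← ActBC.bcCompIso_hom_naturality, ← Category.assoc, ← Adjunction.homEquiv_naturality_right,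
    Category.assoc h, ho, comp_orbitTuple]
  show PowEtCentralLib.adjEquiv x (𝟙_ _) (G := Red.bc q G) _ ≫ _ = _
  rw [map_mul, map_mul, map_inv, MonObj.mul_comp, MonObj.mul_comp, GrpObj.inv_comp]
  congr 2
  show _ = p.ptAt x (σ k) ≫ (Over.pullback x).map p.v ≫ _
  rw [← Category.assoc (p.ptAt x (σ k))]
  show _ = ((Over.mapPullbackAdj x).homEquiv _ _ (toUnit _ ≫ enumDS p.ζ (σ k)) ≫ _) ≫ _
  rw [← Adjunction.homEquiv_naturality_right, Category.assoc]
  rfl

end Pts

end Groth.Agent.TorsTuple
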