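import Groth.Agent.TorsTupleLib.LocalTorus
import Groth.Agent.TorsTupleLib.OrbitPts
import Groth.Agent.TorsTupleLib.CartanDesc
import Groth.Agent.TorsTupleLib.Pieces
import Groth.Agent.TorsTupleLib.IsoCrit

/-!
Good tuples in a smooth subgroup.
-/

set_option autoImplicit false
set_option linter.style.haveILetI false
set_option linter.unusedSectionVars false
set_option backward.isDefEq.respectTransparency false
set_option maxHeartbeats 2000000
set_option synthInstance.maxHeartbeats 400000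

noncomputable section

universe u

open CategoryTheory CategoryTheory.Limits MonoidalCategory CartesianMonoidalCategory AlgebraicGeometry
open scoped MonObj

attribute [-instance] CategoryTheory.Hom.commGroup

namespace Groth.Agent.TorsTuple

open Groth.Agent.BorelLib

variable {S : Scheme.{u}} {G : Over S} [GrpObj G]

/-- **The smooth scheme of good tuples in a subgroup conjugate to a standard one.** -/
theorem exists_tuple_cover [IsAffine S] [Smooth G.hom] [IsSeparated G.hom] [QuasiCompact G.hom] {C : Over S}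
    [GrpObj C] {c : C ⟶ G} [IsMonHom c] [Mono c] [Smooth C.hom] {ℓ r : ℕ} (R : RootSystem S ℓ)
    (v : Red.DS S (Fin r → ℤ) ⟶ G) (hv : Red.IsMaximalTorus v) :
    ∃ (n : ℕ) (P : Scheme.{u}) (f : P ⟶ S) (v' : Red.DS P (Fin r → ℤ) ⟶ Red.bc f G)
      (β' : Fin r → (𝟙_ (Over P) ⟶ Red.DS P (Fin r → ℤ))) (w : Fin r → (𝟙_ (Over P) ⟶ Red.bc f C)),
      IsUnit (n : Γ(P, ⊤)) ∧ Smooth f ∧ Red.IsMaximalTorus v' ∧ Good v' (fun k => β' k ≫ v') ∧
      (IsTors n fun k => β' k ≫ v') ∧ (∀ k, w k ≫ (Over.pullback f).map c = β' k ≫ v') ∧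
      ∀ (K : Type u) [Field K] [IsAlgClosed K] (ξ : Spec (CommRingCat.of K) ⟶ S)
        (T' : Over (Spec (CommRingCat.of K))) [GrpObj T'] (i' : T' ⟶ Red.bc ξ G), Red.IsMaximalTorus i' →
        (∃ w' : T' ⟶ Red.bc ξ C, w' ≫ (Over.pullback ξ).map c = i') →
        ∃ (x : Spec (CommRingCat.of K) ⟶ P) (hx : x ≫ f = ξ), ∀ k, ∃ a : 𝟙_ _ ⟶ T', a ≫ i' =
          bcTuple x (fun k => β' k ≫ v') k ≫ (ActBC.bcCompIso x f G hx).hom := by
  haveI := hv.1; haveI := hv.2.1
  obtain ⟨m, hgood⟩ := exists_good_level R v hv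
  let n := ℓ ^ m
  have hn : IsUnit (n : Γ(S, ⊤)) := isUnit_pow R m
  let b := stdTuple v (R.ζ m)
  have hb : IsTors n b := isTors_std v R m
  let β : Fin r → (𝟙_ (Over S) ⟶ Red.DS S (Fin r → ℤ)) := fun k => DSPtsLib.dsPt (coordChar k (R.ζ m))
  have hbβ : ∀ k, b k = β k ≫ v := fun _ => rfl
  haveI : Mono c.left := inferInstanceAs (Mono ((Over.forget S).map c))
  haveI : IsSeparated C.hom := by rw [← Over.w c]; infer_instance
  obtain ⟨Q⟩ := nonempty_tupleScheme G n r
  obtain ⟨QC⟩ := nonempty_tupleScheme C n r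
  haveI := QC.smooth hn
  obtain ⟨o, ho⟩ := Q.exists_lift (orbitTuple b) (isTors_orbitTuple hb)
  haveI := Q.smooth_orbit hn hb o ho
  obtain ⟨cQ, hcQ⟩ := Q.exists_lift (fun k => QC.univ k ≫ c) (isTors_map (compHom c _) QC.isTors)
  let Pk := pullback o cQ
  have sq : IsPullback (pullback.fst o cQ).left (pullback.snd o cQ).left o.left cQ.left :=
    (IsPullback.of_hasPullback o cQ).map (Over.forget S)
  haveI : Smooth (pullback.snd o cQ).left := MorphismProperty.of_isPullback (P := @Smooth) sq ‹_›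
  haveI : Smooth Pk.hom := by rw [← Over.w (pullback.snd o cQ)]; infer_instance
  have hlift : ∀ {X : Over S} (g : X ⟶ G) (z : Fin r → (X ⟶ C)), IsTors n z →
      (∀ k, g * (toUnit X ≫ b k) * g⁻¹ = z k ≫ c) →
      ∃ q : X ⟶ Pk, q ≫ pullback.fst o cQ = g ∧ ∀ k, q ≫ pullback.snd o cQ ≫ QC.univ k = z k := fun {X} g z hz h => by
    obtain ⟨l, hl⟩ := QC.exists_lift z hz
    exact ⟨pullback.lift g l (Q.ext _ _ fun k => by
      rw [Category.assoc, ho, comp_orbitTuple, Category.assoc, hcQ, ← Category.assoc, hl, h]), pullback.lift_fst _ _ _,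
      fun k => by rw [← Category.assoc, pullback.lift_snd, hl]⟩
  have hpts : ∀ (K : Type u) [Field K] [IsAlgClosed K] (ξ : Spec (CommRingCat.of K) ⟶ S)
      (T' : Over (Spec (CommRingCat.of K))) [GrpObj T'] (i' : T' ⟶ Red.bc ξ G), Red.IsMaximalTorus i' →
      (∃ w' : T' ⟶ Red.bc ξ C, w' ≫ (Over.pullback ξ).map c = i') →
      ∃ l : (Over.map ξ).obj (𝟙_ _) ⟶ Pk, ∀ k, ∃ a : 𝟙_ _ ⟶ T', a ≫ i' =
        (Over.mapPullbackAdj ξ).homEquiv (𝟙_ _) G (l ≫ pullback.snd o cQ ≫ QC.univ k ≫ c) := fun K _ _ ξ T' _ i' hi' hw' => by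
    obtain ⟨w, hw⟩ := hw'
    haveI : Smooth (Red.bc ξ G).hom := MorphismProperty.pullback_snd (P := @Smooth) _ _ inferInstance
    haveI : QuasiCompact (Red.bc ξ G).hom := MorphismProperty.pullback_snd (P := @QuasiCompact) _ _ inferInstance
    obtain ⟨g, φ, hφ⟩ := MaxTorConj.conj_algClosed
      (isMaxTorus_of_isMaximalTorus (MaxTorConj.isMaximalTorus_bc hv ξ)) (isMaxTorus_of_isMaximalTorus hi')
    let A := (Over.mapPullbackAdj ξ).homEquiv
    let X := (Over.map ξ).obj (𝟙_ (Over (Spec (CommRingCat.of K))))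
    obtain ⟨g₀, hg₀⟩ := (PowEtCentralLib.adjEquiv ξ (𝟙_ _) (G := G)).surjective g
    let z : Fin r → (X ⟶ C) := fun k => (A _ C).symm (A _ _ (toUnit X ≫ β k) ≫ φ.hom ≫ w)
    have key : ∀ k, g₀ * (toUnit X ≫ b k) * g₀⁻¹ = z k ≫ c := fun k => by
      apply (PowEtCentralLib.adjEquiv ξ (𝟙_ _) (G := G)).injective
      rw [map_mul, map_mul, map_inv, hg₀]
      show g * A _ G (toUnit X ≫ b k) * g⁻¹ = A _ G (z k ≫ c)
      rw [hbβ, ← Category.assoc, Adjunction.homEquiv_naturality_right _ (toUnit X ≫ β k) v,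
        Adjunction.homEquiv_naturality_right _ (z k) c,
        Equiv.apply_symm_apply, Category.assoc, Category.assoc, hw, ← hφ, MonObj.comp_mul, MonObj.comp_mul,
        GrpObj.comp_inv, ← Category.assoc (A _ _ (toUnit X ≫ β k)),
        toUnit_unique (A _ _ (toUnit X ≫ β k) ≫ toUnit _) (𝟙 _), Category.id_comp]
    have hz : IsTors n z := isTors_of_map (compHom c _) (fun a b h => (cancel_mono c).1 h) (by
      have e : (fun k => compHom c _ (z k)) = fun k => g₀ * (toUnit X ≫ b k) * g₀⁻¹ :=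
        funext fun k => (key k).symm
      rw [e]; exact isTors_conj g₀ (isTors_comp hb _))
    obtain ⟨l, -, hl⟩ := hlift g₀ z hz key
    refine ⟨l, fun k => ⟨A _ _ (toUnit X ≫ β k) ≫ φ.hom, ?_⟩⟩
    show _ = A _ G _
    rw [← Category.assoc (pullback.snd o cQ), ← Category.assoc l, hl k, Adjunction.homEquiv_naturality_right _ (z k) c,
      Equiv.apply_symm_apply, Category.assoc, Category.assoc, Category.assoc, hw]
  let P := Pk.left
  let f : P ⟶ S := Pk.hom
  let ζ : (Over.map f).obj (𝟙_ (Over P)) ⟶ Pk := Over.homMk (𝟙 _)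
  let E := PowEtCentralLib.adjEquiv f (𝟙_ (Over P)) (G := G)
  let A := (Over.mapPullbackAdj f).homEquiv (𝟙_ (Over P))
  let g₀ := ζ ≫ pullback.fst o cQ
  let z₀ := fun k => ζ ≫ pullback.snd o cQ ≫ QC.univ k
  have key : ∀ k, g₀ * (toUnit _ ≫ b k) * g₀⁻¹ = z₀ k ≫ c := fun k => by
    rw [← comp_orbitTuple, ← ho]
    show (ζ ≫ pullback.fst o cQ) ≫ o ≫ Q.univ k = (ζ ≫ pullback.snd o cQ ≫ QC.univ k) ≫ c
    rw [Category.assoc, pullback.condition_assoc, hcQ, Category.assoc, Category.assoc]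
  haveI : Smooth (Red.bc f G).hom := MorphismProperty.pullback_snd (P := @Smooth) _ _ inferInstance
  haveI : IsSeparated (Red.bc f G).hom := inferInstanceAs (IsSeparated (pullback.snd G.hom f))
  haveI : QuasiCompact (Red.bc f G).hom := MorphismProperty.pullback_snd (P := @QuasiCompact) _ _ inferInstance
  haveI : Smooth (Red.bc f C).hom := MorphismProperty.pullback_snd (P := @Smooth) _ _ inferInstance
  haveI := DiagRep.isMonHom_bc_map f c
  haveI := mono_bc f c
  haveI := DiagRep.isMonHom_conjBy (E g₀)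
  let e : Red.bc f G ≅ Red.bc f G := asIso (AGF.conjBy (E g₀) (𝟙 (Red.bc f G)))
  haveI : IsMonHom e.hom := DiagRep.isMonHom_conjBy (E g₀)
  let θ : Red.DS P (Fin r → ℤ) ≅ Red.bc f (Red.DS S (Fin r → ℤ)) := (dsIso f _).symm
  haveI : IsMonHom (dsIso (S := S) f (Fin r → ℤ)).hom := ActBC.bcCompIso_isMonHom _ _ _
  haveI : IsMonHom θ.hom := inferInstanceAs (IsMonHom (dsIso f _).inv)
  let v' := (θ.hom ≫ (Over.pullback f).map v) ≫ e.hom
  have hv' : Red.IsMaximalTorus v' :=
    MaxTorConj.isMaximalTorus_iso e (isMaximalTorus_precomp θ (MaxTorConj.isMaximalTorus_bc hv f))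
  let β' := fun k => A _ (toUnit _ ≫ β k) ≫ θ.inv
  have hb' : (fun k => bcTuple f b k ≫ e.hom) = fun k => β' k ≫ v' := funext fun k => by
    show E (toUnit _ ≫ b k) ≫ e.hom = (A _ (toUnit _ ≫ β k) ≫ θ.inv) ≫ (θ.hom ≫ (Over.pullback f).map v) ≫ e.hom
    rw [Category.assoc, Category.assoc, Iso.inv_hom_id_assoc, ← Category.assoc (A _ (toUnit _ ≫ β k))]
    show _ = ((Over.mapPullbackAdj f).homEquiv _ _ (toUnit _ ≫ β k) ≫ (Over.pullback f).map v) ≫ e.hom
    rw [← Adjunction.homEquiv_naturality_right, Category.assoc, ← hbβ]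
    rfl
  have hw : ∀ k, A _ (z₀ k) ≫ (Over.pullback f).map c = β' k ≫ v' := fun k => by
    rw [← congrFun hb' k]
    refine (Adjunction.homEquiv_naturality_right _ _ _).symm.trans ?_
    show E (z₀ k ≫ c) = _
    rw [← key, map_mul, map_mul, map_inv]
    show _ = E (toUnit _ ≫ b k) ≫ AGF.conjBy (E g₀) (𝟙 _)
    rw [MonObj.comp_mul, MonObj.comp_mul, GrpObj.comp_inv, Category.comp_id, ← Category.assoc,
      toUnit_unique (E (toUnit _ ≫ b k) ≫ toUnit _) (𝟙 _), Category.id_comp]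
  have hgood' : Good v' (fun k => β' k ≫ v') :=
    hb' ▸ good_transport e θ.hom (Category.assoc _ _ _).symm (good_bc hgood f)
  have htors : IsTors n fun k => β' k ≫ v' :=
    hb' ▸ isTors_map (compHom e.hom _) (isTors_bcTuple f hb)
  refine ⟨n, P, f, v', β', fun k => A _ (z₀ k), by simpa using hn.map f.appTop.hom, inferInstance, hv', hgood', htors, hw, fun K _ _ ξ T' _ i' hi' hw' => ?_⟩
  obtain ⟨l, hl⟩ := hpts K ξ T' i' hi' hw'
  have hx : l.left ≫ f = ξ := (Over.w l).trans (Category.id_comp ξ)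
  refine ⟨l.left, hx, fun k => ?_⟩
  obtain ⟨a, ha⟩ := hl k
  refine ⟨a, ha.trans ?_⟩
  show _ = bcTuple l.left (fun k => β' k ≫ v') k ≫ _
  rw [show (fun k => β' k ≫ v') = fun k => A _ (z₀ k) ≫ (Over.pullback f).map c from funext fun k => (hw k).symm]
  refine Over.OverMorphism.ext (pullback.hom_ext ?_ ((Over.w _).trans (Over.w _).symm))
  rw [Over.comp_left, Category.assoc, ActBC.bcCompIso_hom_left_fst, ← Category.assoc]
  refine (homEquiv_left_fst ξ _).trans (Eq.trans ?_ (congrArg (· ≫ _) (homEquiv_left_fst (X := 𝟙_ (Over (Spec (CommRingCat.of K)))) l.left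
    (toUnit _ ≫ A _ (z₀ k) ≫ (Over.pullback f).map c))).symm)
  have e2 : (toUnit ((Over.map l.left).obj (𝟙_ (Over (Spec (CommRingCat.of K)))))).left = l.left := by
    have e' : (toUnit ((Over.map l.left).obj (𝟙_ (Over (Spec (CommRingCat.of K)))))).left ≫ 𝟙 _ = 𝟙 _ ≫ l.left := Over.w _
    simpa using e'
  refine Eq.trans ?_ (congrArg (fun t => (t ≫ (A _ (z₀ k) ≫ (Over.pullback f).map c).left) ≫ pullback.fst G.hom f) e2).symm
  rw [← Adjunction.homEquiv_naturality_right, Category.assoc, Category.assoc, homEquiv_left_fst]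
  show l.left ≫ ((pullback.snd o cQ).left ≫ (QC.univ k).left ≫ c.left) =
    l.left ≫ (𝟙 _ ≫ (pullback.snd o cQ).left ≫ (QC.univ k).left) ≫ c.left
  simp only [Category.id_comp, Category.assoc]

end Groth.Agent.TorsTuple
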