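import Groth.Agent.TorsTupleLib.MonoOpen
import Groth.Agent.TorsTupleLib.CartanField
import Groth.Agent.TorsTupleLib.TupleCover
import Groth.Agent.TorsTupleLib.OrbitTorus
import Groth.Agent.CentLocusLib.Global

/-!
The locus where a smooth closed subgroup is a Cartan subgroup is open.
-/

set_option autoImplicit false
set_option linter.style.haveILetI false
set_option linter.unusedSectionVars false
set_option backward.isDefEq.respectTransparency false
set_option maxHeartbeats 2000000
set_option synthInstance.maxHeartbeats 400000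

noncomputable section

universe u

open CategoryTheory CategoryTheory.Limits MonoidalCategory CartesianMonoidalCategory AlgebraicGeometry
open scoped MonObj

attribute [-instance] CategoryTheory.Hom.commGroup

namespace Groth.Agent.TorsTuple

open Groth.Agent.BorelLib

variable {S : Scheme.{u}}

theorem connected_geom {H : Over S} [GrpObj H] [LocallyOfFiniteType H.hom]
    (hconn : ∀ s : S, _root_.IsConnected (H.hom.base ⁻¹' {s})) {K : Type u} [Field K]
    (ξ : Spec (CommRingCat.of K) ⟶ S) : ConnectedSpace (Red.bc ξ H).left := by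
  refine CentLocus.connectedSpace_geom (fun t => ?_) ξ
  haveI := isConnected_iff_connectedSpace.1 (hconn t)
  exact (H.hom.fiberHomeo t).symm.surjective.connectedSpace (H.hom.fiberHomeo t).symm.continuous

variable {G C : Over S} [GrpObj G] [GrpObj C]

/-- **Being Cartan on a fibre is insensitive to the base.** -/
theorem isCartanOver_bc_point_iff [Smooth G.hom] [QuasiCompact G.hom] [Smooth C.hom] [QuasiCompact C.hom] (c : C ⟶ G)
    [IsMonHom c] [Mono c]
    (hCc : ∀ (K : Type u) [Field K] [IsAlgClosed K] (ξ : Spec (CommRingCat.of K) ⟶ S), ConnectedSpace (Red.bc ξ C).left)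
    {P : Scheme.{u}} (g : P ⟶ S) {K : Type u} [Field K] [IsAlgClosed K] (x : Spec (CommRingCat.of K) ⟶ P) (s : S)
    (hs : g (x (IsLocalRing.closedPoint K)) = s) :
    SGA3x.IsCartanOver K (C := Red.bc x (Red.bc g C)) (G := Red.bc x (Red.bc g G))
        ((Over.pullback x).map ((Over.pullback g).map c)) ↔
      SGA3x.IsCartanOver (AlgebraicClosure (S.residueField s)) ((Over.pullback (Red.geomPt s)).map c) := by
  obtain ⟨l, hl⟩ := _root_.MaxTorusRank.exists_lift_geomPt (x ≫ g) s (by rw [Scheme.Hom.comp_apply]; exact hs)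
  haveI := hCc _ (Red.geomPt s)
  rw [← isCartanOver_comp_iff c (Red.geomPt s) (x ≫ g) l hl]
  haveI := DiagRep.isMonHom_bc_map g c
  haveI := mono_bc g c
  let eG := ActBC.bcCompIso x g G rfl
  let eC := ActBC.bcCompIso x g C rfl
  haveI : IsMonHom eG.hom := ActBC.bcCompIso_isMonHom _ _ _
  haveI : IsMonHom eC.hom := ActBC.bcCompIso_isMonHom _ _ _
  haveI : IsMonHom eG.symm.hom := inferInstanceAs (IsMonHom eG.inv)
  haveI : IsMonHom eC.symm.hom := inferInstanceAs (IsMonHom eC.inv)
  have e : (Over.pullback x).map ((Over.pullback g).map c) ≫ eG.hom = eC.hom ≫ (Over.pullback (x ≫ g)).map c :=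
    ActBC.bcCompIso_hom_naturality _ _ _ _
  constructor
  · rintro ⟨-, -, T', _, i', hi', hc'⟩
    refine ⟨DiagRep.isMonHom_bc_map _ c, mono_bc _ c, T', inferInstance, i' ≫ eG.hom,
      MaxTorConj.isMaximalTorus_iso eG hi', isCentralizerOf_transport eG (Iso.refl T') eC.symm (by simp) ?_ hc'⟩
    rw [e, Iso.symm_hom, Iso.inv_hom_id_assoc]
  · rintro ⟨-, -, T', _, i', hi', hc'⟩
    refine ⟨DiagRep.isMonHom_bc_map x _, mono_bc x _, T', inferInstance, i' ≫ eG.inv,
      MaxTorConj.isMaximalTorus_iso eG.symm hi', isCentralizerOf_transport eG.symm (Iso.refl T') eC (by simp) ?_ hc'⟩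
    rw [← Category.assoc, ← e, Category.assoc, Iso.symm_hom, Iso.hom_inv_id, Category.comp_id]

/-- Transport of Cartan subgroups along isomorphisms over the group. -/
theorem isCartanOver_of_fac {k : Type u} [Field k] [IsAlgClosed k] {G Z C C' : Over (Spec (CommRingCat.of k))}
    [GrpObj G] [GrpObj Z] [GrpObj C] [GrpObj C'] (a : Z ⟶ C) [IsMonHom a] [IsIso a] (b : Z ⟶ C') [IsMonHom b] [IsIso b]
    (c : C ⟶ G) [IsMonHom c] [Mono c] (c' : C' ⟶ G) (h : b ≫ c' = a ≫ c) (hc : SGA3x.IsCartanOver k c') :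
    SGA3x.IsCartanOver k c := by
  obtain ⟨-, -, T, _, i, hi, hc'⟩ := hc
  haveI : IsMonHom (asIso a).hom := ‹IsMonHom a›
  haveI : IsMonHom (asIso b).hom := ‹IsMonHom b›
  haveI : IsMonHom ((asIso a).symm ≪≫ asIso b).hom := inferInstanceAs (IsMonHom ((asIso a).inv ≫ (asIso b).hom))
  haveI : IsMonHom (Iso.refl G).hom := inferInstanceAs (IsMonHom (𝟙 _))
  exact ⟨inferInstance, inferInstance, T, inferInstance, i, hi,
    isCentralizerOf_transport (Iso.refl G) (Iso.refl T) ((asIso a).symm ≪≫ asIso b) (by simp) (by simp [h]) hc'⟩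

/-- **With a good tuple of a maximal torus, the Cartan locus is open.** -/
theorem exists_nhd_cartan [Smooth G.hom] [IsSeparated G.hom] [QuasiCompact G.hom] [Smooth C.hom] [QuasiCompact C.hom]
    (c : C ⟶ G) [IsMonHom c] [Mono c]
    (hGc : ∀ (K : Type u) [Field K] [IsAlgClosed K] (ξ : Spec (CommRingCat.of K) ⟶ S), ConnectedSpace (Red.bc ξ G).left)
    (hCc : ∀ (K : Type u) [Field K] [IsAlgClosed K] (ξ : Spec (CommRingCat.of K) ⟶ S), ConnectedSpace (Red.bc ξ C).left)
    {n r : ℕ} (hn : IsUnit (n : Γ(S, ⊤))) {T : Over S} [GrpObj T] {i : T ⟶ G} (hi : Red.IsMaximalTorus i)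
    (β : Fin r → (𝟙_ (Over S) ⟶ T)) (hgood : Good i fun k => β k ≫ i) (htors : IsTors n fun k => β k ≫ i)
    (w : Fin r → (𝟙_ (Over S) ⟶ C)) (hw : ∀ k, w k ≫ c = β k ≫ i) (p : S)
    (hp : SGA3x.IsCartanOver (AlgebraicClosure (S.residueField p)) ((Over.pullback (Red.geomPt p)).map c)) :
    ∃ U : S.Opens, p ∈ U ∧
      ∀ t ∈ U, SGA3x.IsCartanOver (AlgebraicClosure (S.residueField t)) ((Over.pullback (Red.geomPt t)).map c) := by
  haveI : Mono c.left := inferInstanceAs (Mono ((Over.forget S).map c))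
  haveI : IsSeparated C.hom := by rw [← Over.w c]; infer_instance
  have htc : IsTors n w := isTors_of_map (compHom c _) (fun a b h => (cancel_mono c).1 h) (by
    have e : (fun k => compHom c _ (w k)) = fun k => β k ≫ i := funext hw
    rw [e]; exact htors)
  obtain ⟨Z, z, hzc, hzs, hz⟩ := exists_tupleCentralizer hn htc
  haveI := hzc; haveI := hzs
  haveI : Mono z := Over.mono_of_mono_left z
  obtain ⟨hZg, hzm⟩ := exists_grpObj_centralizer z hz
  letI := hZg; haveI := hzm
  haveI : QuasiCompact Z.hom := by rw [← Over.w z]; infer_instance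
  obtain ⟨CT, _, cT, hcT, hcl, hcart, -⟩ := S4118.result S G T i hi
  haveI := hcT.1; haveI := hcT.2.1; haveI := hcl; haveI := hcart.2.2.1
  haveI : QuasiCompact CT.hom := by rw [← Over.w cT]; infer_instance
  obtain ⟨m, hm⟩ := (hcT.2.2 Z (z ≫ c)).2 fun X x t => (hgood X (x ≫ z ≫ c) (fun k => by
    have e := congrArg (· ≫ c) ((hz (x ≫ z)).1 ⟨x, rfl⟩ k)
    simp only [MonObj.mul_comp, Category.assoc, hw] at e
    exact e) t).eq
  haveI : IsMonHom (z ≫ c) := inferInstance
  haveI : IsMonHom (m ≫ cT) := by rw [hm]; infer_instance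
  haveI : IsMonHom m := DiagRep.isMonHom_of_comp_mono m cT
  haveI : Mono (m ≫ cT) := by rw [hm]; infer_instance
  haveI : Mono m := mono_of_mono m cT
  obtain ⟨-, -, T', _, i', hi', hc'⟩ := id hp
  let ξ := Red.geomPt p
  let F := Over.pullback ξ
  let A := (Over.mapPullbackAdj ξ).homEquiv
  haveI : Smooth (Red.bc ξ G).hom := MorphismProperty.pullback_snd (P := @Smooth) _ _ inferInstance
  haveI : QuasiCompact (Red.bc ξ G).hom := MorphismProperty.pullback_snd (P := @QuasiCompact) _ _ inferInstance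
  haveI : IsSeparated (Red.bc ξ G).hom := inferInstanceAs (IsSeparated (pullback.snd G.hom ξ))
  haveI : Mono (F.map c) := mono_bc ξ c
  haveI : Mono (F.map z) := mono_bc ξ z
  haveI : Mono (F.map m) := mono_bc ξ m
  have hcom : Commutes (G := Red.bc ξ G) (F.map c) (F.map i) := by
    refine commutes_of_good (MaxTorConj.isMaximalTorus_bc hi ξ) hi' hc' (good_bc hgood ξ) fun k =>
      ⟨A _ C (toUnit _ ≫ w k), ?_⟩
    rw [← Adjunction.homEquiv_naturality_right, Category.assoc, hw]
    rfl
  haveI : IsIso (F.map z) := by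
    obtain ⟨y, hy⟩ : ∃ y : (Over.map ξ).obj (Red.bc ξ C) ⟶ C, A _ C y = 𝟙 _ := ⟨_, Equiv.apply_symm_apply _ _⟩
    obtain ⟨h, hh⟩ := (hz y).2 fun k => by
      have e := hcom _ (A _ C y) (A _ T (toUnit _ ≫ β k))
      rw [← Adjunction.homEquiv_naturality_right, ← Adjunction.homEquiv_naturality_right] at e
      have e' : Commute (y ≫ c) ((toUnit _ ≫ β k) ≫ i) :=
        Commute.of_map (PowEtCentralLib.adjEquiv ξ (Red.bc ξ C) (G := G)).injective e
      rw [← cancel_mono c, MonObj.mul_comp, MonObj.mul_comp, Category.assoc, hw, ← Category.assoc]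
      exact e'.eq
    have e : A _ Z h ≫ F.map z = 𝟙 _ := by rw [← Adjunction.homEquiv_naturality_right, hh, hy]
    exact ⟨A _ Z h, by rw [← cancel_mono (F.map z), Category.assoc, e, Category.id_comp, Category.comp_id], e⟩
  haveI : IsIso (F.map m) := by
    have h₁ := BorelLib.isCentralizerOf_bc ξ hcT
    haveI := h₁.2.1
    obtain ⟨y, hy⟩ := exists_factor_centralizer (MaxTorConj.isMaximalTorus_bc hi ξ) hi' hc' hcom (F.map cT)
      fun X x t => (h₁.2.2 _ (F.map cT)).1 ⟨𝟙 _, Category.id_comp _⟩ X x t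
    have e : (y ≫ inv (F.map z)) ≫ F.map m = 𝟙 _ := by
      rw [← cancel_mono (F.map cT), Category.assoc, ← F.map_comp, hm, F.map_comp, Category.assoc,
        IsIso.inv_hom_id_assoc, hy, Category.id_comp]
    exact ⟨y ≫ inv (F.map z), by rw [← cancel_mono (F.map m), Category.assoc, e, Category.id_comp, Category.comp_id], e⟩
  have hCTc : ∀ t : S, ConnectedSpace ↥(Red.geomFibre t CT).left := fun t => by
    haveI := hGc _ (Red.geomPt t)
    haveI : Smooth (Red.geomFibre t G).hom := MorphismProperty.pullback_snd (P := @Smooth) _ _ inferInstance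
    haveI : QuasiCompact (Red.geomFibre t G).hom := MorphismProperty.pullback_snd (P := @QuasiCompact) _ _ inferInstance
    exact (NA.cartan_props (hcart.2.2.2 t)).2.2.2
  obtain ⟨U₁, hp₁, hU₁⟩ := exists_nhd_isIso z (fun t => hCc _ (Red.geomPt t)) p inferInstance
  obtain ⟨U₂, hp₂, hU₂⟩ := exists_nhd_isIso m hCTc p inferInstance
  refine ⟨U₁ ⊓ U₂, ⟨hp₁, hp₂⟩, fun t ht => ?_⟩
  let F' := Over.pullback (Red.geomPt t)
  haveI := hU₁ t ht.1
  haveI := hU₂ t ht.2
  haveI := DiagRep.isMonHom_bc_map (Red.geomPt t) z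
  haveI := DiagRep.isMonHom_bc_map (Red.geomPt t) m
  haveI := DiagRep.isMonHom_bc_map (Red.geomPt t) c
  haveI := mono_bc (Red.geomPt t) c
  exact isCartanOver_of_fac (F'.map z) (F'.map m) (F'.map c) (F'.map cT)
    ((F'.map_comp m cT).symm.trans ((congrArg F'.map hm).trans (F'.map_comp z c))) (hcart.2.2.2 t)

/-- **The Cartan locus of a smooth closed subgroup with connected fibres is open.** -/
theorem isOpen_cartan [Smooth G.hom] [IsSeparated G.hom] [QuasiCompact G.hom]
    (hconn : ∀ s : S, _root_.IsConnected (G.hom.base ⁻¹' {s})) (hG : SGA3x.HasMaxTorusFpqcLocally G) (c : C ⟶ G)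
    [IsMonHom c] [IsClosedImmersion c.left] [Smooth C.hom]
    (hCconn : ∀ s : S, _root_.IsConnected (C.hom.base ⁻¹' {s})) :
    IsOpen {s : S | SGA3x.IsCartanOver (AlgebraicClosure (S.residueField s)) ((Over.pullback (Red.geomPt s)).map c)} := by
  let E : Set S := {s | SGA3x.IsCartanOver (AlgebraicClosure (S.residueField s)) ((Over.pullback (Red.geomPt s)).map c)}
  haveI : QuasiCompact C.hom := by rw [← Over.w c]; infer_instance
  haveI : Mono c := Over.mono_of_mono_left c
  have hCc : ∀ (K : Type u) [Field K] [IsAlgClosed K] (ξ : Spec (CommRingCat.of K) ⟶ S),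
      ConnectedSpace (Red.bc ξ C).left := fun K _ _ ξ => connected_geom hCconn ξ
  refine isOpen_iff_forall_mem_open.2 fun s hs => ?_
  obtain ⟨V, hV, hsV, -⟩ := exists_isAffineOpen_mem_and_subset (X := S) (x := s) (U := ⊤) trivial
  obtain ⟨V', hV'a, hV'cov, hV'u⟩ := exists_two_three hV
  obtain ⟨a, hsa⟩ : ∃ a, s ∈ V' a := by
    rw [← hV'cov] at hsV
    exact hsV.elim (fun h => ⟨true, h⟩) (fun h => ⟨false, h⟩)
  obtain ⟨J, hJ, W, q, hWa, hqf, hqc, hp⟩ := exists_pieces hG (hV'a a) (ℓ := if a then 2 else 3)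
    (by cases a <;> norm_num) (hV'u a)
  haveI := hJ
  let B : Scheme.{u} := (V' a : Scheme.{u})
  let ι₀ : B ⟶ S := (V' a).ι
  haveI : IsAffine B := hV'a a
  have hr : ∀ j, Set.range (q j) ⊆ Set.range ι₀ := fun j => by
    rw [Scheme.Opens.range_ι, ← hqc]
    exact Set.subset_iUnion (fun j => Set.range (q j)) j
  let q' : ∀ j, W j ⟶ B := fun j => IsOpenImmersion.lift ι₀ (q j) (hr j)
  have hq' : ∀ j, q' j ≫ ι₀ = q j := fun j => IsOpenImmersion.lift_fac _ _ _
  haveI := hWa
  haveI : ∀ j, Flat (q' j) := fun j => by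
    haveI : Flat (q' j ≫ ι₀) := by rw [hq']; exact hqf j
    exact flat_lift (q' j) ι₀
  haveI : ∀ j, QuasiCompact (q' j) := fun j => inferInstance
  haveI := quasiCompact_sigmaDesc q'
  haveI : Flat (Sigma.desc q') := IsZariskiLocalAtSource.sigmaDesc fun j => inferInstance
  haveI : Surjective (Sigma.desc q') := ⟨fun t => by
    have ht : ι₀ t ∈ (V' a : Set S) := t.2
    rw [← hqc] at ht
    obtain ⟨j, w, hw⟩ := Set.mem_iUnion.1 ht
    refine ⟨Sigma.ι W j w, ι₀.isOpenEmbedding.injective ?_⟩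
    rw [← Scheme.Hom.comp_apply (Sigma.ι W j), Sigma.ι_desc, ← Scheme.Hom.comp_apply, hq']
    exact hw⟩
  have hj : ∀ j, IsOpen ((q j).base ⁻¹' E) := by
    intro j
    obtain ⟨pc⟩ := hp j
    refine isOpen_iff_forall_mem_open.2 fun w₀ hw₀ => ?_
    let GW := Red.bc (q j) G
    let CW := Red.bc (q j) C
    let cW : CW ⟶ GW := (Over.pullback (q j)).map c
    haveI : Smooth GW.hom := MorphismProperty.pullback_snd (P := @Smooth) _ _ inferInstance
    haveI : IsSeparated GW.hom := inferInstanceAs (IsSeparated (pullback.snd G.hom (q j)))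
    haveI : QuasiCompact GW.hom := MorphismProperty.pullback_snd (P := @QuasiCompact) _ _ inferInstance
    haveI : Smooth CW.hom := MorphismProperty.pullback_snd (P := @Smooth) _ _ inferInstance
    haveI : QuasiCompact CW.hom := MorphismProperty.pullback_snd (P := @QuasiCompact) _ _ inferInstance
    haveI : IsMonHom cW := DiagRep.isMonHom_bc_map (q j) c
    haveI : Mono cW := mono_bc (q j) c
    obtain ⟨n, P, f, v', β', w, hn, hfs, hv', hgood, htors, hw, hpts⟩ := exists_tuple_cover (c := cW) pc.roots pc.v pc.isMax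
    haveI := hfs
    let x₀ := Red.geomPt w₀
    have hCart := (isCartanOver_bc_point_iff c hCc (q j) x₀ _ (congrArg (q j) (RedRank.geomPt_apply w₀))).2 hw₀
    obtain ⟨-, -, T', _, i', hi', hc'⟩ := id hCart
    haveI := hi'.1
    obtain ⟨xP, hxP, -⟩ := hpts _ x₀ T' i' hi' ((hc'.2.2 T' i').2 fun X' x t => by
      rw [← MonObj.mul_comp, ← MonObj.mul_comp, (commute_torus hi'.2.2.1 x t).eq])
    let p₀ := xP (IsLocalRing.closedPoint (AlgebraicClosure ((W j).residueField w₀)))
    let cP : Red.bc f CW ⟶ Red.bc f GW := (Over.pullback f).map cW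
    haveI : Smooth (Red.bc f GW).hom := MorphismProperty.pullback_snd (P := @Smooth) _ _ inferInstance
    haveI : IsSeparated (Red.bc f GW).hom := inferInstanceAs (IsSeparated (pullback.snd GW.hom f))
    haveI : QuasiCompact (Red.bc f GW).hom := MorphismProperty.pullback_snd (P := @QuasiCompact) _ _ inferInstance
    haveI : Smooth (Red.bc f CW).hom := MorphismProperty.pullback_snd (P := @Smooth) _ _ inferInstance
    haveI : QuasiCompact (Red.bc f CW).hom := MorphismProperty.pullback_snd (P := @QuasiCompact) _ _ inferInstance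
    haveI : IsMonHom cP := DiagRep.isMonHom_bc_map f cW
    haveI : Mono cP := mono_bc f cW
    have hconnP : ∀ {H : Over S} [GrpObj H] [LocallyOfFiniteType H.hom],
        (∀ s : S, _root_.IsConnected (H.hom.base ⁻¹' {s})) →
        ∀ (K : Type u) [Field K] [IsAlgClosed K] (ξ : Spec (CommRingCat.of K) ⟶ P),
          ConnectedSpace (Red.bc ξ (Red.bc f (Red.bc (q j) H))).left := by
      intro H _ _ hH K _ _ ξ
      haveI := connected_geom hH (ξ ≫ f ≫ q j)
      let e : Red.bc ξ (Red.bc f (Red.bc (q j) H)) ≅ Red.bc (ξ ≫ f ≫ q j) H :=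
        (Over.pullback ξ).mapIso (ActBC.bcCompIso f (q j) H rfl) ≪≫ ActBC.bcCompIso ξ (f ≫ q j) H rfl
      haveI : IsIso e.inv.left := ((Over.forget _).mapIso e).isIso_inv
      exact (Scheme.Hom.surjective e.inv.left).connectedSpace e.inv.left.continuous
    have hCcW : ∀ (K : Type u) [Field K] [IsAlgClosed K] (ξ : Spec (CommRingCat.of K) ⟶ W j),
        ConnectedSpace (Red.bc ξ CW).left := by
      intro K _ _ ξ
      haveI := connected_geom hCconn (ξ ≫ q j)
      let e : Red.bc ξ CW ≅ Red.bc (ξ ≫ q j) C := ActBC.bcCompIso ξ (q j) C rfl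
      haveI : IsIso e.inv.left := ((Over.forget _).mapIso e).isIso_inv
      exact (Scheme.Hom.surjective e.inv.left).connectedSpace e.inv.left.continuous
    have hfp : f p₀ = w₀ := by
      rw [← Scheme.Hom.comp_apply, hxP]
      exact RedRank.geomPt_apply w₀
    have key : ∀ y : P, SGA3x.IsCartanOver (AlgebraicClosure (P.residueField y))
        ((Over.pullback (Red.geomPt y)).map cP) ↔ f y ∈ (q j).base ⁻¹' E := fun y => by
      refine (isCartanOver_bc_point_iff cW hCcW f (Red.geomPt y) _ rfl).trans ?_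
      refine (isCartanOver_bc_point_iff c hCc (q j) _ _ rfl).trans ?_
      rw [RedRank.geomPt_apply, RedRank.geomPt_apply]
      exact Iff.rfl
    obtain ⟨U, hpU, hU⟩ := exists_nhd_cartan cP (hconnP hconn) (hconnP hCconn) hn hv' β' hgood htors w hw p₀
      ((key p₀).2 (by rw [hfp]; exact hw₀))
    refine ⟨f.base '' (U : Set P), ?_, f.isOpenMap _ U.isOpen, ⟨p₀, hpU, hfp⟩⟩
    rintro _ ⟨y, hy, rfl⟩
    exact (key y).1 (hU y hy)
  have hopen : IsOpen (ι₀.base ⁻¹' E) := by
    rw [← (Flat.isQuotientMap_of_surjective (Sigma.desc q')).isOpen_preimage]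
    have e : (Sigma.desc q') ⁻¹' (ι₀.base ⁻¹' E) = ⋃ j, (Sigma.ι W j).base '' ((q j).base ⁻¹' E) := by
      refine Set.ext fun z => ⟨fun hz => ?_, fun hz => ?_⟩
      · obtain ⟨j, y, rfl⟩ := DescLib.exists_sigma_mem z
        refine Set.mem_iUnion.2 ⟨j, y, ?_, rfl⟩
        show q j y ∈ E
        rw [← hq' j, Scheme.Hom.comp_apply, ← Sigma.ι_desc q' j, Scheme.Hom.comp_apply]
        exact hz
      · obtain ⟨j, y, hy, rfl⟩ := Set.mem_iUnion.1 hz
        show ι₀ (Sigma.desc q' (Sigma.ι W j y)) ∈ E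
        rw [← Scheme.Hom.comp_apply (Sigma.ι W j), Sigma.ι_desc, ← Scheme.Hom.comp_apply, hq']
        exact hy
    rw [e]
    exact isOpen_iUnion fun j => (Sigma.ι W j).isOpenMap _ (hj j)
  exact ⟨ι₀.base '' (ι₀.base ⁻¹' E), Set.image_preimage_subset _ _, ι₀.isOpenMap _ hopen, ⟨⟨s, hsa⟩, hs, rfl⟩⟩

end Groth.Agent.TorsTuple
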