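import Groth.Agent.TorsTupleLib.CartanDesc
import Groth.Agent.BorelLib.CentralPreimageRanks

/-!
Cartan subgroups of subgroups containing a Cartan subgroup.
-/

set_option autoImplicit false
set_option linter.style.haveILetI false
set_option linter.unusedSectionVars false
set_option backward.isDefEq.respectTransparency false
set_option maxHeartbeats 2000000
set_option synthInstance.maxHeartbeats 400000

noncomputable section

universe u

open CategoryTheory CategoryTheory.Limits MonoidalCategory CartesianMonoidalCategory AlgebraicGeometry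
open scoped MonObj

attribute [-instance] CategoryTheory.Hom.commGroup

namespace Groth.Agent.TorsTuple

open Groth.Agent.BorelLib

variable {k : Type u} [Field k] [IsAlgClosed k] {G H : Over (Spec (CommRingCat.of k))} [GrpObj G] [GrpObj H]
  [Smooth G.hom] [QuasiCompact G.hom] [Smooth H.hom] [QuasiCompact H.hom]
  (i : H ⟶ G) [IsMonHom i] [Mono i]

/-- **A maximal torus of a subgroup containing a Cartan subgroup is maximal, with centralizer in the subgroup.** -/
theorem maxTorus_of_sub_cartan {C' : Over (Spec (CommRingCat.of k))} [GrpObj C'] {c' : C' ⟶ H}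
    (hC' : SGA3x.IsCartanOver k (c' ≫ i)) {T : Over (Spec (CommRingCat.of k))} [GrpObj T] {t : T ⟶ H}
    (ht : Red.IsMaximalTorus t) :
    Red.IsMaximalTorus (t ≫ i) ∧ ∀ (X : Over (Spec (CommRingCat.of k))) (g : X ⟶ G),
      (∀ (X' : Over (Spec (CommRingCat.of k))) (x : X' ⟶ X) (s : X' ⟶ T),
        (x ≫ g) * (s ≫ t ≫ i) = (s ≫ t ≫ i) * (x ≫ g)) → ∃ y : X ⟶ H, y ≫ i = g := by
  obtain ⟨hm, hmo, T', _, i', hi', hc⟩ := hC'
  haveI := hm; haveI := hi'.1; haveI := hi'.2.1; haveI := ht.1; haveI := ht.2.1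
  obtain ⟨w, hw⟩ := (hc.2.2 T' i').2 fun X' x s => by
    rw [← MonObj.mul_comp, ← MonObj.mul_comp, (commute_torus hi'.2.2.1 x s).eq]
  have ht' : (w ≫ c') ≫ i = i' := by rw [Category.assoc, hw]
  have hmax' := NA.isMaxTorus_of_sub i (isMaxTorus_of_isMaximalTorus hi') ht'
  obtain ⟨g, φ, hφ⟩ := MaxTorConj.conj_algClosed (isMaxTorus_of_isMaximalTorus ht) hmax'
  haveI := hmax'.1; haveI := hmax'.2.1
  haveI : IsMonHom φ.hom := by
    haveI := DiagRep.isMonHom_conjBy g
    haveI : IsMonHom (φ.hom ≫ w ≫ c') := by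
      rw [← hφ, show (toUnit T ≫ g) * t * (toUnit T ≫ g)⁻¹ = t ≫ AGF.conjBy g (𝟙 H) by
        rw [MonObj.comp_mul, MonObj.comp_mul, GrpObj.comp_inv, Category.comp_id, ← Category.assoc,
          toUnit_unique (t ≫ toUnit H) (toUnit T)]]
      infer_instance
    exact DiagRep.isMonHom_of_comp_mono φ.hom (w ≫ c')
  let g' : 𝟙_ _ ⟶ G := g ≫ i
  haveI := DiagRep.isMonHom_conjBy g'
  let e : G ≅ G := asIso (AGF.conjBy g' (𝟙 G))
  haveI : IsMonHom e.hom := DiagRep.isMonHom_conjBy g'
  haveI : IsMonHom e.inv := inferInstance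
  haveI : IsMonHom e.symm.hom := inferInstanceAs (IsMonHom e.inv)
  have he : ∀ {X : Over (Spec (CommRingCat.of k))} (x : X ⟶ G),
      x ≫ e.hom = (toUnit X ≫ g') * x * (toUnit X ≫ g')⁻¹ := fun {X} x => by
    show x ≫ AGF.conjBy g' (𝟙 G) = _
    rw [MonObj.comp_mul, MonObj.comp_mul, GrpObj.comp_inv, Category.comp_id, ← Category.assoc,
      toUnit_unique (x ≫ toUnit G) (toUnit X)]
  have hte : (t ≫ i) ≫ e.hom = φ.hom ≫ i' := by
    rw [he, ← ht', ← Category.assoc φ.hom, ← hφ, MonObj.mul_comp, MonObj.mul_comp, GrpObj.inv_comp, Category.assoc]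
  refine ⟨?_, fun X x hx => ?_⟩
  · have h1 := MaxTorConj.isMaximalTorus_iso e.symm (isMaximalTorus_precomp φ hi')
    rwa [← hte, Category.assoc, Iso.symm_hom, Iso.hom_inv_id, Category.comp_id] at h1
  · obtain ⟨z, hz⟩ := (hc.2.2 X (x ≫ e.hom)).2 fun X' x' s => by
      have := congrArg (· ≫ e.hom) (hx X' x' (s ≫ φ.inv))
      simp only [MonObj.mul_comp, Category.assoc] at this hte
      rw [hte, Iso.inv_hom_id_assoc] at this
      exact this
    refine ⟨(toUnit X ≫ g)⁻¹ * (z ≫ c') * (toUnit X ≫ g), ?_⟩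
    rw [MonObj.mul_comp, MonObj.mul_comp, GrpObj.inv_comp, Category.assoc, Category.assoc, hz, he]
    simp only [g', mul_assoc, inv_mul_cancel_left, inv_mul_cancel, mul_one]

/-- **Cartan subgroups of such a subgroup are those of the group lying in it.** -/
theorem isCartanOver_sub_iff {C' : Over (Spec (CommRingCat.of k))} [GrpObj C'] {c' : C' ⟶ H}
    (hC' : SGA3x.IsCartanOver k (c' ≫ i)) {C : Over (Spec (CommRingCat.of k))} [GrpObj C] (c : C ⟶ H) [IsMonHom c]
    [Mono c] : SGA3x.IsCartanOver k c ↔ SGA3x.IsCartanOver k (c ≫ i) := by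
  constructor
  · rintro ⟨-, -, T, _, t, ht, hc⟩
    obtain ⟨hmax, hfac⟩ := maxTorus_of_sub_cartan i hC' ht
    refine ⟨inferInstance, inferInstance, T, inferInstance, t ≫ i, hmax, inferInstance, inferInstance,
      fun X g => ⟨?_, fun hg => ?_⟩⟩
    · rintro ⟨z, rfl⟩ X' x s
      have e := congrArg (· ≫ i) ((hc.2.2 X (z ≫ c)).1 ⟨z, rfl⟩ X' x s)
      simp only [MonObj.mul_comp, Category.assoc] at e
      exact e
    · obtain ⟨y, rfl⟩ := hfac X g hg
      obtain ⟨z, hz⟩ := (hc.2.2 X y).2 fun X' x s => (cancel_mono i).1 (by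
        rw [MonObj.mul_comp, MonObj.mul_comp]
        simpa only [Category.assoc] using hg X' x s)
      exact ⟨z, by rw [← Category.assoc, hz]⟩
  · rintro ⟨-, -, T, _, j, hj, hc⟩
    haveI := hj.1; haveI := hj.2.1
    obtain ⟨w, hw⟩ := (hc.2.2 T j).2 fun X' x s => by
      rw [← MonObj.mul_comp, ← MonObj.mul_comp, (commute_torus hj.2.2.1 x s).eq]
    have hw' : (w ≫ c) ≫ i = j := by rw [Category.assoc, hw]
    have hmax := isMaximalTorus_of_isMaxTorus (NA.isMaxTorus_of_sub i (isMaxTorus_of_isMaximalTorus hj) hw')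
    refine ⟨inferInstance, inferInstance, T, inferInstance, w ≫ c, hmax, inferInstance, inferInstance,
      fun X g => ⟨?_, fun hg => ?_⟩⟩
    · rintro ⟨z, rfl⟩ X' x s
      refine (cancel_mono i).1 ?_
      rw [MonObj.mul_comp, MonObj.mul_comp]
      have e := (hc.2.2 X (z ≫ c ≫ i)).1 ⟨z, rfl⟩ X' x s
      simpa only [Category.assoc, hw] using e
    · obtain ⟨z, hz⟩ := (hc.2.2 X (g ≫ i)).2 fun X' x s => by
        have e := congrArg (· ≫ i) (hg X' x s)
        simp only [MonObj.mul_comp, Category.assoc] at e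
        rw [hw] at e
        exact e
      exact ⟨z, (cancel_mono i).1 (by rw [Category.assoc, hz])⟩

end Groth.Agent.TorsTuple
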