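import Groth.Agent.TorsTupleLib.EtaleLocal
import Groth.Agent.MaxTorConjLib.PreimageDesc
import Groth.Agent.GrpHomLib.Image
import Groth.Agent.BorelLib.CentralPreimageRanks
import Groth.Agent.AbSchLib.Flat
import Mathlib.AlgebraicGeometry.Sites.Fpqc

/-!
Cartan subgroups and homomorphisms with central kernel.
-/

set_option autoImplicit false
set_option linter.style.haveILetI false
set_option linter.unusedSectionVars false
set_option backward.isDefEq.respectTransparency false
set_option maxHeartbeats 2000000
set_option synthInstance.maxHeartbeats 400000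

noncomputable section

universe u

open CategoryTheory CategoryTheory.Limits MonoidalCategory CartesianMonoidalCategory AlgebraicGeometry
open scoped MonObj

attribute [-instance] CategoryTheory.Hom.commGroup

namespace Groth.Agent.TorsTuple

open Groth.Agent.BorelLib

variable {k : Type u} [Field k] [IsAlgClosed k]

/-- The identity component maps onto a connected target of a surjective homomorphism. -/
theorem surjective_comp_open {A G G' : Over (Spec (CommRingCat.of k))} [GrpObj A] [GrpObj G] [GrpObj G']
    [Smooth A.hom] [QuasiCompact A.hom] [Smooth G.hom] [Smooth G'.hom] [QuasiCompact G'.hom] [ConnectedSpace G'.left]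
    (a : A ⟶ G) [IsMonHom a] [IsOpenImmersion a.left] (u : G ⟶ G') [IsMonHom u] [Surjective u.left] :
    Surjective (a ≫ u).left := by
  haveI : GeometricallyReduced G'.hom := AbSchLib.geometricallyReduced_of_smooth G'.hom
  haveI : Flat u.left := AbSchLib.flat_of_surjective u
  haveI := CentPre.lfp_left u
  haveI : GeometricallyIntegral G'.hom := AlbLib.geometricallyIntegral_grp G'
  haveI : IrreducibleSpace G'.left := GeometricallyIrreducible.irreducibleSpace_of_subsingleton G'.hom
  haveI : IsSeparated G'.hom := Groth.Agent.GrpField.isSeparated_grp (G := G')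
  haveI : QuasiCompact ((a ≫ u).left ≫ G'.hom) := by rw [Over.w (a ≫ u)]; infer_instance
  haveI : QuasiCompact (a ≫ u).left := QuasiCompact.of_comp (a ≫ u).left G'.hom
  refine GrpHom.surjective_of_denseRange (a ≫ u) ?_
  have ho : IsOpen (Set.range (a ≫ u).left.base) := by
    rw [Over.comp_left]
    exact (a.left ≫ u.left).isOpenMap.isOpen_range
  exact ho.dense ⟨_, (η[A] : 𝟙_ _ ⟶ A).left (IsLocalRing.closedPoint k), rfl⟩

/-- **A surjection maps the centralizer of a maximal torus onto that of its image.** -/
theorem surjective_centralizer_map {G G' : Over (Spec (CommRingCat.of k))} [GrpObj G] [GrpObj G'] [Smooth G.hom]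
    [QuasiCompact G.hom] [Smooth G'.hom] [QuasiCompact G'.hom] [ConnectedSpace G'.left] (u : G ⟶ G') [IsMonHom u]
    [Surjective u.left] {T T' : Over (Spec (CommRingCat.of k))} [GrpObj T] [GrpObj T'] {i : T ⟶ G}
    (hT : Red.IsMaximalTorus i) (i' : T' ⟶ G') [IsMonHom i'] [Mono i'] (p : T ⟶ T') [Flat p.left] [Surjective p.left]
    (hp : p ≫ i' = i ≫ u) {C C' : Over (Spec (CommRingCat.of k))} [GrpObj C] [GrpObj C'] {c : C ⟶ G} {c' : C' ⟶ G'}
    (hC : Red.IsCentralizerOf i c) (hC' : Red.IsCentralizerOf i' c') (v : C ⟶ C') (hv : v ≫ c' = c ≫ u) :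
    Surjective v.left := by
  haveI := hT.1; haveI := hT.2.1; haveI := hC'.2.1; haveI := hC'.1
  obtain ⟨A, _, a, ha, hac, hao, hAs, hAconn, hfac⟩ := CentPre.exists_comp_open (G := G)
  haveI := ha; haveI := hac; haveI := hao; haveI := hAs; haveI := hAconn
  haveI : Mono a := DiagRep.mono_of_isClosedImmersion a hac
  haveI : QuasiCompact A.hom := by rw [← Over.w a]; infer_instance
  haveI : IsSeparated A.hom := Groth.Agent.GrpField.isSeparated_grp (G := A)
  haveI := surjective_comp_open a u
  obtain ⟨-, -, hcl, -, hred, -⟩ := NA.torus_props i hT.2.2.1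
  haveI := hred; haveI := hcl
  obtain ⟨t, ht⟩ := hfac T i
  have htmax := NA.isMaxTorus_of_sub a (isMaxTorus_of_isMaximalTorus hT) ht
  haveI := htmax.1; haveI := htmax.2.1
  obtain ⟨C₀, _, c₀, hc₀, -⟩ := S4118.result _ A T t (isMaximalTorus_of_isMaxTorus htmax)
  haveI := hc₀.1; haveI := hc₀.2.1
  haveI : IsMonHom (a ≫ u) := inferInstance
  obtain ⟨v₀, -, hv₀s, -, hv₀⟩ := NA.exists_centralizer_map (u := a ≫ u) htmax i' p
    (by rw [hp, ← Category.assoc, ht]) hc₀ hC'
  obtain ⟨l, hl⟩ := (hC.2.2 C₀ (c₀ ≫ a)).2 fun X x s => by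
    have e := congrArg (· ≫ a) ((hc₀.2.2 C₀ c₀).1 ⟨𝟙 _, Category.id_comp _⟩ X x s)
    simp only [MonObj.mul_comp, Category.assoc, ht] at e
    exact e
  have e : l ≫ v = v₀ := by
    rw [← cancel_mono c', Category.assoc, hv, ← Category.assoc, hl, hv₀, Category.assoc]
  haveI : Surjective (l.left ≫ v.left) := by rw [← Over.comp_left, e]; exact hv₀s
  exact Surjective.of_comp l.left v.left

variable {S : Scheme.{u}} {G G' : Over S} [GrpObj G] [GrpObj G']

/-- **Centralizers of a maximal torus and of its image form a cartesian square.** -/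
theorem exists_centralizer_square [Smooth G.hom] [IsSeparated G.hom] [QuasiCompact G.hom] [Smooth G'.hom]
    [IsSeparated G'.hom] [QuasiCompact G'.hom] (u : G ⟶ G') [IsMonHom u] [Surjective u.left]
    (hconn' : ∀ s : S, _root_.IsConnected (G'.hom.base ⁻¹' {s}))
    (hker : ∀ (X : Over S) (z : X ⟶ G), z ≫ u = 1 → ∀ (X' : Over S) (x : X' ⟶ X) (g : X' ⟶ G),
      (x ≫ z) * g = g * (x ≫ z))
    {T T' : Over S} [GrpObj T] [GrpObj T'] {i : T ⟶ G} (hT : Red.IsMaximalTorus i) {i' : T' ⟶ G'}
    (hT' : Red.IsMaximalTorus i') (p : T ⟶ T') [Flat p.left] [Surjective p.left] (hp : p ≫ i' = i ≫ u)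
    {C C' : Over S} [GrpObj C] [GrpObj C'] {c : C ⟶ G} [Smooth C.hom] (hC : Red.IsCentralizerOf i c) {c' : C' ⟶ G'}
    [Smooth C'.hom] (hC' : Red.IsCentralizerOf i' c') :
    ∃ v : C ⟶ C', IsMonHom v ∧ Surjective v.left ∧ Flat v.left ∧ IsPullback c v u c' := by
  haveI := hC.1; haveI := hC.2.1; haveI := hC'.1; haveI := hC'.2.1
  haveI := hT.1; haveI := hT.2.1; haveI := hT'.1; haveI := hT'.2.1
  haveI : QuasiCompact T.hom := by
    haveI := MultEq.isAffineHom_of_isMultTypeFT (RedRank.isMultTypeFT_of_isTorus hT.2.2.1)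
    infer_instance
  haveI : IsSeparated T'.hom := by
    haveI := MultEq.isAffineHom_of_isMultTypeFT (RedRank.isMultTypeFT_of_isTorus hT'.2.2.1)
    infer_instance
  haveI : QuasiCompact p.left := by
    haveI : QuasiCompact (p.left ≫ T'.hom) := by rw [Over.w p]; infer_instance
    exact QuasiCompact.of_comp p.left T'.hom
  obtain ⟨v, hv⟩ := (hC'.2.2 C (c ≫ u)).2 fun X x t => by
    let Y := pullback p t
    let y : Y ⟶ X := pullback.snd p t
    have sq : IsPullback (pullback.fst p t).left y.left p.left t.left :=
      (IsPullback.of_hasPullback p t).map (Over.forget S)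
    haveI : Flat y.left := MorphismProperty.of_isPullback (P := @Flat) sq ‹_›
    haveI : Surjective y.left := MorphismProperty.of_isPullback (P := @Surjective) sq ‹_›
    haveI : QuasiCompact y.left := MorphismProperty.of_isPullback (P := @QuasiCompact) sq ‹_›
    haveI : Epi ((Over.forget S).map y) := inferInstanceAs (Epi y.left)
    haveI : Epi y := (Over.forget S).epi_of_epi_map ‹_›
    have e := congrArg (· ≫ u) (commutes_of_centralizer hC Y (y ≫ x) (pullback.fst p t)).eq
    simp only [MonObj.mul_comp, Category.assoc] at e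
    rw [← cancel_epi y, MonObj.comp_mul, MonObj.comp_mul, ← Category.assoc y t, ← pullback.condition,
      Category.assoc, hp]
    simpa only [Category.assoc] using e
  haveI : IsMonHom (v ≫ c') := by rw [hv]; infer_instance
  haveI : IsMonHom v := DiagRep.isMonHom_of_comp_mono v c'
  haveI : Surjective v.left := MaxTorConj.surjective_of_geom_fibres (G := C) (G' := C') v fun s => by
    let ξ := Red.geomPt s
    let F := Over.pullback ξ
    haveI : Smooth (Red.bc ξ G).hom := MorphismProperty.pullback_snd (P := @Smooth) _ _ inferInstance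
    haveI : QuasiCompact (Red.bc ξ G).hom := MorphismProperty.pullback_snd (P := @QuasiCompact) _ _ inferInstance
    haveI : Smooth (Red.bc ξ G').hom := MorphismProperty.pullback_snd (P := @Smooth) _ _ inferInstance
    haveI : QuasiCompact (Red.bc ξ G').hom := MorphismProperty.pullback_snd (P := @QuasiCompact) _ _ inferInstance
    haveI : ConnectedSpace ↥(Red.bc ξ G').left := by
      refine CentLocus.connectedSpace_geom (fun t => ?_) (Red.geomPt s)
      haveI := isConnected_iff_connectedSpace.1 (hconn' t)
      exact (G'.hom.fiberHomeo t).symm.surjective.connectedSpace (G'.hom.fiberHomeo t).symm.continuous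
    haveI : IsMonHom (M := Red.bc ξ G) (N := Red.bc ξ G') (F.map u) := DiagRep.isMonHom_bc_map ξ u
    haveI := DiagRep.isMonHom_bc_map ξ i'
    haveI := mono_bc ξ i'
    haveI : Surjective (F.map u).left := surjective_bc ξ u
    haveI : Surjective (F.map p).left := surjective_bc ξ p
    haveI : Flat (F.map p).left := MorphismProperty.overPullbackMap (P := @Flat) _ p ‹_›
    exact surjective_centralizer_map (F.map u) (MaxTorConj.isMaximalTorus_bc hT ξ) (F.map i') (F.map p)
      (by rw [← F.map_comp, hp, F.map_comp]) (BorelLib.isCentralizerOf_bc ξ hC) (BorelLib.isCentralizerOf_bc ξ hC')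
      (F.map v) (by rw [← F.map_comp, hv, F.map_comp])
  haveI : GeometricallyReduced C'.hom := AbSchLib.geometricallyReduced_of_smooth C'.hom
  haveI : Flat v.left := AbSchLib.flat_of_surjective v
  haveI : IsSeparated C'.hom := by
    haveI : Mono c'.left := inferInstanceAs (Mono ((Over.forget S).map c'))
    rw [← Over.w c']; infer_instance
  haveI : QuasiCompact C.hom := by
    obtain ⟨C₁, _, c₁, hc₁, hcl, -⟩ := S4118.result S G T i hT
    haveI := hcl; haveI := hc₁.1; haveI := hc₁.2.1
    obtain ⟨a, ha⟩ := (hc₁.2.2 C c).2 fun X x t => (hC.2.2 C c).1 ⟨𝟙 _, Category.id_comp _⟩ X x t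
    obtain ⟨b, hb⟩ := (hC.2.2 C₁ c₁).2 fun X x t => (hc₁.2.2 C₁ c₁).1 ⟨𝟙 _, Category.id_comp _⟩ X x t
    let e : C ≅ C₁ :=
      { hom := a, inv := b
        hom_inv_id := by rw [← cancel_mono c, Category.assoc, hb, ha, Category.id_comp]
        inv_hom_id := by rw [← cancel_mono c₁, Category.assoc, ha, hb, Category.id_comp] }
    haveI : IsIso e.hom.left := ((Over.forget _).mapIso e).isIso_hom
    haveI : QuasiCompact C₁.hom := by rw [← Over.w c₁]; infer_instance
    rw [← Over.w e.hom]; infer_instance
  haveI : QuasiCompact v.left := by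
    haveI : QuasiCompact (v.left ≫ C'.hom) := by rw [Over.w v]; infer_instance
    exact QuasiCompact.of_comp v.left C'.hom
  let P := pullback u c'
  let l : C ⟶ P := pullback.lift c v hv.symm
  haveI : Mono l := mono_of_mono_fac (pullback.lift_fst c v hv.symm)
  let Y := pullback v (pullback.snd u c')
  let q : Y ⟶ P := pullback.snd v (pullback.snd u c')
  have sq : IsPullback (pullback.fst v (pullback.snd u c')).left q.left v.left (pullback.snd u c').left :=
    (IsPullback.of_hasPullback v (pullback.snd u c')).map (Over.forget S)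
  haveI : Flat q.left := MorphismProperty.of_isPullback (P := @Flat) sq ‹_›
  haveI : Surjective q.left := MorphismProperty.of_isPullback (P := @Surjective) sq ‹_›
  haveI : QuasiCompact q.left := MorphismProperty.of_isPullback (P := @QuasiCompact) sq ‹_›
  let g : Y ⟶ G := q ≫ pullback.fst u c'
  let b : Y ⟶ G := pullback.fst v (pullback.snd u c') ≫ c
  have hgb : (g * b⁻¹) ≫ u = 1 := by
    rw [MonObj.mul_comp, GrpObj.inv_comp, mul_inv_eq_one]
    simp only [g, b, q, Category.assoc]
    rw [pullback.condition (f := u) (g := c'), ← hv, ← Category.assoc, ← pullback.condition, Category.assoc]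
  obtain ⟨z, hz⟩ := (hC.2.2 Y (g * b⁻¹)).2 fun X x t => hker Y _ hgb X x (t ≫ i)
  let h : Y ⟶ C := z * pullback.fst v (pullback.snd u c')
  have hh : h ≫ l = q := by
    refine pullback.hom_ext ?_ ?_
    · rw [Category.assoc, pullback.lift_fst, MonObj.mul_comp, hz, inv_mul_cancel_right]
    · rw [Category.assoc, pullback.lift_snd, ← cancel_mono c', Category.assoc h v, hv, ← Category.assoc,
        MonObj.mul_comp, hz, inv_mul_cancel_right, Category.assoc, Category.assoc, pullback.condition (f := u) (g := c')]
  haveI : EffectiveEpi q.left := inferInstance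
  haveI : StrongEpi (h.left ≫ l.left) := by rw [← Over.comp_left, hh]; infer_instance
  haveI : StrongEpi l.left := strongEpi_of_strongEpi h.left l.left
  haveI : Mono l.left := inferInstanceAs (Mono ((Over.forget S).map l))
  haveI : IsIso ((Over.forget S).map l) := isIso_of_mono_of_strongEpi l.left
  haveI : IsIso l := isIso_of_reflects_iso l (Over.forget S)
  exact ⟨v, inferInstance, inferInstance, inferInstance, IsPullback.of_iso_pullback ⟨hv.symm⟩ (asIso l)
    (pullback.lift_fst c v hv.symm) (pullback.lift_snd c v hv.symm)⟩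

end Groth.Agent.TorsTuple
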