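import Groth.Agent.DSPtsLib.Basic
import Mathlib.Algebra.Polynomial.Laurent
import Mathlib.Algebra.Polynomial.Roots
import Mathlib.RingTheory.Polynomial.Cyclotomic.Roots
import Mathlib.AlgebraicGeometry.Morphisms.Separated

/-!
Commuting with infinitely many torsion points of a split torus is commuting with the torus.
-/

set_option autoImplicit false
set_option linter.style.haveILetI false
set_option backward.isDefEq.respectTransparency false
set_option maxHeartbeats 1000000
set_option synthInstance.maxHeartbeats 400000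

noncomputable section

universe u

open CategoryTheory CategoryTheory.Limits MonoidalCategory CartesianMonoidalCategory AlgebraicGeometry
open scoped MonObj LaurentPolynomial

namespace Groth.Agent.TorsTuple

variable {S : Scheme.{u}} {r : ℕ}

/-- The characters concentrated in one coordinate. -/
def coordChar {A : Type u} [CommRing A] (i : Fin r) (w : Aˣ) : Multiplicative (Fin r → ℤ) →* A :=
  (Units.coeHom A).comp ((zpowersHom Aˣ w).comp (AddMonoidHom.toMultiplicative (Pi.evalAddMonoidHom (fun _ : Fin r => ℤ) i)))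

theorem coordChar_map {A B : Type u} [CommRing A] [CommRing B] (f : A →+* B) (i : Fin r) (w : Aˣ) :
    f.toMonoidHom.comp (coordChar i w) = coordChar i (Units.map f.toMonoidHom w) := by
  refine MonoidHom.ext fun m => ?_
  simp [coordChar, ← map_zpow]

theorem prod_coordChar {A : Type u} [CommRing A] (χ : Multiplicative (Fin r → ℤ) →* A) :
    χ = ∏ i, coordChar i (χ.toHomUnits (.ofAdd (Pi.single i 1))) := by
  have h : χ.toHomUnits = ∏ i, (zpowersHom Aˣ (χ.toHomUnits (.ofAdd (Pi.single i 1)))).comp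
      (AddMonoidHom.toMultiplicative (Pi.evalAddMonoidHom (fun _ : Fin r => ℤ) i)) := by
    refine MonoidHom.ext fun m => ?_
    rw [MonoidHom.finsetProd_apply]
    have hm : m = ∏ i, (Multiplicative.ofAdd (Pi.single i (1 : ℤ))) ^ (m.toAdd i) := by
      apply Multiplicative.toAdd.injective
      rw [toAdd_prod]
      simp only [toAdd_zpow, toAdd_ofAdd]
      funext j
      simp [Finset.sum_apply, Pi.single_apply]
    conv_lhs => rw [hm, map_prod]
    simp [map_zpow]
  refine MonoidHom.ext fun m => ?_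
  have := congrArg Units.val (DFunLike.congr_fun h m)
  rw [MonoidHom.coe_toHomUnits, MonoidHom.finsetProd_apply, Units.coe_prod] at this
  rw [this, MonoidHom.finsetProd_apply]
  rfl

variable {G : Over S} [GrpObj G] (v : Red.DS S (Fin r → ℤ) ⟶ G) [IsMonHom v]

/-- The point with one coordinate of the split torus. -/
def coordPt {X : Over S} (i : Fin r) (w : Γ(X.left, ⊤)ˣ) : X ⟶ G := DSPtsLib.dsPt (coordChar i w) ≫ v

theorem comp_coordPt {X Y : Over S} (f : X ⟶ Y) (i : Fin r) (w : Γ(Y.left, ⊤)ˣ) :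
    f ≫ coordPt v i w = coordPt v i (Units.map f.left.appTop.hom.toMonoidHom w) := by
  rw [coordPt, coordPt, ← Category.assoc, DSPtsLib.dsPt_natural, ← coordChar_map]

/-- A point commuting with all coordinate points commutes with all points. -/
theorem commute_of_coord {X : Over S} (g : X ⟶ G)
    (h : ∀ (i : Fin r) (w : Γ(X.left, ⊤)ˣ), Commute g (coordPt v i w)) (t : X ⟶ Red.DS S (Fin r → ℤ)) :
    Commute g (t ≫ v) := by
  obtain ⟨χ, rfl⟩ := (DSPtsLib.dsPt_bijective X).2 t
  rw [prod_coordChar χ]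
  refine Finset.prod_induction _ (fun χ => Commute g (DSPtsLib.dsPt χ ≫ v)) (fun a b ha hb => ?_) ?_ fun i _ => h i _
  · show Commute g _
    rw [DSPtsLib.dsPt_mul, MonObj.mul_comp]
    exact ha.mul_right hb
  · show Commute g _
    rw [DSPtsLib.dsPt_one, MonObj.one_comp]
    exact Commute.one_right g

theorem exists_toLaurent {K : Type u} [Field K] (f : K[T;T⁻¹]) :
    ∃ (n : ℕ) (p : Polynomial K), p.toLaurent = f * LaurentPolynomial.T n := LaurentPolynomial.exists_T_pow f

/-- A Laurent polynomial with infinitely many roots vanishes. -/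
theorem laurent_eq_zero {K : Type u} [Field K] (f : K[T;T⁻¹]) (R : Set Kˣ) (hR : R.Infinite)
    (h : ∀ ρ ∈ R, LaurentPolynomial.eval₂ (RingHom.id K) ρ f = 0) : f = 0 := by
  obtain ⟨n, p, hp⟩ := exists_toLaurent f
  have hp0 : p = 0 := by
    refine Polynomial.eq_zero_of_infinite_isRoot p ((hR.image Units.val_injective.injOn).mono ?_)
    rintro _ ⟨ρ, hρ, rfl⟩
    have := congrArg (LaurentPolynomial.eval₂ (RingHom.id K) ρ) hp
    rw [map_mul, h ρ hρ, zero_mul, LaurentPolynomial.eval₂_toLaurent] at this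
    simpa [Polynomial.eval₂_id] using this
  rw [hp0, map_zero] at hp
  exact (mul_eq_zero.1 hp.symm).resolve_right (LaurentPolynomial.isUnit_T (n : ℤ)).ne_zero

/-- A point over a field commuting with infinitely many values of a coordinate commutes with all of them. -/
theorem commute_coord_of_infinite [IsSeparated G.hom] {K : Type u} [Field K] (x : Spec (CommRingCat.of K) ⟶ S)
    (g : (Over.mk x : Over S) ⟶ G) (i : Fin r) (R : Set Kˣ) (hR : R.Infinite)
    (h : ∀ ρ ∈ R, Commute g (coordPt v (X := Over.mk x) i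
      (Units.map (Scheme.ΓSpecIso (CommRingCat.of K)).inv.hom.toMonoidHom ρ)))
    (w : Γ((Over.mk x : Over S).left, ⊤)ˣ) : Commute g (coordPt v i w) := by
  let L := K[T;T⁻¹]
  let π : Spec (CommRingCat.of L) ⟶ Spec (CommRingCat.of K) := Spec.map (CommRingCat.ofHom (algebraMap K L))
  let XL : Over S := Over.mk (π ≫ x)
  let ev : Kˣ → (Spec (CommRingCat.of K) ⟶ Spec (CommRingCat.of L)) := fun ρ =>
    Spec.map (CommRingCat.ofHom (LaurentPolynomial.eval₂ (RingHom.id K) ρ))
  have hev : ∀ ρ, ev ρ ≫ π = 𝟙 _ := fun ρ => by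
    show Spec.map _ ≫ Spec.map _ = _
    rw [← Spec.map_comp, ← Spec.map_id]
    congr 1
    refine CommRingCat.hom_ext (RingHom.ext fun c => ?_)
    show LaurentPolynomial.eval₂ (RingHom.id K) ρ (algebraMap K L c) = c
    rw [show algebraMap K L c = LaurentPolynomial.C c from rfl, LaurentPolynomial.eval₂_C, RingHom.id_apply]
  let e : Kˣ → ((Over.mk x : Over S) ⟶ XL) := fun ρ => Over.homMk (ev ρ) (by
    show ev ρ ≫ π ≫ x = x
    rw [← Category.assoc, hev, Category.id_comp])
  let q : XL ⟶ Over.mk x := Over.homMk π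
  let T₁ : Γ(XL.left, ⊤)ˣ := Units.map (Scheme.ΓSpecIso (CommRingCat.of L)).inv.hom.toMonoidHom
    (LaurentPolynomial.isUnit_T (1 : ℤ)).unit
  have hT₁ : ∀ ρ, Units.map (e ρ).left.appTop.hom.toMonoidHom T₁ =
      Units.map (Scheme.ΓSpecIso (CommRingCat.of K)).inv.hom.toMonoidHom ρ := fun ρ => by
    refine Units.ext ?_
    show (ev ρ).appTop ((Scheme.ΓSpecIso (CommRingCat.of L)).inv (LaurentPolynomial.T 1)) =
      (Scheme.ΓSpecIso (CommRingCat.of K)).inv (ρ : K)
    have hn := Scheme.ΓSpecIso_inv_naturality (CommRingCat.ofHom (LaurentPolynomial.eval₂ (RingHom.id K) ρ))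
    have h1 := ConcreteCategory.congr_hom hn (LaurentPolynomial.T 1)
    refine h1.symm.trans ?_
    show (Scheme.ΓSpecIso (CommRingCat.of K)).inv (LaurentPolynomial.eval₂ (RingHom.id K) ρ (LaurentPolynomial.T 1)) = _
    congr 1
    show LaurentPolynomial.eval₂ (RingHom.id K) ρ (LaurentPolynomial.T 1) = ρ
    rw [LaurentPolynomial.eval₂_T, zpow_one]
  let a : XL ⟶ G := (q ≫ g) * coordPt v i T₁
  let b : XL ⟶ G := coordPt v i T₁ * (q ≫ g)
  have hpull : ∀ ρ, e ρ ≫ a = g * coordPt v i (Units.map (Scheme.ΓSpecIso (CommRingCat.of K)).inv.hom.toMonoidHom ρ) ∧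
      e ρ ≫ b = coordPt v i (Units.map (Scheme.ΓSpecIso (CommRingCat.of K)).inv.hom.toMonoidHom ρ) * g := fun ρ => by
    have hq : e ρ ≫ q = 𝟙 _ := Over.OverMorphism.ext (hev ρ)
    constructor <;> simp only [a, b, MonObj.comp_mul, reassoc_of% hq, comp_coordPt, hT₁]
  let F : (∐ fun _ : R => Spec (CommRingCat.of K)) ⟶ Spec (CommRingCat.of L) := Sigma.desc fun ρ => ev ρ.1
  haveI : IsDominant F := ⟨fun z => mem_closure_iff.2 fun U hU hzU => by
    obtain ⟨_, ⟨f, rfl⟩, hzf, hfU⟩ :=
      PrimeSpectrum.isTopologicalBasis_basic_opens.exists_subset_of_mem_open hzU hU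
    have hf : f ≠ 0 := fun h0 => hzf (h0 ▸ Ideal.zero_mem _)
    obtain ⟨ρ, hρ, hρf⟩ : ∃ ρ ∈ R, LaurentPolynomial.eval₂ (RingHom.id K) ρ f ≠ 0 := by
      by_contra hne
      push Not at hne
      exact hf (laurent_eq_zero f R hR hne)
    refine ⟨ev ρ (IsLocalRing.closedPoint K), hfU ?_, ⟨Sigma.ι (fun _ : R => Spec (CommRingCat.of K)) ⟨ρ, hρ⟩
      (IsLocalRing.closedPoint K), ?_⟩⟩
    · show f ∉ Ideal.comap (LaurentPolynomial.eval₂ (RingHom.id K) ρ) (IsLocalRing.maximalIdeal K)
      rw [Ideal.mem_comap, IsLocalRing.mem_maximalIdeal, mem_nonunits_iff, not_not, isUnit_iff_ne_zero]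
      exact hρf
    · rw [← Scheme.Hom.comp_apply, Sigma.ι_desc]⟩
  haveI : AlgebraicGeometry.IsReduced XL.left := inferInstanceAs (AlgebraicGeometry.IsReduced (Spec (CommRingCat.of L)))
  have hab : a = b := Over.OverMorphism.ext (ext_of_isDominant_of_isSeparated G.hom
    ((Over.w a).trans (Over.w b).symm) F (Sigma.hom_ext _ _ fun ρ => by
      rw [Sigma.ι_desc_assoc, Sigma.ι_desc_assoc]
      have := congrArg CommaMorphism.left ((hpull ρ.1).1.trans ((h ρ.1 ρ.2).eq.trans (hpull ρ.1).2.symm))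
      exact this))
  obtain ⟨ρ, rfl⟩ : ∃ ρ, Units.map (Scheme.ΓSpecIso (CommRingCat.of K)).inv.hom.toMonoidHom ρ = w :=
    (Units.mapEquiv (Scheme.ΓSpecIso (CommRingCat.of K)).commRingCatIsoToRingEquiv.symm.toMulEquiv).surjective w
  have := congrArg (e ρ ≫ ·) hab
  rw [(hpull ρ).1, (hpull ρ).2] at this
  exact this

/-- The standard torsion tuple of a split torus. -/
def stdTuple (ζ : Γ(S, ⊤)ˣ) (i : Fin r) : 𝟙_ (Over S) ⟶ G := coordPt v (X := 𝟙_ (Over S)) i ζ

theorem isTors_stdTuple {ζ : Γ(S, ⊤)ˣ} {n : ℕ} (hζ : ζ ^ n = 1) :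
    (∀ i j, Commute (stdTuple v ζ i) (stdTuple v ζ j)) ∧ ∀ i, stdTuple v ζ i ^ n = 1 := by
  refine ⟨fun i j => ?_, fun i => ?_⟩
  · show _ * _ = _ * _
    simp only [stdTuple, coordPt, ← MonObj.mul_comp, ← DSPtsLib.dsPt_mul, mul_comm]
  · have hpow : ∀ k : ℕ, stdTuple v ζ i ^ k = coordPt v (X := 𝟙_ (Over S)) i (ζ ^ k) := fun k => by
      induction k with
      | zero =>
        rw [pow_zero, pow_zero, coordPt, show coordChar i (1 : Γ((𝟙_ (Over S)).left, ⊤)ˣ) = 1 from
          MonoidHom.ext fun m => by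
            simp [coordChar]
            rfl, DSPtsLib.dsPt_one, MonObj.one_comp]
      | succ k ih =>
        rw [pow_succ, ih, pow_succ, stdTuple, coordPt, coordPt, coordPt, ← MonObj.mul_comp, ← DSPtsLib.dsPt_mul]
        congr 2
        exact MonoidHom.ext fun m => by simp [coordChar, mul_zpow]
    rw [hpow, hζ, ← pow_zero ζ, ← hpow 0, pow_zero]

/-- **A point over a field commuting with all the torsion tuples commutes with the split torus.** -/
theorem commute_of_stdTuples [IsSeparated G.hom] (ζ : ℕ → Γ(S, ⊤)ˣ) {ℓ : ℕ} (hℓ : 1 < ℓ)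
    (hζ : ∀ (K : Type u) [Field K] (x : Spec (CommRingCat.of K) ⟶ S) (m : ℕ),
      IsPrimitiveRoot ((Scheme.ΓSpecIso (CommRingCat.of K)).hom (x.appTop (ζ m : Γ(S, ⊤)))) (ℓ ^ m))
    {K : Type u} [Field K] (x : Spec (CommRingCat.of K) ⟶ S) (g : (Over.mk x : Over S) ⟶ G)
    (h : ∀ m i, Commute g (toUnit _ ≫ stdTuple v (ζ m) i)) (t : (Over.mk x : Over S) ⟶ Red.DS S (Fin r → ℤ)) :
    Commute g (t ≫ v) := by
  let ρ : ℕ → Kˣ := fun m => Units.map ((x.appTop ≫ (Scheme.ΓSpecIso (CommRingCat.of K)).hom).hom.toMonoidHom) (ζ m)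
  have hρ : Function.Injective ρ := fun m m' e => by
    have hm := hζ K x m
    have hm' := hζ K x m'
    have e' := congrArg Units.val e
    simp only [ρ, Units.coe_map] at e'
    exact Nat.pow_right_injective hℓ (hm.unique (e' ▸ hm'))
  refine commute_of_coord v g (fun i w => commute_coord_of_infinite v x g i (Set.range ρ)
    (Set.infinite_range_of_injective hρ) ?_ w) t
  rintro _ ⟨m, rfl⟩
  have e : Units.map (Scheme.ΓSpecIso (CommRingCat.of K)).inv.hom.toMonoidHom (ρ m) =
      Units.map (toUnit (Over.mk x : Over S)).left.appTop.hom.toMonoidHom (ζ m) := by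
    refine Units.ext ?_
    have hx : (toUnit (Over.mk x : Over S)).left = x := by
      have := Over.w (toUnit (Over.mk x : Over S))
      simpa using this
    show (Scheme.ΓSpecIso (CommRingCat.of K)).inv ((Scheme.ΓSpecIso (CommRingCat.of K)).hom (x.appTop (ζ m : Γ(S, ⊤)))) = _
    rw [Iso.hom_inv_id_apply]
    show _ = (toUnit (Over.mk x : Over S)).left.appTop (ζ m : Γ(S, ⊤))
    simp only [hx]
    rfl
  rw [e]
  have := h m i
  rwa [stdTuple, comp_coordPt] at this

end Groth.Agent.TorsTuple
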