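import Groth.Agent.TorsTupleLib.LocalTorus

/-!
Enumeration of the torsion points of a split torus.
-/

set_option autoImplicit false
set_option linter.style.haveILetI false
set_option linter.unusedSectionVars false
set_option backward.isDefEq.respectTransparency false
set_option maxHeartbeats 2000000
set_option synthInstance.maxHeartbeats 400000

noncomputable section

universe u

open CategoryTheory CategoryTheory.Limits MonoidalCategory CartesianMonoidalCategory AlgebraicGeometry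
open scoped MonObj

attribute [-instance] CategoryTheory.Hom.commGroup

namespace Groth.Agent.TorsTuple

open Groth.Agent.BorelLib

variable {S : Scheme.{u}} {n r : ℕ}

/-- The character sending `e` to `ζ ^ ∑ Nᵢ eᵢ`. -/
def expChar {A : Type u} [CommRing A] (ζ : Aˣ) (N : Fin r → Fin n) : Multiplicative (Fin r → ℤ) →* A :=
  (Units.coeHom A).comp ((zpowersHom Aˣ ζ).comp (AddMonoidHom.toMultiplicative
    (AddMonoidHom.mk' (fun e : Fin r → ℤ => ∑ i, ((N i : ℕ) : ℤ) * e i)
      fun a b => by simp [mul_add, Finset.sum_add_distrib])))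

theorem expChar_apply {A : Type u} [CommRing A] (ζ : Aˣ) (N : Fin r → Fin n) (m : Multiplicative (Fin r → ℤ)) :
    expChar ζ N m = ((ζ ^ (∑ i, ((N i : ℕ) : ℤ) * m.toAdd i) : Aˣ) : A) := rfl

theorem expChar_map {A B : Type u} [CommRing A] [CommRing B] (f : A →+* B) (ζ : Aˣ) (N : Fin r → Fin n) :
    f.toMonoidHom.comp (expChar ζ N) = expChar (Units.map f.toMonoidHom ζ) N := by
  refine MonoidHom.ext fun m => ?_
  simp [expChar_apply, ← map_zpow]

theorem expChar_single {A : Type u} [CommRing A] (ζ : Aˣ) (N : Fin r → Fin n) (i : Fin r) :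
    expChar ζ N (.ofAdd (Pi.single i 1)) = ((ζ ^ (N i : ℕ) : Aˣ) : A) := by
  simp [expChar_apply, Pi.single_apply]

theorem expChar_pow {A : Type u} [CommRing A] {ζ : Aˣ} (hζ : ζ ^ n = 1) (N : Fin r → Fin n) :
    expChar ζ N ^ n = 1 := by
  refine MonoidHom.ext fun m => ?_
  rw [MonoidHom.pow_apply, MonoidHom.one_apply, expChar_apply, ← Units.val_pow_eq_pow_val, ← zpow_natCast,
    ← zpow_mul, mul_comm, zpow_mul, zpow_natCast, hζ, one_zpow, Units.val_one]

theorem exists_expChar {K : Type u} [CommRing K] [IsDomain K] [NeZero n] {ζ : Kˣ}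
    (hζ : IsPrimitiveRoot (ζ : K) n) (χ : Multiplicative (Fin r → ℤ) →* K) (hχ : χ ^ n = 1) :
    ∃ N : Fin r → Fin n, χ = expChar ζ N := by
  choose N hN hN' using fun i : Fin r =>
    hζ.eq_pow_of_pow_eq_one (ξ := χ (.ofAdd (Pi.single i 1))) (by
      rw [← MonoidHom.pow_apply, hχ, MonoidHom.one_apply])
  refine ⟨fun i => ⟨N i, hN i⟩, ?_⟩
  rw [prod_coordChar χ, prod_coordChar (expChar ζ _)]
  refine Finset.prod_congr rfl fun i _ => congrArg (coordChar i) (Units.ext ?_)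
  rw [MonoidHom.coe_toHomUnits, MonoidHom.coe_toHomUnits, expChar_single, Units.val_pow_eq_pow_val]
  exact (hN' i).symm

theorem expChar_injective {K : Type u} [CommRing K] {ζ : Kˣ} (hζ : IsPrimitiveRoot (ζ : K) n) :
    Function.Injective (expChar (r := r) (n := n) ζ) := fun N N' h => funext fun i => Fin.ext (by
  have e := DFunLike.congr_fun h (.ofAdd (Pi.single i 1))
  rw [expChar_single, expChar_single, Units.val_pow_eq_pow_val, Units.val_pow_eq_pow_val] at e
  exact hζ.pow_inj (N i).2 (N' i).2 e)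

/-- The enumerated torsion points. -/
def enumDS (ζ : Γ(S, ⊤)ˣ) (N : Fin r → Fin n) : 𝟙_ (Over S) ⟶ Red.DS S (Fin r → ℤ) :=
  DSPtsLib.dsPt (T := 𝟙_ (Over S)) (expChar ζ N)

theorem toUnit_enumDS {X : Over S} (ζ : Γ(S, ⊤)ˣ) (N : Fin r → Fin n) :
    toUnit X ≫ enumDS ζ N =
      DSPtsLib.dsPt (expChar (Units.map (toUnit X).left.appTop.hom.toMonoidHom ζ) N) := by
  rw [enumDS, DSPtsLib.dsPt_natural, ← expChar_map]

/-- Points as characters. -/
def dsHom (T : Over S) : (Multiplicative (Fin r → ℤ) →* Γ(T.left, ⊤)) →* (T ⟶ Red.DS S (Fin r → ℤ)) :=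
  MonoidHom.mk' DSPtsLib.dsPt DSPtsLib.dsPt_mul

theorem enumDS_pow {ζ : Γ(S, ⊤)ˣ} (hζ : ζ ^ n = 1) (N : Fin r → Fin n) : enumDS ζ N ^ n = 1 := by
  show dsHom (𝟙_ (Over S)) (expChar ζ N) ^ n = 1
  rw [← map_pow, expChar_pow (A := Γ(S, ⊤)) hζ]
  exact map_one _

theorem enumDS_comm (ζ : Γ(S, ⊤)ˣ) (N N' : Fin r → Fin n) : Commute (enumDS ζ N) (enumDS ζ N') := by
  show dsHom (𝟙_ (Over S)) (expChar ζ N) * dsHom _ _ = dsHom _ _ * dsHom (𝟙_ (Over S)) (expChar ζ N)
  rw [← map_mul, ← map_mul, mul_comm]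

/-- A root of order `n` which is primitive at all field valued points. -/
def IsPrimRoot (n : ℕ) (ζ : Γ(S, ⊤)ˣ) : Prop :=
  ζ ^ n = 1 ∧ ∀ (K : Type u) [Field K] (x : Spec (CommRingCat.of K) ⟶ S),
    IsPrimitiveRoot ((Scheme.ΓSpecIso (CommRingCat.of K)).hom (x.appTop (ζ : Γ(S, ⊤)))) n

theorem isPrimRoot_roots {ℓ : ℕ} (R : RootSystem S ℓ) (m : ℕ) : IsPrimRoot (ℓ ^ m) (R.ζ m) :=
  ⟨R.pow_eq_one m, fun K _ x => R.primitive K x m⟩

/-- **Over a field the enumeration is a bijection onto the torsion points.** -/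
theorem enum_bijective [NeZero n] {ζ : Γ(S, ⊤)ˣ} (hζ : IsPrimRoot n ζ) {K : Type u} [Field K]
    (x : Spec (CommRingCat.of K) ⟶ S) :
    Function.Injective (fun N : Fin r → Fin n =>
      toUnit ((Over.map x).obj (𝟙_ (Over (Spec (CommRingCat.of K))))) ≫ enumDS ζ N) ∧
    ∀ p : (Over.map x).obj (𝟙_ (Over (Spec (CommRingCat.of K)))) ⟶ Red.DS S (Fin r → ℤ), p ^ n = 1 →
      ∃ N : Fin r → Fin n, toUnit _ ≫ enumDS ζ N = p := by
  let X := (Over.map x).obj (𝟙_ (Over (Spec (CommRingCat.of K))))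
  let e : Γ(X.left, ⊤) ≃+* K := (Scheme.ΓSpecIso (CommRingCat.of K)).commRingCatIsoToRingEquiv
  haveI : IsDomain Γ(X.left, ⊤) := e.toMulEquiv.isDomain K
  let z := Units.map (toUnit X).left.appTop.hom.toMonoidHom ζ
  have hX : (toUnit X).left = x := by
    have e' : (toUnit X).left ≫ 𝟙 S = 𝟙 _ ≫ x := Over.w (toUnit X)
    simpa using e'
  have hz : IsPrimitiveRoot (z : Γ(X.left, ⊤)) n := by
    refine IsPrimitiveRoot.of_map_of_injective (f := e) ?_ e.injective
    have := hζ.2 K x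
    rw [← hX] at this
    exact this
  refine ⟨fun N N' h => ?_, fun p hp => ?_⟩
  · simp only [toUnit_enumDS] at h
    exact expChar_injective hz ((DSPtsLib.dsPt_bijective X).1 h)
  · obtain ⟨χ, rfl⟩ := (DSPtsLib.dsPt_bijective X).2 p
    obtain ⟨N, rfl⟩ := exists_expChar hz χ ((DSPtsLib.dsPt_bijective X).1 (by
      show dsHom X (χ ^ n) = dsHom X 1
      rw [map_pow, map_one]
      exact hp))
    exact ⟨N, toUnit_enumDS ζ N⟩

variable {G : Over S} [GrpObj G]

theorem stdTuple_eq_enum (hn : 1 < n) (v : Red.DS S (Fin r → ℤ) ⟶ G) [IsMonHom v] (ζ : Γ(S, ⊤)ˣ) (i : Fin r) :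
    stdTuple v ζ i = enumDS ζ (fun j => if j = i then (⟨1, hn⟩ : Fin n) else ⟨0, by omega⟩) ≫ v := by
  have e : ∀ (A : Type u) [CommRing A] (z : Aˣ), coordChar i z =
      expChar z (fun j => if j = i then (⟨1, hn⟩ : Fin n) else ⟨0, by omega⟩) := fun A _ z => by
    refine MonoidHom.ext fun m => ?_
    simp [coordChar, expChar_apply, apply_ite Fin.val, ite_mul]
  unfold stdTuple coordPt enumDS
  exact congrArg (fun χ => DSPtsLib.dsPt (T := 𝟙_ (Over S)) χ ≫ v) (e _ ζ)

theorem good_of_le {ℓ : ℕ} (R : RootSystem S ℓ) (v : Red.DS S (Fin r → ℤ) ⟶ G) [IsMonHom v] {m m' : ℕ}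
    (h : m ≤ m') (hm : Good v (stdTuple v (R.ζ m))) : Good v (stdTuple v (R.ζ m')) := by
  induction h with
  | refl => exact hm
  | step _ ih => exact fun X g hg t => ih X g (fun i => commute_succ v R g _ hg i) t

/-- A split maximal torus with an enumerated good set of torsion points. -/
structure LevelPiece {S : Scheme.{u}} (G : Over S) [GrpObj G] {W : Scheme.{u}} (q : W ⟶ S) (n : ℕ) where
  /-- the rank -/
  r : ℕ
  /-- the torus -/
  v : Red.DS W (Fin r → ℤ) ⟶ Red.bc q G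
  isMax : Red.IsMaximalTorus v
  /-- the root of unity -/
  ζ : Γ(W, ⊤)ˣ
  isPrim : IsPrimRoot n ζ
  good : ∀ (X : Over W) (g : X ⟶ Red.bc q G), (∀ N : Fin r → Fin n, Commute g (toUnit X ≫ enumDS ζ N ≫ v)) →
    ∀ t : X ⟶ Red.DS W (Fin r → ℤ), Commute g (t ≫ v)

/-- **Finitely many pieces have a common level.** -/
theorem exists_levelPieces [Smooth G.hom] [IsSeparated G.hom] [QuasiCompact G.hom] {J : Type u} [Finite J]
    {W : J → Scheme.{u}} [∀ j, IsAffine (W j)] (q : ∀ j, W j ⟶ S) {ℓ : ℕ} (hℓ : 1 < ℓ)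
    (p : ∀ j, Piece G (q j) ℓ) : ∃ m, ∀ j, Nonempty (LevelPiece G (q j) (ℓ ^ m)) := by
  have hl : ∀ j, ∃ m, Good (p j).v (stdTuple (p j).v ((p j).roots.ζ m)) := fun j => by
    haveI : Smooth (Red.bc (q j) G).hom := MorphismProperty.pullback_snd (P := @Smooth) _ _ inferInstance
    haveI : IsSeparated (Red.bc (q j) G).hom := inferInstanceAs (IsSeparated (pullback.snd G.hom (q j)))
    haveI : QuasiCompact (Red.bc (q j) G).hom := MorphismProperty.pullback_snd (P := @QuasiCompact) _ _ inferInstance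
    exact exists_good_level (p j).roots (p j).v (p j).isMax
  choose m hm using hl
  obtain ⟨M, hM⟩ := Finite.exists_le m
  refine ⟨M + 1, fun j => ?_⟩
  haveI := (p j).isMax.1
  have hg := good_of_le (p j).roots (p j).v ((hM j).trans M.le_succ) (hm j)
  exact ⟨⟨(p j).r, (p j).v, (p j).isMax, (p j).roots.ζ (M + 1), isPrimRoot_roots _ _, fun X g h t =>
    hg X g (fun i => by rw [stdTuple_eq_enum (Nat.one_lt_pow (Nat.succ_ne_zero M) hℓ)]; exact h _) t⟩⟩

end Groth.Agent.TorsTuple
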