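import Groth.Agent.TorsTupleLib.Uniform
import Groth.Agent.TorsTupleLib.Pieces
import Groth.Agent.MaxTorusRankLib.Rank
import Groth.Agent.MaxTorConjLib.MaxBC
import Groth.Agent.MultExtLib.Rigid
import Groth.Agent.S4120
import Groth.Agent.S4118
import Groth.Agent.BorelLib.BaseChange

/-!
Tuples cutting out the centralizer of a torus, and Cartan subgroups containing them.
-/

set_option autoImplicit false
set_option linter.style.haveILetI false
set_option linter.unusedSectionVars false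
set_option backward.isDefEq.respectTransparency false
set_option maxHeartbeats 2000000
set_option synthInstance.maxHeartbeats 400000

noncomputable section

universe u

open CategoryTheory CategoryTheory.Limits MonoidalCategory CartesianMonoidalCategory AlgebraicGeometry
open scoped MonObj

attribute [-instance] CategoryTheory.Hom.commGroup

namespace Groth.Agent.TorsTuple

open Groth.Agent.BorelLib

variable {S : Scheme.{u}} {G : Over S} [GrpObj G]

/-- The tuple has the centralizer of the torus. -/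
def Good {T : Over S} {r : ℕ} (i : T ⟶ G) (b : Fin r → (𝟙_ (Over S) ⟶ G)) : Prop :=
  ∀ (X : Over S) (g : X ⟶ G), (∀ k, Commute g (toUnit X ≫ b k)) → ∀ t : X ⟶ T, Commute g (t ≫ i)

/-- Points commute with the torus. -/
def Commutes {C T : Over S} (c : C ⟶ G) (i : T ⟶ G) : Prop :=
  ∀ (X : Over S) (z : X ⟶ C) (t : X ⟶ T), Commute (z ≫ c) (t ≫ i)

theorem commutes_of_centralizer {C T : Over S} [GrpObj C] [GrpObj T] {c : C ⟶ G} {i : T ⟶ G}
    (h : Red.IsCentralizerOf i c) : Commutes c i := fun X z t => by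
  have := (h.2.2 X (z ≫ c)).1 ⟨z, rfl⟩ X (𝟙 X) t
  rwa [Category.id_comp] at this

theorem commutes_bc {C T : Over S} {c : C ⟶ G} {i : T ⟶ G} (h : Commutes c i) {P : Scheme.{u}} (f : P ⟶ S) :
    Commutes (G := Red.bc f G) ((Over.pullback f).map c) ((Over.pullback f).map i) := fun X z t => by
  obtain ⟨z₀, rfl⟩ := ((Over.mapPullbackAdj f).homEquiv X C).surjective z
  obtain ⟨t₀, rfl⟩ := ((Over.mapPullbackAdj f).homEquiv X T).surjective t
  rw [← Adjunction.homEquiv_naturality_right, ← Adjunction.homEquiv_naturality_right]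
  exact (h _ z₀ t₀).map (PowEtCentralLib.adjEquiv f X (G := G))

theorem commutes_transport {G' C C' T T' : Over S} [GrpObj G'] (e : G ⟶ G') [IsMonHom e] {c : C ⟶ G} {i : T ⟶ G}
    {c' : C' ⟶ G'} {i' : T' ⟶ G'} (α : C' ⟶ C) (β : T' ⟶ T) (hc : α ≫ c ≫ e = c') (hi : β ≫ i ≫ e = i')
    (h : Commutes c i) : Commutes c' i' := fun X z t => by
  have := h X (z ≫ α) (t ≫ β)
  show (z ≫ c') * (t ≫ i') = (t ≫ i') * (z ≫ c')
  rw [← hc, ← hi, ← Category.assoc, ← Category.assoc, ← Category.assoc t, ← Category.assoc (t ≫ β),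
    ← MonObj.mul_comp, ← MonObj.mul_comp, this.eq]

/-- The base change of a tuple. -/
def bcTuple {P : Scheme.{u}} (f : P ⟶ S) {r : ℕ} (b : Fin r → (𝟙_ (Over S) ⟶ G)) (k : Fin r) :
    𝟙_ (Over P) ⟶ Red.bc f G :=
  PowEtCentralLib.adjEquiv f (𝟙_ _) (toUnit _ ≫ b k)

theorem toUnit_bcTuple {P : Scheme.{u}} (f : P ⟶ S) {r : ℕ} (b : Fin r → (𝟙_ (Over S) ⟶ G)) (k : Fin r) (X : Over P) :
    toUnit X ≫ bcTuple f b k = PowEtCentralLib.adjEquiv f X (toUnit ((Over.map f).obj X) ≫ b k) := by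
  refine ((Adjunction.homEquiv_naturality_left (Over.mapPullbackAdj f) (toUnit X) _).symm).trans (congrArg _ ?_)
  rw [← Category.assoc, toUnit_unique ((Over.map f).map (toUnit X) ≫ toUnit _) (toUnit _)]

theorem isTors_bcTuple {P : Scheme.{u}} (f : P ⟶ S) {n r : ℕ} {b : Fin r → (𝟙_ (Over S) ⟶ G)} (h : IsTors n b) :
    IsTors n (bcTuple f b) := by
  have h' := isTors_comp h (toUnit ((Over.map f).obj (𝟙_ (Over P))))
  exact ⟨fun i j => by unfold bcTuple; rw [← map_mul, ← map_mul, h'.1],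
    fun i => by unfold bcTuple; rw [← map_pow, h'.2, map_one]⟩

theorem good_bc {T : Over S} {r : ℕ} {i : T ⟶ G} {b : Fin r → (𝟙_ (Over S) ⟶ G)} (h : Good i b) {P : Scheme.{u}}
    (f : P ⟶ S) : Good (G := Red.bc f G) ((Over.pullback f).map i) (bcTuple f b) := fun X g hg t => by
  obtain ⟨g₀, rfl⟩ := (PowEtCentralLib.adjEquiv f X (G := G)).surjective g
  obtain ⟨t₀, rfl⟩ := ((Over.mapPullbackAdj f).homEquiv X T).surjective t
  rw [← Adjunction.homEquiv_naturality_right]
  refine (h _ g₀ (fun k => ?_) t₀).map (PowEtCentralLib.adjEquiv f X (G := G))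
  have := (hg k).eq
  rw [toUnit_bcTuple, ← map_mul, ← map_mul] at this
  exact (PowEtCentralLib.adjEquiv f X (G := G)).injective this

theorem good_transport {G' T T' : Over S} [GrpObj G'] (e : G ≅ G') [IsMonHom e.hom] {r : ℕ} {i : T ⟶ G}
    {i' : T' ⟶ G'} (β : T' ⟶ T) (hi : β ≫ i ≫ e.hom = i') {b : Fin r → (𝟙_ (Over S) ⟶ G)} (h : Good i b) :
    Good i' (fun k => b k ≫ e.hom) := fun X g hg t => by
  haveI : IsMonHom e.inv := inferInstance
  have h' := h X (g ≫ e.inv) (fun k => by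
    have := congrArg (· ≫ e.inv) (hg k).eq
    simp only [MonObj.mul_comp, Category.assoc, Iso.hom_inv_id, Category.comp_id] at this
    exact this) (t ≫ β)
  have := congrArg (· ≫ e.hom) h'.eq
  simp only [MonObj.mul_comp, Category.assoc, Iso.inv_hom_id, Category.comp_id, hi] at this
  exact this

/-- Geometric fibres of a Cartan subgroup at arbitrary geometric points. -/
theorem exists_cartan_at [Smooth G.hom] [QuasiCompact G.hom] {C : Over S} [GrpObj C] {c : C ⟶ G}
    (hc : SGA3x.IsCartan c) {K : Type u} [Field K] [IsAlgClosed K] (ξ : Spec (CommRingCat.of K) ⟶ S) :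
    ∃ (T' : Over (Spec (CommRingCat.of K))) (_ : GrpObj T') (i' : T' ⟶ Red.bc ξ G),
      Red.IsMaximalTorus i' ∧ Red.IsCentralizerOf (G := Red.bc ξ G) (Z := Red.bc ξ C) i' ((Over.pullback ξ).map c) := by
  let s := ξ (IsLocalRing.closedPoint K)
  obtain ⟨l, hl⟩ := _root_.MaxTorusRank.exists_lift_geomPt ξ s rfl
  obtain ⟨hcm, hcmo, T₀, _, i₀, hi₀, hcent⟩ := hc.2.2.2 s
  haveI := hc.1; haveI := hc.2.1
  let t := Red.geomPt s
  haveI : Smooth (Red.bc t G).hom := MorphismProperty.pullback_snd (P := @Smooth) _ _ inferInstance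
  haveI : QuasiCompact (Red.bc t G).hom := MorphismProperty.pullback_snd (P := @QuasiCompact) _ _ inferInstance
  have hmax := MaxTorConj.isMaximalTorus_bc hi₀ l
  have hcl := BorelLib.isCentralizerOf_bc l hcent
  let eG : Red.bc l (Red.bc t G) ≅ Red.bc ξ G := ActBC.bcCompIso l t G hl
  let eC : Red.bc l (Red.bc t C) ≅ Red.bc ξ C := ActBC.bcCompIso l t C hl
  haveI : IsMonHom eG.hom := ActBC.bcCompIso_isMonHom _ _ _
  haveI : IsMonHom eG.inv := inferInstance
  let i' := (Over.pullback l).map i₀ ≫ eG.hom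
  have hnat : (Over.pullback ξ).map c = eC.inv ≫ (Over.pullback l).map ((Over.pullback t).map c) ≫ eG.hom := by
    rw [ActBC.bcCompIso_hom_naturality, Iso.inv_hom_id_assoc]
  refine ⟨Red.bc l T₀, inferInstance, i', MaxTorConj.isMaximalTorus_iso eG hmax,
    DiagRep.isMonHom_bc_map ξ c, mono_bc ξ c, fun X g => ⟨?_, fun hg => ?_⟩⟩
  · rintro ⟨z, rfl⟩ X' x h
    have e := congrArg (· ≫ eG.hom) ((hcl.2.2 X ((z ≫ eC.inv) ≫ (Over.pullback l).map ((Over.pullback t).map c))).1
      ⟨z ≫ eC.inv, rfl⟩ X' x h)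
    simp only [MonObj.mul_comp, Category.assoc] at e
    rw [hnat]
    exact e
  · obtain ⟨z, hz⟩ := (hcl.2.2 X (g ≫ eG.inv)).2 fun X' x h => by
      have e := congrArg (· ≫ eG.inv) (hg X' x h)
      simp only [i', MonObj.mul_comp, Category.assoc, Iso.hom_inv_id, Category.comp_id] at e
      exact e
    exact ⟨z ≫ eC.hom, by
      rw [hnat, Category.assoc, Iso.hom_inv_id_assoc, ← Category.assoc z, hz, Category.assoc, Iso.inv_hom_id,
        Category.comp_id]⟩

/-- The points of a torus commute. -/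
theorem commute_torus {T : Over S} [GrpObj T] (hT : Red.IsTorus T) {X : Over S} (a b : X ⟶ T) : Commute a b :=
  MultExt.commute_of_isMultTypeFT (RedRank.isMultTypeFT_of_isTorus hT) a b

/-- A Cartan subgroup containing a good tuple of a maximal torus commutes with the torus. -/
theorem commutes_of_good [LocallyOfFinitePresentation G.hom] [QuasiCompact G.hom] [QuasiSeparated G.hom]
    {C T T' : Over S} [GrpObj C] [GrpObj T] [GrpObj T'] {c : C ⟶ G} {i : T ⟶ G} {i' : T' ⟶ G}
    (hi : Red.IsMaximalTorus i) (hi' : Red.IsMaximalTorus i') (hc : Red.IsCentralizerOf i' c) {r : ℕ}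
    {b : Fin r → (𝟙_ (Over S) ⟶ G)} (hb : Good i b) (hbC : ∀ k, ∃ z, z ≫ c = b k) : Commutes c i := by
  haveI := hi.1; haveI := hi.2.1; haveI := hi'.1; haveI := hi'.2.1
  have hcc := commutes_of_centralizer hc
  have hTT : ∀ (X : Over S) (t : X ⟶ T) (t' : X ⟶ T'), (t ≫ i) * (t' ≫ i') = (t' ≫ i') * (t ≫ i) := fun X t t' =>
    ((hb X (t' ≫ i') (fun k => by
      obtain ⟨z, hz⟩ := hbC k
      rw [← hz, ← Category.assoc]
      exact (hcc X (toUnit X ≫ z) t').symm) t).eq).symm
  obtain ⟨f, hf⟩ := S4120.result S G T' T i' i hi' hi.2.2.1 fun X t' t => (hTT X t t').symm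
  intro X z t
  rw [← hf, ← Category.assoc]
  exact hcc X z (t ≫ f)

/-- Centralizers of tori which commute with each other coincide. -/
theorem exists_factor_centralizer [LocallyOfFinitePresentation G.hom] [QuasiCompact G.hom] [QuasiSeparated G.hom]
    {C T T' : Over S} [GrpObj C] [GrpObj T] [GrpObj T'] {c : C ⟶ G} {i : T ⟶ G} {i' : T' ⟶ G}
    (hi : Red.IsMaximalTorus i) (hi' : Red.IsMaximalTorus i') (hc : Red.IsCentralizerOf i' c) (h : Commutes c i)
    {X : Over S} (g : X ⟶ G) (hg : ∀ (X' : Over S) (x : X' ⟶ X) (t : X' ⟶ T), (x ≫ g) * (t ≫ i) = (t ≫ i) * (x ≫ g)) :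
    ∃ z, z ≫ c = g := by
  haveI := hi.1; haveI := hi.2.1; haveI := hi'.1; haveI := hi'.2.1
  obtain ⟨w, hw⟩ := (hc.2.2 T' i').2 fun X' x t => by
    rw [← MonObj.mul_comp, ← MonObj.mul_comp, (commute_torus hi'.2.2.1 x t).eq]
  obtain ⟨f, hf⟩ := S4120.result S G T T' i i' hi hi'.2.2.1 fun X t t' => by
    rw [← hw, ← Category.assoc]
    exact (h X (t' ≫ w) t).eq.symm
  exact (hc.2.2 X g).2 fun X' x t => by
    rw [← hf, ← Category.assoc]
    exact hg X' x (t ≫ f)

end Groth.Agent.TorsTuple
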