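import Mathlib.GroupTheory.Subgroup.Centralizer
import Mathlib.Algebra.BigOperators.Group.Finset.Basic
import Mathlib.Tactic.Group
import Mathlib.Data.Fin.Tuple.Basic

/-!
Commuting torsion tuples along surjections with uniquely divisible abelian kernel.
-/

set_option autoImplicit false

namespace Groth.Agent.TorsTuple

variable {E E₀ : Type*} [Group E] [Group E₀]

/-- A tuple of commuting elements killed by `n`. -/
def IsTors (n : ℕ) {r : ℕ} (y : Fin r → E) : Prop :=
  (∀ i j, y i * y j = y j * y i) ∧ ∀ i, y i ^ n = 1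

/-- A surjection with uniquely `n`-divisible abelian kernel. -/
structure IsDivExt (n : ℕ) (π : E →* E₀) : Prop where
  surj : Function.Surjective π
  comm : ∀ x y, π x = 1 → π y = 1 → x * y = y * x
  root : ∀ x, π x = 1 → ∃ z, π z = 1 ∧ z ^ n = x
  torsion_free : ∀ x, π x = 1 → x ^ n = 1 → x = 1

variable {n : ℕ} {π : E →* E₀}

theorem IsDivExt.pow_injective (h : IsDivExt n π) {z w : E} (hz : π z = 1) (hw : π w = 1) (e : z ^ n = w ^ n) :
    z = w := by
  refine mul_inv_eq_one.1 (h.torsion_free _ (by simp [hz, hw]) ?_)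
  have hc : Commute z w⁻¹ := h.comm _ _ hz (by simp [hw])
  rw [hc.mul_pow, inv_pow, e, mul_inv_cancel]

theorem IsDivExt.exists_lift_one (h : IsDivExt n π) {y₀ : E₀} (hy : y₀ ^ n = 1) : ∃ y, π y = y₀ ∧ y ^ n = 1 := by
  obtain ⟨c, rfl⟩ := h.surj y₀
  obtain ⟨z, hz, hzn⟩ := h.root ((c ^ n)⁻¹) (by simp [hy])
  have hcz : Commute c z := by
    have e : c * z * c⁻¹ = z := h.pow_injective (by simp [hz]) hz (by
      rw [conj_pow, hzn]
      exact mul_inv_eq_iff_eq_mul.2 ((Commute.refl c).pow_right n).inv_right.eq)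
    exact mul_inv_eq_iff_eq_mul.1 e
  exact ⟨c * z, by simp [hz], by rw [hcz.mul_pow, hzn, mul_inv_cancel]⟩

theorem IsDivExt.exists_conj_one (h : IsDivExt n π) {y y' : E} (hy : y ^ n = 1) (hy' : y' ^ n = 1)
    (e : π y = π y') : ∃ m, π m = 1 ∧ m * y * m⁻¹ = y' := by
  let d : E := y' * y⁻¹
  have hd : π d = 1 := by simp [d, e]
  let s : ℕ → E := fun k => y ^ k * d * (y ^ k)⁻¹
  have hs : ∀ k, π (s k) = 1 := fun k => by simp [s, hd]
  let P : ℕ → E := fun k => Nat.rec 1 (fun i q => q * s i) k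
  let Q : ℕ → E := fun k => Nat.rec 1 (fun i q => q * s i ^ i) k
  have hP : ∀ k, π (P k) = 1 := fun k => by
    induction k with
    | zero => simp [P]
    | succ k ih => show π (P k * s k) = 1; simp [ih, hs]
  have hQ : ∀ k, π (Q k) = 1 := fun k => by
    induction k with
    | zero => simp [Q]
    | succ k ih => show π (Q k * s k ^ k) = 1; simp [ih, hs]
  have hPe : ∀ k, P k = y' ^ k * (y ^ k)⁻¹ := fun k => by
    induction k with
    | zero => simp [P]
    | succ k ih =>
      show P k * s k = _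
      rw [ih, pow_succ, pow_succ]
      simp only [s, d, mul_inv_rev, mul_assoc, inv_mul_cancel_left]
  have hPn : P n = 1 := by rw [hPe, hy, hy', inv_one, mul_one]
  have hstep : ∀ k, y * Q k * y⁻¹ * y * P k * y⁻¹ = Q k * (s k) ^ k := fun k => by
    induction k with
    | zero => simp [P, Q]
    | succ k ih =>
      have hs' : y * s k * y⁻¹ = s (k + 1) := by simp only [s, pow_succ', mul_inv_rev, mul_assoc]
      have hm : ∀ a b c : E, π a = 1 → π b = 1 → π c = 1 → a * (b * c) = b * (a * c) := fun a b c ha hb _ => by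
        rw [← mul_assoc, h.comm a b ha hb, mul_assoc]
      calc y * (Q k * s k ^ k) * y⁻¹ * y * (P k * s k) * y⁻¹
          = y * (Q k * (s k ^ k * P k) * s k) * y⁻¹ := by simp only [mul_assoc, inv_mul_cancel_left]
        _ = y * (Q k * (P k * s k ^ k) * s k) * y⁻¹ := by rw [h.comm _ (P k) (by simp [hs]) (hP k)]
        _ = (y * Q k * y⁻¹ * y * P k * y⁻¹) * (y * s k * y⁻¹) ^ (k + 1) := by
          rw [show (y * s k * y⁻¹) ^ (k + 1) = y * (s k ^ k * s k) * y⁻¹ from by rw [← pow_succ, ← conj_pow]]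
          simp only [mul_assoc, inv_mul_cancel_left]
        _ = Q k * s k ^ k * s (k + 1) ^ (k + 1) := by rw [ih, hs']
  have hsn : s n = d := by simp [s, hy]
  have key : y * Q n * y⁻¹ = Q n * d ^ n := by
    have := hstep n
    rw [hPn, hsn, mul_one] at this
    simpa [mul_assoc] using this
  obtain ⟨w, hw, hwn⟩ := h.root (Q n) (hQ n)
  have e2 : y * w * y⁻¹ = w * d := by
    refine h.pow_injective (by simp [hw]) (by simp [hw, hd]) ?_
    have hc : Commute w d := h.comm _ _ hw hd
    rw [conj_pow, hwn, hc.mul_pow, hwn, key]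
  refine ⟨w⁻¹ * 1, by simp [hw], ?_⟩
  have : w⁻¹ * y * w = d * y := by
    calc w⁻¹ * y * w = w⁻¹ * (y * w * y⁻¹) * y := by group
      _ = d * y := by rw [e2, inv_mul_cancel_left]
  rw [mul_one, inv_inv, this]
  simp [d]

/-- The centraliser of a lifted torsion element is again such an extension. -/
theorem IsDivExt.centralizer (h : IsDivExt n π) {y : E} (hy : y ^ n = 1) :
    IsDivExt n ((π.comp (Subgroup.centralizer {y}).subtype).codRestrict (Subgroup.centralizer {π y}) fun x => by
      rw [Subgroup.mem_centralizer_singleton_iff]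
      show π x.1 * π y = π y * π x.1
      rw [← map_mul, ← map_mul, Subgroup.mem_centralizer_singleton_iff.1 x.2]) := by
  refine ⟨fun x₀ => ?_, fun a b ha hb => Subtype.ext (h.comm _ _ (congrArg Subtype.val ha) (congrArg Subtype.val hb)),
    fun a ha => ?_, fun a ha ha' => Subtype.ext (h.torsion_free _ (congrArg Subtype.val ha) (congrArg Subtype.val ha'))⟩
  · obtain ⟨x, hx⟩ := h.surj x₀.1
    have hc := Subgroup.mem_centralizer_singleton_iff.1 x₀.2
    obtain ⟨m, hm, hme⟩ := h.exists_conj_one (y := x * y * x⁻¹) (y' := y) (by rw [conj_pow, hy]; simp) hy (by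
      simp only [map_mul, map_inv, hx, hc, mul_inv_cancel_right])
    refine ⟨⟨m * x, Subgroup.mem_centralizer_singleton_iff.2 ?_⟩, Subtype.ext ?_⟩
    · calc m * x * y = (m * (x * y * x⁻¹) * m⁻¹) * (m * x) := by group
        _ = y * (m * x) := by rw [hme]
    · show π (m * x) = x₀.1
      rw [map_mul, hm, one_mul, hx]
  · obtain ⟨z, hz, hzn⟩ := h.root a.1 (congrArg Subtype.val ha)
    have hzy : y * z * y⁻¹ = z := h.pow_injective (by simp [hz]) hz (by
      rw [conj_pow, hzn, ← Subgroup.mem_centralizer_singleton_iff.1 a.2, mul_inv_cancel_right])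
    exact ⟨⟨z, Subgroup.mem_centralizer_singleton_iff.2 (mul_inv_eq_iff_eq_mul.1 hzy).symm⟩, Subtype.ext hz,
      Subtype.ext hzn⟩

/-- Commuting torsion tuples lift. -/
theorem IsDivExt.exists_lift : ∀ {r : ℕ} {E E₀ : Type*} [Group E] [Group E₀] {π : E →* E₀}, IsDivExt n π →
    ∀ y₀ : Fin r → E₀, IsTors n y₀ → ∃ y : Fin r → E, IsTors n y ∧ ∀ i, π (y i) = y₀ i
  | 0, _, _, _, _, _, _, _, _ => ⟨Fin.elim0, ⟨fun i => i.elim0, fun i => i.elim0⟩, fun i => i.elim0⟩
  | r + 1, E, E₀, _, _, π, h, y₀, hy₀ => by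
    obtain ⟨a, ha, han⟩ := h.exists_lift_one (hy₀.2 0)
    have hm : ∀ i : Fin r, y₀ i.succ ∈ Subgroup.centralizer {π a} := fun i => by
      rw [ha, Subgroup.mem_centralizer_singleton_iff]; exact hy₀.1 _ _
    obtain ⟨b, hb, hb'⟩ := (h.centralizer han).exists_lift (fun i => ⟨_, hm i⟩)
      ⟨fun i j => Subtype.ext (hy₀.1 _ _), fun i => Subtype.ext (by simpa using hy₀.2 i.succ)⟩
    have hab : ∀ i, (b i).1 * a = a * (b i).1 := fun i => Subgroup.mem_centralizer_singleton_iff.1 (b i).2
    refine ⟨Fin.cons a fun i => (b i).1, ⟨fun i j => ?_, fun i => ?_⟩, fun i => ?_⟩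
    · induction i using Fin.cases with
      | zero =>
        induction j using Fin.cases with
        | zero => rfl
        | succ j => simp only [Fin.cons_zero, Fin.cons_succ]; exact (hab j).symm
      | succ i =>
        induction j using Fin.cases with
        | zero => simp only [Fin.cons_zero, Fin.cons_succ]; exact hab i
        | succ j => simp only [Fin.cons_succ]; exact congrArg Subtype.val (hb.1 i j)
    · induction i using Fin.cases with
      | zero => simpa using han
      | succ i => simpa using congrArg Subtype.val (hb.2 i)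
    · induction i using Fin.cases with
      | zero => simpa using ha
      | succ i => simpa using congrArg Subtype.val (hb' i)

/-- Two lifts of a commuting torsion tuple are conjugate by the kernel. -/
theorem IsDivExt.exists_conj : ∀ {r : ℕ} {E E₀ : Type*} [Group E] [Group E₀] {π : E →* E₀}, IsDivExt n π →
    ∀ y y' : Fin r → E, IsTors n y → IsTors n y' → (∀ i, π (y i) = π (y' i)) →
      ∃ m, π m = 1 ∧ ∀ i, m * y i * m⁻¹ = y' i
  | 0, _, _, _, _, _, _, _, _, _, _, _ => ⟨1, map_one _, fun i => i.elim0⟩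
  | r + 1, E, E₀, _, _, π, h, y, y', hy, hy', he => by
    obtain ⟨m₀, hm₀, hme⟩ := h.exists_conj_one (hy.2 0) (hy'.2 0) (he 0)
    have h1 : ∀ i : Fin r, m₀ * y i.succ * m₀⁻¹ ∈ Subgroup.centralizer {y' 0} := fun i => by
      rw [Subgroup.mem_centralizer_singleton_iff, ← hme]
      calc m₀ * y i.succ * m₀⁻¹ * (m₀ * y 0 * m₀⁻¹) = m₀ * (y i.succ * y 0) * m₀⁻¹ := by group
        _ = _ := by rw [hy.1]; group
    have h2 : ∀ i : Fin r, y' i.succ ∈ Subgroup.centralizer {y' 0} := fun i =>
      Subgroup.mem_centralizer_singleton_iff.2 (hy'.1 _ _)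
    obtain ⟨m, hm, hm'⟩ := (h.centralizer (hy'.2 0)).exists_conj (fun i => ⟨_, h1 i⟩) (fun i => ⟨_, h2 i⟩)
      ⟨fun i j => Subtype.ext (by
          show (m₀ * y i.succ * m₀⁻¹) * (m₀ * y j.succ * m₀⁻¹) = (m₀ * y j.succ * m₀⁻¹) * (m₀ * y i.succ * m₀⁻¹)
          calc m₀ * y i.succ * m₀⁻¹ * (m₀ * y j.succ * m₀⁻¹) = m₀ * (y i.succ * y j.succ) * m₀⁻¹ := by group
            _ = _ := by rw [hy.1]; group),
        fun i => Subtype.ext (by simp [conj_pow, hy.2])⟩
      ⟨fun i j => Subtype.ext (hy'.1 _ _), fun i => Subtype.ext (by simpa using hy'.2 i.succ)⟩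
      (fun i => Subtype.ext (by simp [hm₀, he]))
    have hm0 : π m.1 = 1 := congrArg Subtype.val hm
    refine ⟨m.1 * m₀, by simp [hm0, hm₀], fun i => ?_⟩
    induction i using Fin.cases with
    | zero =>
      calc m.1 * m₀ * y 0 * (m.1 * m₀)⁻¹ = m.1 * (m₀ * y 0 * m₀⁻¹) * m.1⁻¹ := by group
        _ = y' 0 := by rw [hme, Subgroup.mem_centralizer_singleton_iff.1 m.2, mul_inv_cancel_right]
    | succ i =>
      calc m.1 * m₀ * y i.succ * (m.1 * m₀)⁻¹ = m.1 * (m₀ * y i.succ * m₀⁻¹) * m.1⁻¹ := by group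
        _ = y' i.succ := congrArg Subtype.val (hm' i)

end Groth.Agent.TorsTuple
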