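import Groth.Agent.SqLiftLib.Comb
import Groth.Agent.ConjAvgLib.Push
import Groth.Agent.ConjAvgLib.LiftNilp
import Groth.Agent.TorsTupleLib.Group

/-!
The kernel of reduction modulo a square-zero ideal is uniquely divisible by the invertible integers.
-/

set_option autoImplicit false
set_option backward.isDefEq.respectTransparency false
set_option maxHeartbeats 1000000

noncomputable section

universe u

open CategoryTheory CategoryTheory.Limits MonoidalCategory CartesianMonoidalCategory AlgebraicGeometry CoactBr
open scoped MonObj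

namespace Groth.Agent.TorsTuple

open Groth.Agent.ConjAvg (LChart)
open Groth.Agent.SqLift (Near tuples proj q comb comb_apply near_comb proj_nil proj_surjective)

attribute [local instance] CoactBr.braidedAlgSpecOf

variable {C : Type u} [CommRing C] {G : Over (Spec (CommRingCat.of C))} [GrpObj G] {I : Ideal C}

theorem map_self : I.map (algebraMap C C) = I := by rw [Algebra.algebraMap_self, Ideal.map_id]

variable (V : LChart G C)

/-- The point of a chart. -/
abbrev chartPt {A : Type u} [CommRing A] [Algebra C A] (L : V.ring →ₐ[C] A) : sp C A ⟶ G := pt L ≫ V.hom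

theorem near_iff {L : V.ring →ₐ[C] C} : Near I L V.one ↔ ∀ v, L v - V.one v ∈ I := by
  simp only [Near, map_self]

/-- Points over tuples are determined by their entries. -/
theorem tuples_ext (hI : I ^ 2 = ⊥) {w w' : sp C (tuples I C Bool) ⟶ G}
    (h : pt (proj (J := I) (A := C) (none : Option Bool)) ≫ w = 1)
    (h' : pt (proj (J := I) (A := C) (none : Option Bool)) ≫ w' = 1)
    (e : ∀ j : Bool, pt (proj (J := I) (A := C) (some j)) ≫ w = pt (proj (J := I) (A := C) (some j)) ≫ w')
    (V : LChart G C) : w = w' := by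
  have hnil : IsNilpotent (RingHom.ker (proj (J := I) (A := C) (none : Option Bool)).toRingHom) := proj_nil hI
  obtain ⟨W, hW, hW₀⟩ := V.exists_factor (A := tuples I C Bool) (A' := C)
    (proj (J := I) (A := C) (none : Option Bool)) (AlgHom.id C C) proj_surjective hnil w h
  obtain ⟨W', hW', hW₀'⟩ := V.exists_factor (A := tuples I C Bool) (A' := C)
    (proj (J := I) (A := C) (none : Option Bool)) (AlgHom.id C C) proj_surjective hnil w' h'
  suffices hWW : W = W' by rw [← hW, ← hW', hWW]
  refine AlgHom.ext fun v => Subtype.ext (funext fun o => ?_)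
  cases o with
  | none => exact (DFunLike.congr_fun hW₀ v).trans (DFunLike.congr_fun hW₀' v).symm
  | some j =>
    have := V.hom_injective (L := (proj (J := I) (A := C) (some j)).comp W)
      (L' := (proj (J := I) (A := C) (some j)).comp W') (by
        rw [pt_comp, Category.assoc, hW, pt_comp, Category.assoc, hW', e j])
    exact DFunLike.congr_fun this v

/-- Keeping one entry of a tuple. -/
def slot (I : Ideal C) (b : Bool) : tuples I C Bool →ₐ[C] tuples I C Bool :=
  (AlgHom.pi fun o : Option Bool => proj (J := I) (A := C) (if o = some b then o else none)).codRestrict _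
    fun v j => by
      by_cases hj : j = b
      · simpa [proj, hj] using v.2 b
      · simp [proj, hj]

theorem proj_slot (b : Bool) (o : Option Bool) :
    (proj o).comp (slot I b) = proj (J := I) (A := C) (if o = some b then o else none) := AlgHom.ext fun _ => rfl

theorem q_slot (hI : I ^ 2 = ⊥) (b : Bool) :
    (q (J := I) (A := C) hI fun _ : Bool => (1 : C)).comp (slot I b) = proj (J := I) (A := C) (some b) := by
  refine AlgHom.ext fun v => ?_
  show (slot I b v).1 none + ∑ j, (1 : C) * ((slot I b v).1 (some j) - (slot I b v).1 none) = v.1 (some b)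
  cases b <;> (simp [slot, proj]; ring)

/-- Multiplication near the unit is addition. -/
theorem mul_comb (hI : I ^ 2 = ⊥) (Y : Bool → V.ring →ₐ[C] C) (h : ∀ b, Near I (Y b) V.one) :
    chartPt V (Y false) * chartPt V (Y true) = chartPt V (comb hI V.one Y h fun _ => 1) ∧
      chartPt V (Y true) * chartPt V (Y false) = chartPt V (comb hI V.one Y h fun _ => 1) := by
  let Z : V.ring →ₐ[C] tuples I C Bool :=
    (AlgHom.pi fun o : Option Bool => o.elim V.one Y).codRestrict _ fun c j => h j c
  let z : sp C (tuples I C Bool) ⟶ G := pt Z ≫ V.hom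
  let zb : Bool → (sp C (tuples I C Bool) ⟶ G) := fun b => pt (slot I b) ≫ z
  have hz : ∀ o : Option Bool, pt (proj (J := I) (A := C) o) ≫ z = chartPt V (o.elim V.one Y) := fun o => by
    show pt _ ≫ pt Z ≫ V.hom = _
    rw [← Category.assoc, ← pt_comp]
    rfl
  have hzb : ∀ (b : Bool) (o : Option Bool), pt (proj (J := I) (A := C) o) ≫ zb b =
      chartPt V ((if o = some b then o else none).elim V.one Y) := fun b o => by
    show pt _ ≫ pt (slot I b) ≫ z = _
    rw [← Category.assoc, ← pt_comp, proj_slot, hz]
  have h1 : ∀ b, pt (proj (J := I) (A := C) (none : Option Bool)) ≫ zb b = 1 := fun b => by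
    rw [hzb]; exact V.pt_one
  have hq : ∀ b, pt (q (J := I) (A := C) hI fun _ : Bool => (1 : C)) ≫ zb b = chartPt V (Y b) := fun b => by
    show pt _ ≫ pt (slot I b) ≫ z = _
    rw [← Category.assoc, ← pt_comp, q_slot, hz]
    rfl
  have hcomb : pt (q (J := I) (A := C) hI fun _ : Bool => (1 : C)) ≫ z =
      chartPt V (comb hI V.one Y h fun _ => 1) := by
    show pt _ ≫ pt Z ≫ V.hom = _
    rw [← Category.assoc, ← pt_comp]
    rfl
  have hz0 : pt (proj (J := I) (A := C) (none : Option Bool)) ≫ z = 1 := (hz none).trans V.pt_one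
  have key : ∀ b, zb b * zb (!b) = z := fun b => by
    refine tuples_ext hI (by rw [MonObj.comp_mul, h1, h1, one_mul]) hz0 (fun j => ?_) V
    rw [MonObj.comp_mul, hzb, hzb, hz]
    cases b <;> cases j <;> simp [chartPt, V.pt_one]
  constructor
  · rw [← hcomb, ← key false, MonObj.comp_mul, hq, hq]
    rfl
  · rw [← hcomb, ← key true, MonObj.comp_mul, hq, hq]
    rfl

/-- The reduction of the points modulo an ideal. -/
def red (G : Over (Spec (CommRingCat.of C))) [GrpObj G] (I : Ideal C) : (sp C C ⟶ G) →* (sp C (C ⧸ I) ⟶ G) where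
  toFun x := pt (Ideal.Quotient.mkₐ C I) ≫ x
  map_one' := MonObj.comp_one _
  map_mul' := MonObj.comp_mul _

theorem isDivExt_red [Smooth G.hom] (V : LChart G C) (hI : I ^ 2 = ⊥) {n : ℕ} (hn : IsUnit (n : C)) :
    IsDivExt n (red G I) := by
  have hnil : IsNilpotent I := ⟨2, hI⟩
  let T := V.one
  have hfac : ∀ x, red G I x = 1 → ∃ L, Near I L T ∧ chartPt V L = x := fun x hx => by
    obtain ⟨L, hL, hL'⟩ := V.exists_factor (Ideal.Quotient.mkₐ C I) (Ideal.Quotient.mkₐ C I)
      Ideal.Quotient.mk_surjective
      ((Ideal.Quotient.mkₐ_ker C I).symm ▸ hnil) x hx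
    exact ⟨L, (near_iff V).2 fun v => Ideal.Quotient.eq.1 (DFunLike.congr_fun hL' v), hL⟩
  have hone : ∀ L, Near I L T → red G I (chartPt V L) = 1 := fun L hL => by
    show pt _ ≫ pt L ≫ V.hom = 1
    rw [← Category.assoc, ← pt_comp, show (Ideal.Quotient.mkₐ C I).comp L = (Ideal.Quotient.mkₐ C I).comp T from
      AlgHom.ext fun v => Ideal.Quotient.eq.2 ((near_iff V).1 hL v), pt_comp, Category.assoc, V.pt_one, MonObj.comp_one]
  let sc : (L : V.ring →ₐ[C] C) → Near I L T → C → (V.ring →ₐ[C] C) := fun L hL c =>
    comb hI T (fun _ : PUnit.{1} => L) (fun _ => hL) fun _ => c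
  have hsc : ∀ L hL c v, sc L hL c v = T v + c * (L v - T v) := fun L hL c v => by
    rw [comb_apply, Fintype.sum_unique]
  have hscn : ∀ L hL c, Near I (sc L hL c) T := fun L hL c => near_comb hI _ _ _ _
  have hpow : ∀ L (hL : Near I L T) (k : ℕ), chartPt V L ^ k = chartPt V (sc L hL k) := fun L hL k => by
    induction k with
    | zero =>
      rw [pow_zero, show sc L hL ((0 : ℕ) : C) = T from AlgHom.ext fun v => by rw [hsc]; simp]
      exact V.pt_one.symm
    | succ k ih =>
      rw [pow_succ, ih]
      refine ((mul_comb V hI (fun b => cond b L (sc L hL k)) (fun b => by cases b; exacts [hscn L hL _, hL])).1).trans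
        (congrArg (chartPt V) (AlgHom.ext fun v => ?_))
      rw [comb_apply, hsc, Fintype.sum_bool]
      simp only [cond_true, cond_false, hsc, Nat.cast_succ]
      ring
  obtain ⟨w, hw⟩ := hn
  refine ⟨fun x₀ => ConjAvg.exists_lift_algebra (X := G) hnil x₀, fun x y hx hy => ?_, fun x hx => ?_, fun x hx hxn => ?_⟩
  · obtain ⟨L, hL, rfl⟩ := hfac x hx
    obtain ⟨M, hM, rfl⟩ := hfac y hy
    have h := mul_comb V hI (fun b => cond b M L) (fun b => by cases b; exacts [hL, hM])
    exact h.1.trans h.2.symm
  · obtain ⟨L, hL, rfl⟩ := hfac x hx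
    refine ⟨chartPt V (sc L hL ↑w⁻¹), hone _ (hscn _ _ _), ?_⟩
    rw [hpow _ (hscn _ _ _)]
    refine congrArg (chartPt V) (AlgHom.ext fun v => ?_)
    rw [hsc, hsc, ← hw, add_sub_cancel_left, ← mul_assoc, Units.mul_inv, one_mul, add_sub_cancel]
  · obtain ⟨L, hL, rfl⟩ := hfac x hx
    rw [hpow _ hL] at hxn
    have e : sc L hL n = T := V.hom_injective (hxn.trans V.pt_one.symm)
    have : L = T := AlgHom.ext fun v => by
      have h := DFunLike.congr_fun e v
      rw [hsc, ← hw, add_eq_left] at h
      exact sub_eq_zero.1 ((Units.mul_right_eq_zero w).1 h)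
    rw [this]
    exact V.pt_one

end Groth.Agent.TorsTuple
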