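import Groth.Agent.TorsTupleLib.CartanDesc
import Groth.Agent.TorsTupleLib.Pieces
import Groth.Agent.TorsTupleLib.IsoCrit

/-!
Cartan subgroups are locally centralizers of split maximal tori.
-/

set_option autoImplicit false
set_option linter.style.haveILetI false
set_option linter.unusedSectionVars false
set_option backward.isDefEq.respectTransparency false
set_option maxHeartbeats 2000000
set_option synthInstance.maxHeartbeats 400000

noncomputable section

universe u

open CategoryTheory CategoryTheory.Limits MonoidalCategory CartesianMonoidalCategory AlgebraicGeometry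
open scoped MonObj

attribute [-instance] CategoryTheory.Hom.commGroup

namespace Groth.Agent.TorsTuple

open Groth.Agent.BorelLib

theorem isTors_map {E E' : Type*} [Group E] [Group E'] {n r : ℕ} (f : E →* E') {y : Fin r → E} (h : IsTors n y) :
    IsTors n fun i => f (y i) :=
  ⟨fun i j => by rw [← map_mul, ← map_mul, h.1], fun i => by rw [← map_pow, h.2, map_one]⟩

theorem isTors_of_map {E E' : Type*} [Group E] [Group E'] {n r : ℕ} (f : E →* E') (hf : Function.Injective f)
    {y : Fin r → E} (h : IsTors n fun i => f (y i)) : IsTors n y :=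
  ⟨fun i j => hf (by rw [map_mul, map_mul, h.1]), fun i => hf (by rw [map_pow, h.2, map_one])⟩

theorem isTors_conj {E : Type*} [Group E] {n r : ℕ} (g : E) {y : Fin r → E} (h : IsTors n y) :
    IsTors n fun i => g * y i * g⁻¹ :=
  isTors_map (MulAut.conj g).toMonoidHom h

variable {S : Scheme.{u}} {G : Over S} [GrpObj G]

/-- Composition with a homomorphism, on points. -/
def compHom {C : Over S} [GrpObj C] (c : C ⟶ G) [IsMonHom c] (X : Over S) : (X ⟶ C) →* (X ⟶ G) :=
  MonoidHom.mk' (· ≫ c) fun a b => MonObj.mul_comp a b c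

/-- **A good tuple of a split torus is given by a uniform level.** -/
theorem exists_good_level [IsAffine S] [Smooth G.hom] [IsSeparated G.hom] [QuasiCompact G.hom] {ℓ r : ℕ}
    (R : RootSystem S ℓ) (v : Red.DS S (Fin r → ℤ) ⟶ G) (hv : Red.IsMaximalTorus v) :
    ∃ m, Good v (stdTuple v (R.ζ m)) := by
  haveI := hv.1; haveI := hv.2.1
  obtain ⟨C₀, _, c₀, hc₀, hcl, hcart, -⟩ := S4118.result S G _ v hv
  haveI := hcl; haveI := hcart.2.2.1; haveI := hc₀.1
  obtain ⟨m, hm⟩ := exists_uniform v R hc₀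
  refine ⟨m, fun X g hg t => ?_⟩
  obtain ⟨h, rfl⟩ := hm X g hg
  exact commutes_of_centralizer hc₀ X h t

/-- **A good tuple in a Cartan subgroup forces commutation with the torus.** -/
theorem commutes_of_good_tuple [Smooth G.hom] [IsSeparated G.hom] [QuasiCompact G.hom] {C : Over S} [GrpObj C]
    {c : C ⟶ G} [IsMonHom c] [Mono c] [Smooth C.hom] (hc : CartanPts c) {n r : ℕ} (hn : IsUnit (n : Γ(S, ⊤)))
    {T : Over S} [GrpObj T] {i : T ⟶ G} (hi : Red.IsMaximalTorus i) (β : Fin r → (𝟙_ (Over S) ⟶ T))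
    (hgood : Good i fun k => β k ≫ i) (w : Fin r → (𝟙_ (Over S) ⟶ C)) (hw : ∀ k, w k ≫ c = β k ≫ i)
    (htors : IsTors n fun k => β k ≫ i) : Commutes c i := by
  haveI : Mono c.left := inferInstanceAs (Mono ((Over.forget S).map c))
  haveI : IsSeparated C.hom := by rw [← Over.w c]; infer_instance
  have htc : IsTors n w := isTors_of_map (compHom c _) (fun a b h => (cancel_mono c).1 h) (by
    have e : (fun k => compHom c _ (w k)) = fun k => β k ≫ i := funext hw
    rw [e]; exact htors)
  obtain ⟨Z, z, hzc, hzs, hz⟩ := exists_tupleCentralizer hn htc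
  haveI := hzc; haveI := hzs
  haveI : Surjective z.left := ⟨fun y => by
    let K := AlgebraicClosure (C.left.residueField y)
    let pt : Spec (CommRingCat.of K) ⟶ C.left :=
      Spec.map (CommRingCat.ofHom (algebraMap (C.left.residueField y) K)) ≫ C.left.fromSpecResidueField y
    let ξ : Spec (CommRingCat.of K) ⟶ S := pt ≫ C.hom
    let y' : (Over.map ξ).obj (𝟙_ _) ⟶ C := Over.homMk pt (Category.id_comp _).symm
    obtain ⟨T', _, i', hi', hcent⟩ := hc K ξ
    haveI : Smooth (Red.bc ξ G).hom := MorphismProperty.pullback_snd (P := @Smooth) _ _ inferInstance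
    haveI : IsSeparated (Red.bc ξ G).hom := inferInstanceAs (IsSeparated (pullback.snd G.hom ξ))
    haveI : QuasiCompact (Red.bc ξ G).hom := MorphismProperty.pullback_snd (P := @QuasiCompact) _ _ inferInstance
    have hcom : Commutes (G := Red.bc ξ G) ((Over.pullback ξ).map c) ((Over.pullback ξ).map i) := by
      refine commutes_of_good (MaxTorConj.isMaximalTorus_bc hi ξ) hi' hcent (good_bc hgood ξ) fun k =>
        ⟨(Over.mapPullbackAdj ξ).homEquiv _ C (toUnit _ ≫ w k), ?_⟩
      rw [← Adjunction.homEquiv_naturality_right, Category.assoc, hw]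
      rfl
    obtain ⟨h, hh⟩ := (hz y').2 fun k => by
      have e := hcom _ ((Over.mapPullbackAdj ξ).homEquiv _ C y')
        ((Over.mapPullbackAdj ξ).homEquiv _ T (toUnit _ ≫ β k))
      rw [← Adjunction.homEquiv_naturality_right, ← Adjunction.homEquiv_naturality_right] at e
      have e' : Commute (y' ≫ c) ((toUnit _ ≫ β k) ≫ i) :=
        Commute.of_map (PowEtCentralLib.adjEquiv ξ (𝟙_ _) (G := G)).injective e
      rw [← cancel_mono c, MonObj.mul_comp, MonObj.mul_comp, Category.assoc, hw, ← Category.assoc]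
      exact e'.eq
    refine ⟨h.left (IsLocalRing.closedPoint K), ?_⟩
    rw [← Scheme.Hom.comp_apply, ← Over.comp_left, hh]
    exact C.left.fromSpecResidueField_apply y _⟩
  haveI := isIso_of_closed_surjective z
  intro X x t
  refine hgood X (x ≫ c) (fun k => ?_) t
  have e := congrArg (· ≫ c) ((hz x).1 ⟨x ≫ inv z, by simp⟩ k)
  simp only [MonObj.mul_comp, Category.assoc, hw] at e
  exact e

/-- The base change of a split torus is split. -/
def dsIso {P : Scheme.{u}} (f : P ⟶ S) (M : Type) [AddCommGroup M] : Red.bc f (Red.DS S M) ≅ Red.DS P M :=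
  ActBC.bcCompIso f _ _ (specULiftZIsTerminal.hom_ext _ _)

/-- **Locally a Cartan subgroup commutes with a split maximal torus.** -/
theorem exists_local_commuting [IsAffine S] [Smooth G.hom] [IsSeparated G.hom] [QuasiCompact G.hom] {C : Over S}
    [GrpObj C] {c : C ⟶ G} [IsMonHom c] [Mono c] [Smooth C.hom] (hc : CartanPts c) {ℓ r : ℕ} (R : RootSystem S ℓ)
    (v : Red.DS S (Fin r → ℤ) ⟶ G) (hv : Red.IsMaximalTorus v) :
    ∃ (P : Scheme.{u}) (f : P ⟶ S) (v' : Red.DS P (Fin r → ℤ) ⟶ Red.bc f G), Smooth f ∧ Surjective f ∧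
      Red.IsMaximalTorus v' ∧ Commutes (G := Red.bc f G) ((Over.pullback f).map c) v' := by
  haveI := hv.1; haveI := hv.2.1
  obtain ⟨m, hgood⟩ := exists_good_level R v hv
  let n := ℓ ^ m
  have hn : IsUnit (n : Γ(S, ⊤)) := isUnit_pow R m
  let b := stdTuple v (R.ζ m)
  have hb : IsTors n b := isTors_std v R m
  let β : Fin r → (𝟙_ (Over S) ⟶ Red.DS S (Fin r → ℤ)) := fun k => DSPtsLib.dsPt (coordChar k (R.ζ m))
  have hbβ : ∀ k, b k = β k ≫ v := fun _ => rfl
  haveI : Mono c.left := inferInstanceAs (Mono ((Over.forget S).map c))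
  haveI : IsSeparated C.hom := by rw [← Over.w c]; infer_instance
  obtain ⟨Q⟩ := nonempty_tupleScheme G n r
  obtain ⟨QC⟩ := nonempty_tupleScheme C n r
  haveI := QC.smooth hn
  obtain ⟨o, ho⟩ := Q.exists_lift (orbitTuple b) (isTors_orbitTuple hb)
  haveI := Q.smooth_orbit hn hb o ho
  obtain ⟨cQ, hcQ⟩ := Q.exists_lift (fun k => QC.univ k ≫ c) (isTors_map (compHom c _) QC.isTors)
  let Pk := pullback o cQ
  have sq : IsPullback (pullback.fst o cQ).left (pullback.snd o cQ).left o.left cQ.left :=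
    (IsPullback.of_hasPullback o cQ).map (Over.forget S)
  haveI : Smooth (pullback.snd o cQ).left := MorphismProperty.of_isPullback (P := @Smooth) sq ‹_›
  haveI : Smooth Pk.hom := by rw [← Over.w (pullback.snd o cQ)]; infer_instance
  have hlift : ∀ {X : Over S} (g : X ⟶ G) (z : Fin r → (X ⟶ C)), IsTors n z →
      (∀ k, g * (toUnit X ≫ b k) * g⁻¹ = z k ≫ c) → Nonempty (X ⟶ Pk) := fun {X} g z hz h => by
    obtain ⟨l, hl⟩ := QC.exists_lift z hz
    exact ⟨pullback.lift g l (Q.ext _ _ fun k => by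
      rw [Category.assoc, ho, comp_orbitTuple, Category.assoc, hcQ, ← Category.assoc, hl, h])⟩
  haveI : Surjective Pk.hom := ⟨fun s => by
    let ξ := Red.geomPt s
    let K := AlgebraicClosure (S.residueField s)
    obtain ⟨T', _, i', hi', hcent⟩ := hc K ξ
    haveI : Smooth (Red.bc ξ G).hom := MorphismProperty.pullback_snd (P := @Smooth) _ _ inferInstance
    haveI : QuasiCompact (Red.bc ξ G).hom := MorphismProperty.pullback_snd (P := @QuasiCompact) _ _ inferInstance
    obtain ⟨g, φ, hφ⟩ := MaxTorConj.conj_algClosed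
      (isMaxTorus_of_isMaximalTorus (MaxTorConj.isMaximalTorus_bc hv ξ)) (isMaxTorus_of_isMaximalTorus hi')
    obtain ⟨w, hw⟩ := (hcent.2.2 T' i').2 fun X' x t => by
      haveI := hi'.1
      rw [← MonObj.mul_comp, ← MonObj.mul_comp, (commute_torus hi'.2.2.1 x t).eq]
    let A := (Over.mapPullbackAdj ξ).homEquiv
    let X := (Over.map ξ).obj (𝟙_ (Over (Spec (CommRingCat.of K))))
    obtain ⟨g₀, hg₀⟩ := (PowEtCentralLib.adjEquiv ξ (𝟙_ _) (G := G)).surjective g
    let z : Fin r → (X ⟶ C) := fun k => (A _ C).symm (A _ _ (toUnit X ≫ β k) ≫ φ.hom ≫ w)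
    have key : ∀ k, g₀ * (toUnit X ≫ b k) * g₀⁻¹ = z k ≫ c := fun k => by
      apply (PowEtCentralLib.adjEquiv ξ (𝟙_ _) (G := G)).injective
      rw [map_mul, map_mul, map_inv, hg₀]
      show g * A _ G (toUnit X ≫ b k) * g⁻¹ = A _ G (z k ≫ c)
      rw [hbβ, ← Category.assoc, Adjunction.homEquiv_naturality_right _ (toUnit X ≫ β k) v,
        Adjunction.homEquiv_naturality_right _ (z k) c,
        Equiv.apply_symm_apply, Category.assoc, Category.assoc, hw, ← hφ, MonObj.comp_mul, MonObj.comp_mul,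
        GrpObj.comp_inv, ← Category.assoc (A _ _ (toUnit X ≫ β k)),
        toUnit_unique (A _ _ (toUnit X ≫ β k) ≫ toUnit _) (𝟙 _), Category.id_comp]
    have hz : IsTors n z := isTors_of_map (compHom c _) (fun a b h => (cancel_mono c).1 h) (by
      have e : (fun k => compHom c _ (z k)) = fun k => g₀ * (toUnit X ≫ b k) * g₀⁻¹ :=
        funext fun k => (key k).symm
      rw [e]; exact isTors_conj g₀ (isTors_comp hb _))
    obtain ⟨l⟩ := hlift g₀ z hz key
    refine ⟨l.left (IsLocalRing.closedPoint K), ?_⟩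
    rw [← Scheme.Hom.comp_apply, Over.w]
    exact RedRank.geomPt_apply s⟩
  let P := Pk.left
  let f : P ⟶ S := Pk.hom
  let ζ : (Over.map f).obj (𝟙_ (Over P)) ⟶ Pk := Over.homMk (𝟙 _)
  let E := PowEtCentralLib.adjEquiv f (𝟙_ (Over P)) (G := G)
  let A := (Over.mapPullbackAdj f).homEquiv (𝟙_ (Over P))
  let g₀ := ζ ≫ pullback.fst o cQ
  let z₀ := fun k => ζ ≫ pullback.snd o cQ ≫ QC.univ k
  have key : ∀ k, g₀ * (toUnit _ ≫ b k) * g₀⁻¹ = z₀ k ≫ c := fun k => by
    rw [← comp_orbitTuple, ← ho]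
    show (ζ ≫ pullback.fst o cQ) ≫ o ≫ Q.univ k = (ζ ≫ pullback.snd o cQ ≫ QC.univ k) ≫ c
    rw [Category.assoc, pullback.condition_assoc, hcQ, Category.assoc, Category.assoc]
  haveI : Smooth (Red.bc f G).hom := MorphismProperty.pullback_snd (P := @Smooth) _ _ inferInstance
  haveI : IsSeparated (Red.bc f G).hom := inferInstanceAs (IsSeparated (pullback.snd G.hom f))
  haveI : QuasiCompact (Red.bc f G).hom := MorphismProperty.pullback_snd (P := @QuasiCompact) _ _ inferInstance
  haveI : Smooth (Red.bc f C).hom := MorphismProperty.pullback_snd (P := @Smooth) _ _ inferInstance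
  haveI := DiagRep.isMonHom_bc_map f c
  haveI := mono_bc f c
  haveI := DiagRep.isMonHom_conjBy (E g₀)
  let e : Red.bc f G ≅ Red.bc f G := asIso (AGF.conjBy (E g₀) (𝟙 (Red.bc f G)))
  haveI : IsMonHom e.hom := DiagRep.isMonHom_conjBy (E g₀)
  let θ : Red.DS P (Fin r → ℤ) ≅ Red.bc f (Red.DS S (Fin r → ℤ)) := (dsIso f _).symm
  haveI : IsMonHom (dsIso (S := S) f (Fin r → ℤ)).hom := ActBC.bcCompIso_isMonHom _ _ _
  haveI : IsMonHom θ.hom := inferInstanceAs (IsMonHom (dsIso f _).inv)
  let v' := (θ.hom ≫ (Over.pullback f).map v) ≫ e.hom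
  have hv' : Red.IsMaximalTorus v' :=
    MaxTorConj.isMaximalTorus_iso e (isMaximalTorus_precomp θ (MaxTorConj.isMaximalTorus_bc hv f))
  let β' := fun k => A _ (toUnit _ ≫ β k) ≫ θ.inv
  have hb' : (fun k => bcTuple f b k ≫ e.hom) = fun k => β' k ≫ v' := funext fun k => by
    show E (toUnit _ ≫ b k) ≫ e.hom = (A _ (toUnit _ ≫ β k) ≫ θ.inv) ≫ (θ.hom ≫ (Over.pullback f).map v) ≫ e.hom
    rw [Category.assoc, Category.assoc, Iso.inv_hom_id_assoc, ← Category.assoc (A _ (toUnit _ ≫ β k))]
    show _ = ((Over.mapPullbackAdj f).homEquiv _ _ (toUnit _ ≫ β k) ≫ (Over.pullback f).map v) ≫ e.hom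
    rw [← Adjunction.homEquiv_naturality_right, Category.assoc, ← hbβ]
    rfl
  have hw : ∀ k, A _ (z₀ k) ≫ (Over.pullback f).map c = β' k ≫ v' := fun k => by
    rw [← congrFun hb' k]
    refine (Adjunction.homEquiv_naturality_right _ _ _).symm.trans ?_
    show E (z₀ k ≫ c) = _
    rw [← key, map_mul, map_mul, map_inv]
    show _ = E (toUnit _ ≫ b k) ≫ AGF.conjBy (E g₀) (𝟙 _)
    rw [MonObj.comp_mul, MonObj.comp_mul, GrpObj.comp_inv, Category.comp_id, ← Category.assoc,
      toUnit_unique (E (toUnit _ ≫ b k) ≫ toUnit _) (𝟙 _), Category.id_comp]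
  have hgood' : Good v' (fun k => β' k ≫ v') :=
    hb' ▸ good_transport e θ.hom (Category.assoc _ _ _).symm (good_bc hgood f)
  have htors : IsTors n fun k => β' k ≫ v' :=
    hb' ▸ isTors_map (compHom e.hom _) (isTors_bcTuple f hb)
  exact ⟨P, f, v', inferInstance, inferInstance, hv',
    commutes_of_good_tuple (cartanPts_bc hc f) (by simpa using hn.map f.appTop.hom) hv' β' hgood' _ hw htors⟩

end Groth.Agent.TorsTuple
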