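import Groth.Agent.TorsTupleLib.IsoCrit
import Groth.Agent.AbSchLib.Flat
import Groth.Agent.FlatLib.FibreFlatScheme
import Groth.Agent.GrpHomLib.Image
import Groth.Agent.BorelLib.CentralPreimageRanks

/-!
The open locus where a monomorphism of smooth groups is an isomorphism.
-/

set_option autoImplicit false
set_option linter.style.haveILetI false
set_option linter.unusedSectionVars false
set_option backward.isDefEq.respectTransparency false
set_option maxHeartbeats 2000000
set_option synthInstance.maxHeartbeats 400000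

noncomputable section

universe u

open CategoryTheory CategoryTheory.Limits MonoidalCategory CartesianMonoidalCategory AlgebraicGeometry
open scoped MonObj

attribute [-instance] CategoryTheory.Hom.commGroup

namespace Groth.Agent.TorsTuple

open Groth.Agent.BorelLib
open AbSchLib

variable {S : Scheme.{u}}

/-- A map flat on a geometric fibre is flat on the fibre. -/
theorem flat_fiberMap_of_geom {X Y : Over S} (f : X ⟶ Y) (s : S)
    (h : Flat ((Over.pullback (Red.geomPt s)).map f).left) : Flat (MoreMor.fiberMap f.left Y.hom s) := by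
  haveI := h
  let κ := S.residueField s
  let K := AlgebraicClosure κ
  let b : Spec (CommRingCat.of K) ⟶ Spec κ := Spec.map (CommRingCat.ofHom (algebraMap κ K))
  obtain ⟨hb1, hb2⟩ := (flat_and_surjective_SpecMap_iff (CommRingCat.ofHom (algebraMap κ K))).mpr
    (RingHom.faithfullyFlat_algebraMap_iff.mpr inferInstance)
  haveI : Flat b := hb1
  haveI : Surjective b := hb2
  let ξ := b ≫ S.fromSpecResidueField s
  let f' := ((Over.pullback ξ).map f).left
  haveI : Flat f' := h
  have sqY : IsPullback (pullback.fst Y.hom ξ) (pullback.snd Y.hom ξ) Y.hom ξ := IsPullback.of_hasPullback _ _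
  have sqF := FlatLib.isPullback_fiber Y.hom s
  let kY : pullback Y.hom ξ ⟶ Y.hom.fiber s :=
    sqF.lift (pullback.fst Y.hom ξ) (pullback.snd Y.hom ξ ≫ b) (by rw [Category.assoc]; exact sqY.w)
  have hkY : IsPullback kY (pullback.snd Y.hom ξ) (Y.hom.fiberToSpecResidueField s) b := by
    refine IsPullback.of_right ?_ (sqF.lift_snd _ _ _) sqF
    rw [sqF.lift_fst]
    exact sqY
  haveI : Flat kY := MorphismProperty.of_isPullback hkY.flip ‹Flat b›
  haveI : Surjective kY := MorphismProperty.of_isPullback hkY.flip ‹Surjective b›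
  have sqM := FlatLib.isPullback_fiberMap f.left Y.hom s
  have hf'1 : f' ≫ pullback.fst Y.hom ξ = pullback.fst X.hom ξ ≫ f.left := pullback.lift_fst _ _ _
  have hf'2 : f' ≫ pullback.snd Y.hom ξ = pullback.snd X.hom ξ := pullback.lift_snd _ _ _
  let k : pullback X.hom ξ ⟶ (f.left ≫ Y.hom).fiber s := sqM.lift (pullback.fst X.hom ξ) (f' ≫ kY)
    (by rw [Category.assoc, sqF.lift_fst, hf'1])
  have sqk : IsPullback k f' (MoreMor.fiberMap f.left Y.hom s) kY := by
    refine IsPullback.of_right ?_ (sqM.lift_snd _ _ _) sqM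
    rw [sqM.lift_fst, sqF.lift_fst]
    refine IsPullback.of_bot ?_ hf'1.symm sqY
    rw [Over.w f, hf'2]
    exact IsPullback.of_hasPullback X.hom ξ
  haveI : Flat k := MorphismProperty.of_isPullback sqk.flip ‹Flat kY›
  haveI : Surjective k := MorphismProperty.of_isPullback sqk.flip ‹Surjective kY›
  exact flat_of_square sqk.w


/-- An open set of points at which a monomorphism is flat. -/
theorem exists_open_flat {X Y : Over S} (f : X ⟶ Y) [Flat X.hom] [LocallyOfFinitePresentation X.hom]
    [LocallyOfFiniteType Y.hom] (s : S) (h : Flat (MoreMor.fiberMap f.left Y.hom s)) :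
    ∃ O : X.left.Opens, (∀ x : X.left, X.hom x = s → x ∈ O) ∧ Flat (O.ι ≫ f.left) := by
  haveI : Flat (f.left ≫ Y.hom) := by rw [Over.w]; infer_instance
  haveI : LocallyOfFinitePresentation (f.left ≫ Y.hom) := by rw [Over.w]; infer_instance
  let A : Set X.left := interior {x | (f.left.stalkMap x).hom.Flat}
  let O' : X.left.Opens := ⟨A, isOpen_interior⟩
  refine ⟨O', fun x hx => ?_, ?_⟩
  · have hys : Y.hom (f.left x) = s := by rw [← Scheme.Hom.comp_apply, Over.w]; exact hx
    subst hys
    obtain ⟨h1, h2⟩ := (FlatLib.fibre_criterion_near f.left Y.hom x)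
    obtain ⟨O, hO, hxO, hOf⟩ := h2 (h1.1 ⟨(Flat.iff_flat_stalkMap (f.left ≫ Y.hom)).1 inferInstance x,
      (Flat.iff_flat_stalkMap _).1 h _⟩)
    exact interior_maximal (fun x' hx' => (hOf x' hx').2) hO hxO
  · rw [Flat.iff_flat_stalkMap]
    intro x
    rw [Scheme.Hom.stalkMap_comp]
    have h1 : (O'.ι.stalkMap x).hom.Flat :=
      (Flat.iff_flat_stalkMap _).1 inferInstance x
    have h2 : (f.left.stalkMap x.1).hom.Flat := interior_subset (s := {x | (f.left.stalkMap x).hom.Flat}) x.2
    exact RingHom.Flat.comp h2 h1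

/-- **A monomorphism of smooth groups with connected fibres which is an isomorphism at `s` is one near `s`.** -/
theorem exists_nhd_isIso {C Z : Over S} [GrpObj C] [GrpObj Z] [Smooth C.hom] [Smooth Z.hom] [QuasiCompact C.hom]
    [QuasiCompact Z.hom] (f : C ⟶ Z) [IsMonHom f] [Mono f]
    (hconn : ∀ t : S, ConnectedSpace ↥(Red.geomFibre t Z).left) (s : S)
    (hs : IsIso ((Over.pullback (Red.geomPt s)).map f)) :
    ∃ U : S.Opens, s ∈ U ∧ ∀ t ∈ U, IsIso ((Over.pullback (Red.geomPt t)).map f) := by
  haveI := hs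
  haveI : IsIso ((Over.pullback (Red.geomPt s)).map f).left :=
    inferInstanceAs (IsIso ((Over.forget _).map ((Over.pullback (Red.geomPt s)).map f)))
  obtain ⟨O, hO, hOf⟩ := exists_open_flat f s (flat_fiberMap_of_geom f s inferInstance)
  haveI := hOf
  let e : S ⟶ C.left := (η[C] : 𝟙_ (Over S) ⟶ C).left
  have he : e ≫ C.hom = 𝟙 S := Over.w (η[C] : 𝟙_ (Over S) ⟶ C)
  refine ⟨e ⁻¹ᵁ O, hO _ (by rw [← Scheme.Hom.comp_apply, he]; rfl), fun t ht => ?_⟩
  let ξ := Red.geomPt t
  let K := AlgebraicClosure (S.residueField t)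
  let CK := Red.bc ξ C
  let ZK := Red.bc ξ Z
  let fK : CK ⟶ ZK := (Over.pullback ξ).map f
  haveI := DiagRep.isMonHom_bc_map ξ f
  haveI : Mono fK := mono_bc ξ f
  haveI : Mono fK.left := inferInstanceAs (Mono ((Over.forget _).map fK))
  haveI : Smooth CK.hom := MorphismProperty.pullback_snd (P := @Smooth) _ _ inferInstance
  haveI : Smooth ZK.hom := MorphismProperty.pullback_snd (P := @Smooth) _ _ inferInstance
  haveI : QuasiCompact CK.hom := MorphismProperty.pullback_snd (P := @QuasiCompact) _ _ inferInstance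
  haveI : QuasiCompact ZK.hom := MorphismProperty.pullback_snd (P := @QuasiCompact) _ _ inferInstance
  haveI : ConnectedSpace ↥ZK.left := hconn t
  haveI : GeometricallyIntegral ZK.hom := AlbLib.geometricallyIntegral_grp ZK
  haveI : IrreducibleSpace ZK.left := GeometricallyIrreducible.irreducibleSpace_of_subsingleton ZK.hom
  haveI : IsSeparated ZK.hom := Groth.Agent.GrpField.isSeparated_grp (G := ZK)
  haveI : QuasiCompact (fK.left ≫ ZK.hom) := by rw [Over.w fK]; infer_instance
  haveI : QuasiCompact fK.left := QuasiCompact.of_comp fK.left ZK.hom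
  let O' : CK.left.Opens := (pullback.fst C.hom ξ) ⁻¹ᵁ O
  haveI : IsOpenImmersion (O.ι ≫ f.left) := by
    haveI : Mono f.left := inferInstanceAs (Mono ((Over.forget _).map f))
    haveI : LocallyOfFinitePresentation (f.left ≫ Z.hom) := by rw [Over.w]; infer_instance
    haveI : LocallyOfFinitePresentation f.left := AlgSpLib.lfp_of_comp_lft f.left Z.hom
    exact IsOpenImmersion.of_flat_of_mono _
  have ho : IsOpen (fK.left.base '' (O' : Set CK.left)) := by
    have hr : fK.left.base '' (O' : Set CK.left) = (pullback.fst Z.hom ξ) ⁻¹' Set.range (O.ι ≫ f.left) := by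
      have sq : IsPullback fK.left (pullback.fst C.hom ξ) (pullback.fst Z.hom ξ) f.left :=
        (isPullback_bc_map ξ f).flip
      ext z
      constructor
      · rintro ⟨x, hx, rfl⟩
        refine ⟨⟨pullback.fst C.hom ξ x, hx⟩, ?_⟩
        show f.left (pullback.fst C.hom ξ x) = pullback.fst Z.hom ξ (fK.left x)
        exact ((Scheme.Hom.comp_apply _ _ x).symm.trans (congrArg (fun g => g x) sq.w.symm)).trans (Scheme.Hom.comp_apply _ _ x)
      · rintro ⟨c, hc⟩
        obtain ⟨w, hw1, hw2⟩ := Scheme.Pullback.exists_preimage_pullback (f := pullback.fst Z.hom ξ) (g := f.left)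
          z c.1 hc.symm
        refine ⟨sq.isoPullback.inv w, ?_, ?_⟩
        · show pullback.fst C.hom ξ (sq.isoPullback.inv w) ∈ O
          have e2 := ((Scheme.Hom.comp_apply _ _ w).symm.trans (congrArg (fun g => g w) sq.isoPullback_inv_snd)).trans hw2
          exact e2.symm ▸ c.2
        · exact ((Scheme.Hom.comp_apply _ _ w).symm.trans (congrArg (fun g => g w) sq.isoPullback_inv_fst)).trans hw1
    rw [hr]
    exact (O.ι ≫ f.left).isOpenMap.isOpen_range.preimage (pullback.fst Z.hom ξ).continuous
  haveI : Surjective fK.left := by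
    refine GrpHom.surjective_of_denseRange fK ?_
    obtain ⟨y, hy⟩ : ∃ y : CK.left, y ∈ O' := by
      let pt : Spec (CommRingCat.of K) ⟶ CK.left := pullback.lift (ξ ≫ e) (𝟙 _) (by simp [he])
      refine ⟨pt (IsLocalRing.closedPoint K), ?_⟩
      show pullback.fst C.hom ξ (pt (IsLocalRing.closedPoint K)) ∈ O
      have h1 := ((Scheme.Hom.comp_apply pt (pullback.fst C.hom ξ) (IsLocalRing.closedPoint K)).symm.trans
        (congrArg (fun g => g (IsLocalRing.closedPoint K)) (pullback.lift_fst (ξ ≫ e) (𝟙 _) (by simp [he])))).trans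
        ((Scheme.Hom.comp_apply ξ e _).trans (congrArg e (RedRank.geomPt_apply t)))
      exact h1.symm ▸ ht
    exact (ho.dense ⟨_, y, hy, rfl⟩).mono (Set.image_subset_range _ _)
  haveI : GeometricallyReduced ZK.hom := AbSchLib.geometricallyReduced_of_smooth ZK.hom
  haveI : Flat fK.left := AbSchLib.flat_of_surjective fK
  haveI : LocallyOfFinitePresentation fK.left := CentPre.lfp_left fK
  haveI : IsOpenImmersion fK.left := IsOpenImmersion.of_flat_of_mono _
  haveI : IsIso ((Over.forget _).map fK) := (isIso_iff_isOpenImmersion_and_surjective (f := fK.left)).2 ⟨‹_›, ‹_›⟩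
  exact isIso_of_reflects_iso fK (Over.forget _)

end Groth.Agent.TorsTuple
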