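import Groth.Agent.TorsTupleLib.OrbitPts

/-!
The open of tuples conjugate to an enumeration of the torsion of a maximal torus.
-/

set_option autoImplicit false
set_option linter.style.haveILetI false
set_option linter.unusedSectionVars false
set_option backward.isDefEq.respectTransparency false
set_option maxHeartbeats 2000000
set_option synthInstance.maxHeartbeats 400000

noncomputable section

universe u

open CategoryTheory CategoryTheory.Limits MonoidalCategory CartesianMonoidalCategory AlgebraicGeometry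
open scoped MonObj

attribute [-instance] CategoryTheory.Hom.commGroup

namespace Groth.Agent.TorsTuple

open Groth.Agent.BorelLib

variable {S : Scheme.{u}}

/-- A lift through an open immersion of a flat morphism is flat. -/
theorem flat_lift {X Y Z : Scheme.{u}} (a : X ⟶ Y) (i : Y ⟶ Z) [IsOpenImmersion i] [Flat (a ≫ i)] : Flat a := by
  have sq : IsPullback a (𝟙 X) i (a ≫ i) :=
    IsPullback.of_isLimit' ⟨(Category.id_comp _).symm⟩ (PullbackCone.IsLimit.mk _ (fun s => s.snd)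
      (fun s => by rw [← cancel_mono i, Category.assoc]; exact s.condition.symm) (fun s => Category.comp_id _)
      (fun s m _ h => by rw [← h, Category.comp_id]))
  exact MorphismProperty.of_isPullback (P := @Flat) sq.flip ‹_›

/-- Quasi-compactness of a morphism from a finite disjoint union. -/
theorem quasiCompact_sigmaDesc {κ : Type u} [Finite κ] {P : κ → Scheme.{u}} {Y : Scheme.{u}} (f : ∀ k, P k ⟶ Y)
    [∀ k, QuasiCompact (f k)] : QuasiCompact (Sigma.desc f) := by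
  refine ⟨fun V hV hVc => ?_⟩
  have e : (Sigma.desc f) ⁻¹' V = ⋃ k, (Sigma.ι P k) '' ((f k) ⁻¹' V) := by
    refine Set.ext fun z => ⟨fun hz => ?_, fun hz => ?_⟩
    · obtain ⟨k, y, rfl⟩ := DescLib.exists_sigma_mem z
      refine Set.mem_iUnion.2 ⟨k, y, ?_, rfl⟩
      show f k y ∈ V
      rw [← Sigma.ι_desc f k, Scheme.Hom.comp_apply]
      exact hz
    · obtain ⟨k, y, hy, rfl⟩ := Set.mem_iUnion.1 hz
      show Sigma.desc f (Sigma.ι P k y) ∈ V
      rw [← Scheme.Hom.comp_apply, Sigma.ι_desc]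
      exact hy
  rw [e]
  exact isCompact_iUnion fun k => (QuasiCompact.isCompact_preimage V hV hVc).image (Sigma.ι P k).continuous

variable {G : Over S} [GrpObj G] {n L : ℕ} (Q : TupleScheme G n L) {J : Type u} {W : J → Scheme.{u}}
  {q : ∀ j, W j ⟶ S} (p : ∀ j, LevelPiece G (q j) n)

/-- The index of the orbits. -/
def OrbitIdx : Type u := Σ j : J, (Fin L ≃ (Fin (p j).r → Fin n))

/-- **The orbit of a point of another piece.** -/
theorem exists_orbit_pt [Smooth G.hom] [QuasiCompact G.hom] [NeZero n] {W₁ W₂ : Scheme.{u}} {q₁ : W₁ ⟶ S}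
    {q₂ : W₂ ⟶ S} (p₁ : LevelPiece G q₁ n) (σ₁ : Fin L ≃ (Fin p₁.r → Fin n)) (p₂ : LevelPiece G q₂ n)
    (o₁ : Red.bc q₁ G ⟶ Red.bc q₁ Q.obj)
    (ho₁ : ∀ i, o₁ ≫ (Over.pullback q₁).map (Q.univ i) = orbitTuple (p₁.tuple σ₁) i)
    (o₂ : (Fin L ≃ (Fin p₂.r → Fin n)) → (Red.bc q₂ G ⟶ Red.bc q₂ Q.obj))
    (ho₂ : ∀ σ i, o₂ σ ≫ (Over.pullback q₂).map (Q.univ i) = orbitTuple (p₂.tuple σ) i)
    {K : Type u} [Field K] [IsAlgClosed K] (a₁ : Spec (CommRingCat.of K) ⟶ (Red.bc q₁ G).left)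
    (a₂ : Spec (CommRingCat.of K) ⟶ (Red.bc q₂ Q.obj).left)
    (ha : a₁ ≫ o₁.left ≫ pullback.fst Q.obj.hom q₁ = a₂ ≫ pullback.fst Q.obj.hom q₂) :
    ∃ (σ : Fin L ≃ (Fin p₂.r → Fin n)) (b : Spec (CommRingCat.of K) ⟶ (Red.bc q₂ G).left),
      b ≫ (o₂ σ).left = a₂ := by
  have hx₂ : (a₂ ≫ (Red.bc q₂ Q.obj).hom) ≫ q₂ = (a₁ ≫ (Red.bc q₁ G).hom) ≫ q₁ := by
    show (a₂ ≫ pullback.snd Q.obj.hom q₂) ≫ q₂ = _
    rw [Category.assoc, ← pullback.condition, ← Category.assoc, ← ha, Category.assoc, Category.assoc,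
      pullback.condition, Category.assoc]
    exact congrArg (fun t => a₁ ≫ t) ((Category.assoc _ _ _).symm.trans (congrArg (· ≫ q₁) (Over.w o₁)))
  generalize hx₁ : a₁ ≫ (Red.bc q₁ G).hom = x₁ at hx₂
  generalize hx₂' : a₂ ≫ (Red.bc q₂ Q.obj).hom = x₂ at hx₂
  generalize hξ : x₁ ≫ q₁ = ξ at hx₂
  let h : (Over.map x₁).obj (𝟙_ _) ⟶ Red.bc q₁ G := Over.homMk a₁ (by rw [hx₁]; exact (Category.id_comp _).symm)
  let z₂ : (Over.map x₂).obj (𝟙_ _) ⟶ Red.bc q₂ Q.obj := Over.homMk a₂ (by rw [hx₂']; exact (Category.id_comp _).symm)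
  obtain ⟨g, τ, hτ⟩ := exists_reindex p₁ x₁ ξ hξ p₂ x₂ hx₂
  obtain ⟨g₁, hg₁⟩ : ∃ g₁, (Over.mapPullbackAdj x₁).homEquiv _ _ h ≫ (ActBC.bcCompIso x₁ q₁ G hξ).hom = g₁ :=
    ⟨_, rfl⟩
  obtain ⟨h₂, hh₂⟩ : ∃ h₂, (Over.mapPullbackAdj x₂).homEquiv _ _ h₂ ≫ (ActBC.bcCompIso x₂ q₂ G hx₂).hom = g₁ * g⁻¹ :=
    ⟨((Over.mapPullbackAdj x₂).homEquiv _ _).symm ((g₁ * g⁻¹) ≫ (ActBC.bcCompIso x₂ q₂ G hx₂).inv), by
      rw [Equiv.apply_symm_apply, Category.assoc, Iso.inv_hom_id, Category.comp_id]⟩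
  refine ⟨σ₁.trans τ, h₂.left, ?_⟩
  have hy : (Over.mapPullbackAdj x₂).homEquiv _ _ z₂ ≫ (ActBC.bcCompIso x₂ q₂ Q.obj hx₂).hom =
      (Over.mapPullbackAdj x₁).homEquiv _ _ (h ≫ o₁) ≫ (ActBC.bcCompIso x₁ q₁ Q.obj hξ).hom := by
    refine Over.OverMorphism.ext (pullback.hom_ext ?_ ((Over.w _).trans (Over.w _).symm))
    rw [Over.comp_left, Over.comp_left, Category.assoc, Category.assoc, ActBC.bcCompIso_hom_left_fst,
      ActBC.bcCompIso_hom_left_fst, ← Category.assoc, ← Category.assoc _ (pullback.fst _ x₁)]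
    refine (congrArg (· ≫ _) (homEquiv_left_fst x₂ z₂)).trans (Eq.trans ?_
      (congrArg (· ≫ _) (homEquiv_left_fst x₁ (h ≫ o₁))).symm)
    show a₂ ≫ _ = (a₁ ≫ o₁.left) ≫ _
    exact ha.symm.trans (Category.assoc _ _ _).symm
  have hy₂ : (Over.mapPullbackAdj x₂).homEquiv _ _ (h₂ ≫ o₂ (σ₁.trans τ)) ≫ (ActBC.bcCompIso x₂ q₂ Q.obj hx₂).hom =
      (Over.mapPullbackAdj x₂).homEquiv _ _ z₂ ≫ (ActBC.bcCompIso x₂ q₂ Q.obj hx₂).hom := by
    refine (Q.bc ξ).ext _ _ fun k => ?_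
    show _ ≫ (Over.pullback ξ).map (Q.univ k) = _ ≫ (Over.pullback ξ).map (Q.univ k)
    rw [hy, orbit_eval p₂ x₂ ξ hx₂ Q (σ₁.trans τ) _ (ho₂ _) h₂ k, orbit_eval p₁ x₁ ξ hξ Q σ₁ o₁ ho₁ h k, hh₂, hg₁,
      show (σ₁.trans τ) k = τ (σ₁ k) from rfl, ← hτ]
    simp only [mul_inv_rev, inv_inv, mul_assoc, inv_mul_cancel_left]
  have hz₂ : h₂ ≫ o₂ (σ₁.trans τ) = z₂ :=
    ((Over.mapPullbackAdj x₂).homEquiv _ _).injective ((cancel_mono _).1 hy₂)
  exact congrArg (fun t => t.left) hz₂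

/-- **The orbits of the enumerations form an open set of tuples with saturated preimages.** -/
theorem exists_orbit_open [IsAffine S] [Finite J] [∀ j, IsAffine (W j)] [∀ j, Flat (q j)] [Smooth G.hom]
    [IsSeparated G.hom] [QuasiCompact G.hom] [NeZero n] (hn : IsUnit (n : Γ(S, ⊤)))
    (hcov : ∀ s : S, ∃ j, s ∈ Set.range (q j)) :
    ∃ (U : Q.obj.left.Opens) (o : ∀ k : OrbitIdx (L := L) p, Red.bc (q k.1) G ⟶ Red.bc (q k.1) Q.obj),
      (∀ k i, o k ≫ (Over.pullback (q k.1)).map (Q.univ i) = orbitTuple ((p k.1).tuple k.2) i) ∧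
      (∀ k, Flat ((o k).left ≫ pullback.fst Q.obj.hom (q k.1))) ∧
      (U : Set Q.obj.left) = ⋃ k, Set.range ((o k).left ≫ pullback.fst Q.obj.hom (q k.1)) := by
  haveI : ∀ j, Smooth (Red.bc (q j) G).hom := fun j => MorphismProperty.pullback_snd (P := @Smooth) _ _ inferInstance
  haveI : ∀ j, IsSeparated (Red.bc (q j) G).hom := fun j => inferInstanceAs (IsSeparated (pullback.snd G.hom (q j)))
  have hnW : ∀ j, IsUnit (n : Γ(W j, ⊤)) := fun j => by simpa using hn.map (q j).appTop.hom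
  have hlift : ∀ k : OrbitIdx (L := L) p, ∃ o : Red.bc (q k.1) G ⟶ Red.bc (q k.1) Q.obj,
      ∀ i, o ≫ (Over.pullback (q k.1)).map (Q.univ i) = orbitTuple ((p k.1).tuple k.2) i := fun k =>
    (Q.bc (q k.1)).exists_lift (orbitTuple ((p k.1).tuple k.2)) (isTors_orbitTuple ((p k.1).isTors_tuple k.2))
  choose o ho using hlift
  have hos : ∀ k, Smooth (o k).left := fun k =>
    (Q.bc (q k.1)).smooth_orbit (hnW _) ((p k.1).isTors_tuple k.2) (o k) (ho k)
  let pr : ∀ j, (Red.bc (q j) Q.obj).left ⟶ Q.obj.left := fun j => pullback.fst Q.obj.hom (q j)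
  let T : Set Q.obj.left := ⋃ k, Set.range ((o k).left ≫ pr k.1)
  have hsat : ∀ (j : J) (z : (Red.bc (q j) Q.obj).left), pr j z ∈ T →
      ∃ σ : Fin L ≃ (Fin (p j).r → Fin n), z ∈ Set.range (o ⟨j, σ⟩).left := by
    intro j z hz
    obtain ⟨⟨j₁, σ₁⟩, h₁, hh₁⟩ := Set.mem_iUnion.1 hz
    obtain ⟨w, hw₁, hw₂⟩ := Scheme.Pullback.exists_preimage_pullback (f := (o ⟨j₁, σ₁⟩).left ≫ pr j₁) (g := pr j)
      h₁ z hh₁
    let P := pullback ((o ⟨j₁, σ₁⟩).left ≫ pr j₁) (pr j)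
    let K := AlgebraicClosure (P.residueField w)
    let pt : Spec (CommRingCat.of K) ⟶ P :=
      Spec.map (CommRingCat.ofHom (algebraMap (P.residueField w) K)) ≫ P.fromSpecResidueField w
    obtain ⟨σ, b, hb⟩ := exists_orbit_pt Q (p j₁) σ₁ (p j) (o ⟨j₁, σ₁⟩) (ho _) (fun σ => o ⟨j, σ⟩) (fun σ => ho _)
      (pt ≫ pullback.fst _ _) (pt ≫ pullback.snd _ _) (by
        rw [Category.assoc, Category.assoc]
        exact congrArg (pt ≫ ·) pullback.condition)
    refine ⟨σ, b (IsLocalRing.closedPoint K), ?_⟩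
    rw [← Scheme.Hom.comp_apply, hb, Scheme.Hom.comp_apply, ← hw₂]
    exact congrArg _ (P.fromSpecResidueField_apply w _)
  haveI : ∀ j, QuasiCompact (pr j) := fun j => MorphismProperty.pullback_fst (P := @QuasiCompact) _ _ inferInstance
  haveI : ∀ j, Flat (pr j) := fun j => MorphismProperty.pullback_fst (P := @Flat) _ _ inferInstance
  haveI := quasiCompact_sigmaDesc pr
  haveI : Flat (Sigma.desc pr) := IsZariskiLocalAtSource.sigmaDesc fun j => inferInstance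
  haveI : Surjective (Sigma.desc pr) := ⟨fun y => by
    obtain ⟨j, w, hw⟩ := hcov (Q.obj.hom y)
    obtain ⟨z, hz, -⟩ := Scheme.Pullback.exists_preimage_pullback (f := Q.obj.hom) (g := q j) y w hw.symm
    refine ⟨Sigma.ι (fun j => (Red.bc (q j) Q.obj).left) j z, ?_⟩
    rw [← Scheme.Hom.comp_apply, Sigma.ι_desc]
    exact hz⟩
  have hopen : IsOpen T := by
    rw [← (Flat.isQuotientMap_of_surjective (Sigma.desc pr)).isOpen_preimage]
    have e : (Sigma.desc pr) ⁻¹' T = ⋃ k : OrbitIdx (L := L) p,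
        Set.range ((o k).left ≫ Sigma.ι (fun j => (Red.bc (q j) Q.obj).left) k.1) := by
      refine Set.ext fun z => ⟨fun hz => ?_, fun hz => ?_⟩
      · obtain ⟨j, y, rfl⟩ := DescLib.exists_sigma_mem z
        obtain ⟨σ, w, hw⟩ := hsat j y (by
          show (pr j) y ∈ T
          rw [← Sigma.ι_desc pr j, Scheme.Hom.comp_apply]
          exact hz)
        exact Set.mem_iUnion.2 ⟨⟨j, σ⟩, w, by rw [Scheme.Hom.comp_apply, hw]⟩
      · obtain ⟨k, w, rfl⟩ := Set.mem_iUnion.1 hz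
        refine Set.mem_iUnion.2 ⟨k, w, ?_⟩
        rw [← Scheme.Hom.comp_apply, Category.assoc, Sigma.ι_desc]
    rw [e]
    refine isOpen_iUnion fun k => ?_
    haveI := hos k
    exact ((o k).left ≫ Sigma.ι (fun j => (Red.bc (q j) Q.obj).left) k.1).isOpenMap.isOpen_range
  refine ⟨⟨T, hopen⟩, o, ho, fun k => ?_, rfl⟩
  haveI := hos k
  exact inferInstanceAs (Flat ((o k).left ≫ pr k.1))

end Groth.Agent.TorsTuple
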