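import Groth.Agent.TorsTupleLib.Kernel
import Groth.Agent.PowEtCentralLib.Transport
import Groth.Agent.CentLocusLib.Global
import Groth.Agent.TransLiftLib.Glue

/-!
Reduction of points of a smooth group modulo a square-zero ideal, over an arbitrary base.
-/

set_option autoImplicit false
set_option backward.isDefEq.respectTransparency false
set_option maxHeartbeats 1000000
set_option synthInstance.maxHeartbeats 400000
set_option linter.style.haveILetI false

noncomputable section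

universe u

open CategoryTheory CategoryTheory.Limits MonoidalCategory CartesianMonoidalCategory AlgebraicGeometry CoactBr
open scoped MonObj

namespace Groth.Agent.TorsTuple

attribute [local instance] CoactBr.braidedAlgSpecOf

theorem IsDivExt.of_mulEquiv {E E₀ F F₀ : Type*} [Group E] [Group E₀] [Group F] [Group F₀] {n : ℕ} {π : E →* E₀}
    {ρ : F →* F₀} (h : IsDivExt n π) (e : E ≃* F) (e₀ : E₀ ≃* F₀) (hc : ∀ x, ρ (e x) = e₀ (π x)) : IsDivExt n ρ := by
  have hk : ∀ y, ρ y = 1 ↔ π (e.symm y) = 1 := fun y => by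
    conv_lhs => rw [← e.apply_symm_apply y, hc]
    exact map_eq_one_iff e₀ e₀.injective
  refine ⟨fun y₀ => ?_, fun x y hx hy => ?_, fun x hx => ?_, fun x hx hxn => ?_⟩
  · obtain ⟨x, hx⟩ := h.surj (e₀.symm y₀)
    exact ⟨e x, by rw [hc, hx, e₀.apply_symm_apply]⟩
  · exact e.symm.injective (by simpa using h.comm _ _ ((hk x).1 hx) ((hk y).1 hy))
  · obtain ⟨z, hz, hzn⟩ := h.root _ ((hk x).1 hx)
    exact ⟨e z, (hk _).2 (by simpa using hz), by rw [← map_pow, hzn, e.apply_symm_apply]⟩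
  · exact e.symm.injective (by rw [map_one]; exact h.torsion_free _ ((hk x).1 hx) (by rw [← map_pow, hxn, map_one]))

variable {S : Scheme.{u}}

/-- The reduction map of a point modulo an ideal. -/
def redPt {C : Type u} [CommRing C] (I : Ideal C) (p : Spec (CommRingCat.of C) ⟶ S) :
    (Over.mk (Spec.map (CommRingCat.ofHom (Ideal.Quotient.mk I)) ≫ p) : Over S) ⟶ Over.mk p :=
  Over.homMk (Spec.map (CommRingCat.ofHom (Ideal.Quotient.mk I)))

/-- The reduction of points. -/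
def redS (G : Over S) [GrpObj G] {C : Type u} [CommRing C] (I : Ideal C) (p : Spec (CommRingCat.of C) ⟶ S) :
    ((Over.mk p : Over S) ⟶ G) →*
      ((Over.mk (Spec.map (CommRingCat.ofHom (Ideal.Quotient.mk I)) ≫ p) : Over S) ⟶ G) where
  toFun x := redPt I p ≫ x
  map_one' := MonObj.comp_one _
  map_mul' := MonObj.comp_mul _

theorem redS_apply (G : Over S) [GrpObj G] {C : Type u} [CommRing C] (I : Ideal C) (p : Spec (CommRingCat.of C) ⟶ S)
    (x : (Over.mk p : Over S) ⟶ G) : redS G I p x = redPt I p ≫ x := rfl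

/-- Composition with an isomorphism, as an isomorphism of groups of points. -/
def compEquiv (G : Over S) [GrpObj G] {X Y : Over S} (e : X ≅ Y) : (Y ⟶ G) ≃* (X ⟶ G) where
  toFun a := e.hom ≫ a
  invFun b := e.inv ≫ b
  left_inv a := by simp
  right_inv b := by simp
  map_mul' a b := MonObj.comp_mul _ _ _

/-- The values of the unit section over an open lie in an affine open over an affine open of the base. -/
def IsUnitOpen (G : Over S) [GrpObj G] (U : S.Opens) : Prop :=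
  ∃ (U₀ : S.Opens) (W : G.left.Opens), IsAffineOpen U₀ ∧ IsAffineOpen W ∧ U ≤ U₀ ∧ W ≤ G.hom ⁻¹ᵁ U₀ ∧
    ∀ x ∈ U, (η[G] : 𝟙_ (Over S) ⟶ G).left x ∈ W

theorem exists_isUnitOpen (G : Over S) [GrpObj G] (x : S) : ∃ U : S.Opens, x ∈ U ∧ IsUnitOpen G U := by
  let eG := (η[G] : 𝟙_ (Over S) ⟶ G).left
  obtain ⟨U₀, hU₀, hxU₀, -⟩ := exists_isAffineOpen_mem_and_subset (X := S) (x := x) (U := ⊤) trivial
  have hex : eG x ∈ G.hom ⁻¹ᵁ U₀ := by
    show G.hom (eG x) ∈ U₀
    rw [← Scheme.Hom.comp_apply, Over.w (η[G] : 𝟙_ (Over S) ⟶ G)]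
    exact hxU₀
  obtain ⟨W, hW, hxW, hWU⟩ := exists_isAffineOpen_mem_and_subset (X := G.left) (x := eG x) (U := G.hom ⁻¹ᵁ U₀) hex
  exact ⟨U₀ ⊓ eG ⁻¹ᵁ W, ⟨hxU₀, hxW⟩, U₀, W, hU₀, hW, inf_le_left, hWU, fun y hy => hy.2⟩

/-- **Points reduce with uniquely divisible kernel.** -/
theorem isDivExt_redS (G : Over S) [GrpObj G] [Smooth G.hom] {U : S.Opens} (hU : IsUnitOpen G U)
    {C : Type u} [CommRing C] {I : Ideal C} (hI : I ^ 2 = ⊥) {n : ℕ} (hn : IsUnit (n : C))
    (p : Spec (CommRingCat.of C) ⟶ S) (hp : Set.range p ⊆ U) : IsDivExt n (redS G I p) := by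
  obtain ⟨U₀, W, hU₀, hW, hUU₀, hWU₀, hxW⟩ := hU
  let GC := Red.bc p G
  haveI : Smooth GC.hom := MorphismProperty.pullback_snd (P := @Smooth) _ _ inferInstance
  have hηs : (η[GC] : 𝟙_ _ ⟶ GC).left ≫ pullback.fst G.hom p = p ≫ (η[G] : 𝟙_ _ ⟶ G).left := by
    let adj := Over.mapPullbackAdj p
    let z : (Over.map p).obj (𝟙_ (Over (Spec (CommRingCat.of C)))) ⟶ 𝟙_ (Over S) := toUnit _
    have h1 : (1 : 𝟙_ _ ⟶ GC) = adj.homEquiv _ G 1 :=
      (map_one (PowEtCentralLib.adjEquiv p (𝟙_ _) (G := G))).symm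
    rw [MonObj.one_eq_one, h1, Adjunction.homEquiv_unit, Over.comp_left, Category.assoc]
    erw [ActBC.pullback_map_left_fst]
    rw [show (1 : (Over.map p).obj (𝟙_ (Over (Spec (CommRingCat.of C)))) ⟶ G) = z ≫ η[G] by
      rw [MonObj.one_eq_one, MonObj.comp_one], Over.comp_left]
    have hz : z.left = p := by
      have := Over.w z
      simpa using this
    erw [pullback.lift_fst_assoc]
    simp [hz]
  have hV : IsAffineOpen ((pullback.fst G.hom p) ⁻¹ᵁ W) :=
    CentLocus.isAffineOpen_preimage_fst G.hom p hU₀ (eq_top_iff.2 fun x _ => hUU₀ (hp ⟨x, rfl⟩)) hW hWU₀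
  have hmem : ∀ x, (η[GC] : 𝟙_ _ ⟶ GC).left ((𝟙 (Spec (CommRingCat.of C))) ((Spec.map (CommRingCat.ofHom
      (algebraMap C C))) x)) ∈ (pullback.fst G.hom p) ⁻¹ᵁ W := fun x => by
    have h := congrArg (fun h => h.base ((Spec.map (CommRingCat.ofHom (algebraMap C C))) x)) hηs
    show pullback.fst G.hom p _ ∈ W
    exact (show pullback.fst G.hom p ((η[GC] : 𝟙_ _ ⟶ GC).left ((Spec.map (CommRingCat.ofHom (algebraMap C C))) x)) =
      (η[G] : 𝟙_ _ ⟶ G).left (p ((Spec.map (CommRingCat.ofHom (algebraMap C C))) x)) from h) ▸ hxW _ (hp ⟨_, rfl⟩)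
  obtain ⟨V⟩ := TransLift.nonempty_lchart (G := GC) _ hV (Spec.map (CommRingCat.ofHom (algebraMap C C)))
    (𝟙 (Spec (CommRingCat.of C))) (Category.comp_id _).symm hmem
  have hdiv := isDivExt_red V hI hn
  have hid : Spec.map (CommRingCat.ofHom (algebraMap C C)) = 𝟙 (Spec (CommRingCat.of C)) := by
    rw [Algebra.algebraMap_self, CommRingCat.ofHom_id, Spec.map_id]
  let a : (Over.map p).obj (sp C C) ≅ (Over.mk p : Over S) := Over.isoMk (Iso.refl _) (by
    show 𝟙 _ ≫ p = Spec.map (CommRingCat.ofHom (algebraMap C C)) ≫ p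
    rw [hid])
  let a₀ : (Over.map p).obj (sp C (C ⧸ I)) ≅ (Over.mk (Spec.map (CommRingCat.ofHom (Ideal.Quotient.mk I)) ≫ p) : Over S) :=
    Over.isoMk (Iso.refl _) (by
      show 𝟙 _ ≫ _ = Spec.map (CommRingCat.ofHom (algebraMap C (C ⧸ I))) ≫ p
      rw [Category.id_comp]
      rfl)
  refine hdiv.of_mulEquiv ((PowEtCentralLib.adjEquiv p (sp C C) (G := G)).symm.trans (compEquiv G a.symm))
    ((PowEtCentralLib.adjEquiv p (sp C (C ⧸ I)) (G := G)).symm.trans (compEquiv G a₀.symm)) fun x => ?_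
  obtain ⟨y, rfl⟩ := (PowEtCentralLib.adjEquiv p (sp C C) (G := G)).surjective x
  have e : red GC I (PowEtCentralLib.adjEquiv p (sp C C) (G := G) y) =
      PowEtCentralLib.adjEquiv p (sp C (C ⧸ I)) (G := G) ((Over.map p).map (pt (Ideal.Quotient.mkₐ C I)) ≫ y) :=
    (Adjunction.homEquiv_naturality_left (Over.mapPullbackAdj p) _ y).symm
  simp only [MulEquiv.trans_apply, e]
  erw [MulEquiv.symm_apply_apply, MulEquiv.symm_apply_apply]
  show redPt I p ≫ a.inv ≫ y = a₀.inv ≫ (Over.map p).map (pt (Ideal.Quotient.mkₐ C I)) ≫ y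
  rw [← Category.assoc, ← Category.assoc a₀.inv]
  congr 1

end Groth.Agent.TorsTuple
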