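import Groth.Agent.TorsTupleLib.Uniform
import Mathlib.Analysis.Complex.Polynomial.Basic
import Mathlib.RingTheory.RootsOfUnity.Complex
import Mathlib.RingTheory.IntegralClosure.IntegralRestrict
import Mathlib.AlgebraicGeometry.Morphisms.FlatDescent

/-!
An affine flat covering carrying a coherent system of roots of unity.
-/

set_option autoImplicit false
set_option linter.style.haveILetI false
set_option backward.isDefEq.respectTransparency false
set_option maxHeartbeats 1000000
set_option synthInstance.maxHeartbeats 400000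

noncomputable section

universe u

open CategoryTheory CategoryTheory.Limits AlgebraicGeometry Complex

namespace Groth.Agent.TorsTuple

/-- Pullback of a root system. -/
def RootSystem.map {S S' : Scheme.{u}} {ℓ : ℕ} (R : RootSystem S ℓ) (f : S' ⟶ S) : RootSystem S' ℓ where
  ζ m := Units.map f.appTop.hom.toMonoidHom (R.ζ m)
  isUnit := by simpa using R.isUnit.map f.appTop.hom
  one_lt := R.one_lt
  pow_eq_one m := by rw [← map_pow, R.pow_eq_one, map_one]
  pow_succ m := by rw [← map_pow, R.pow_succ]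
  primitive K _ x m := by
    have h := R.primitive K (x ≫ f) m
    simpa using h

/-- The roots of unity of `ℓ`-power order among the complex numbers. -/
def cRoot (ℓ m : ℕ) : ℂ := exp (2 * Real.pi * I / (ℓ ^ m : ℕ))

theorem cRoot_primitive {ℓ : ℕ} (hℓ : 1 < ℓ) (m : ℕ) : IsPrimitiveRoot (cRoot ℓ m) (ℓ ^ m) :=
  Complex.isPrimitiveRoot_exp _ (pow_ne_zero _ (by omega))

theorem cRoot_succ {ℓ : ℕ} (hℓ : 1 < ℓ) (m : ℕ) : cRoot ℓ (m + 1) ^ ℓ = cRoot ℓ m := by
  have : (ℓ : ℂ) ≠ 0 := Nat.cast_ne_zero.2 (by omega)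
  rw [cRoot, cRoot, ← Complex.exp_nat_mul]
  congr 1
  push_cast
  field_simp
  ring

/-- The algebraic integers, in the universe. -/
abbrev AInt : Type u := ULift.{u} (integralClosure ℤ ℂ)

/-- **An affine faithfully flat covering with a root system.** -/
theorem exists_rootCover {U : Scheme.{u}} [IsAffine U] {ℓ : ℕ} (hℓ : 1 < ℓ) (hu : IsUnit (ℓ : Γ(U, ⊤))) :
    ∃ (U' : Scheme.{u}) (q : U' ⟶ U), IsAffine U' ∧ Flat q ∧ Surjective q ∧ QuasiCompact q ∧
      Nonempty (RootSystem U' ℓ) := by
  let Z := Spec (CommRingCat.of (ULift.{u} ℤ))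
  let φ : ULift.{u} ℤ →+* AInt.{u} :=
    (ULift.ringEquiv.symm.toRingHom.comp (algebraMap ℤ (integralClosure ℤ ℂ))).comp ULift.ringEquiv.toRingHom
  let e₀ : ULift.{u} ℤ →+* ℤ := ULift.ringEquiv.toRingHom
  let e₁ : integralClosure ℤ ℂ →+* AInt.{u} := ULift.ringEquiv.symm.toRingHom
  have he₀ : Function.Bijective e₀ := ULift.ringEquiv.bijective
  have he₁ : Function.Bijective e₁ := (ULift.ringEquiv (R := integralClosure ℤ ℂ)).symm.bijective
  have hflat : φ.Flat := by
    have h1 : (algebraMap ℤ (integralClosure ℤ ℂ)).Flat := by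
      rw [RingHom.flat_algebraMap_iff]
      infer_instance
    exact (RingHom.Flat.of_bijective he₀).comp (h1.comp (RingHom.Flat.of_bijective he₁))
  have hint : φ.IsIntegral := by
    have h1 : (algebraMap ℤ (integralClosure ℤ ℂ)).IsIntegral := fun x =>
      (isIntegral_algHom_iff (integralClosure ℤ ℂ).val Subtype.val_injective).1 x.2
    exact RingHom.IsIntegral.trans e₀ (e₁.comp (algebraMap ℤ _)) (e₀.isIntegral_of_surjective he₀.2)
      (RingHom.IsIntegral.trans (algebraMap ℤ _) e₁ h1 (e₁.isIntegral_of_surjective he₁.2))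
  have hinj : Function.Injective φ := fun a b h => by
    have := congrArg (fun x : AInt.{u} => (x.down : ℂ)) h
    simp [φ] at this
    exact this
  let a : Spec (CommRingCat.of AInt.{u}) ⟶ Z := Spec.map (CommRingCat.ofHom φ)
  haveI : Flat a := (HasRingHomProperty.Spec_iff (P := @Flat)).2 hflat
  haveI : Surjective a := ⟨fun p => hint.comap_surjective hinj p⟩
  let U' := pullback (specULiftZIsTerminal.from U) a
  let q : U' ⟶ U := pullback.fst _ _
  let ρ : U' ⟶ Spec (CommRingCat.of AInt.{u}) := pullback.snd _ _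
  let ν : AInt.{u} →+* Γ(U', ⊤) := ((Scheme.ΓSpecIso (CommRingCat.of AInt.{u})).inv ≫ ρ.appTop).hom
  have hmem : ∀ m, cRoot ℓ m ∈ integralClosure ℤ ℂ := fun m =>
    (cRoot_primitive hℓ m).isIntegral (pow_pos (by omega) m)
  let z : ℕ → AInt.{u} := fun m => ULift.up ⟨cRoot ℓ m, hmem m⟩
  have hz : ∀ m, z m ^ (ℓ ^ m) = 1 := fun m => ULift.ext _ _ (Subtype.ext (cRoot_primitive hℓ m).pow_eq_one)
  let zu : ℕ → (AInt.{u})ˣ := fun m =>
    Units.ofPowEqOne (z m) (ℓ ^ m) (hz m) (pow_ne_zero _ (by omega))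
  refine ⟨U', q, inferInstance, MorphismProperty.pullback_fst (P := @Flat) _ _ inferInstance,
    MorphismProperty.pullback_fst (P := @Surjective) _ _ inferInstance,
    MorphismProperty.pullback_fst (P := @QuasiCompact) _ _ inferInstance, ⟨{
      ζ := fun m => Units.map ν.toMonoidHom (zu m)
      isUnit := by simpa using hu.map q.appTop.hom
      one_lt := hℓ
      pow_eq_one := fun m => by
        rw [← map_pow, show zu m ^ (ℓ ^ m) = 1 from Units.ext (by simp [zu, hz m]), map_one]
      pow_succ := fun m => by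
        rw [← map_pow]
        congr 1
        refine Units.ext (ULift.ext _ _ (Subtype.ext ?_))
        simpa [zu, z] using cRoot_succ hℓ m
      primitive := fun K _ x m => ?_ }⟩⟩
  let ψ : AInt.{u} →+* K := ((Scheme.ΓSpecIso (CommRingCat.of K)).hom.hom).comp (x.appTop.hom.comp ν)
  show IsPrimitiveRoot (ψ (z m)) (ℓ ^ m)
  have hne : NeZero ((ℓ ^ m : ℕ) : K) := by
    constructor
    have h := (hu.map ((Scheme.ΓSpecIso (CommRingCat.of K)).hom.hom.comp (x ≫ q).appTop.hom))
    rw [map_natCast] at h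
    rw [Nat.cast_pow]
    exact pow_ne_zero _ h.ne_zero
  haveI := hne
  haveI : NeZero ((ℓ ^ m : ℕ) : integralClosure ℤ ℂ) := ⟨Nat.cast_ne_zero.2 (pow_ne_zero _ (by omega))⟩
  have hroot : (Polynomial.cyclotomic (ℓ ^ m) (integralClosure ℤ ℂ)).IsRoot ⟨cRoot ℓ m, hmem m⟩ :=
    Polynomial.isRoot_cyclotomic_iff.2 (IsPrimitiveRoot.of_map_of_injective (f := (integralClosure ℤ ℂ).val)
      (cRoot_primitive hℓ m) Subtype.val_injective)
  have h2 := hroot.map (f := ψ.comp ULift.ringEquiv.symm.toRingHom)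
  rw [Polynomial.map_cyclotomic] at h2
  exact Polynomial.isRoot_cyclotomic_iff.1 h2

end Groth.Agent.TorsTuple
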