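import Groth.Agent.TorsTupleLib.CartanOpen
import Groth.Agent.TorsTupleLib.Cover

/-!
Maximal tori of smooth subgroups containing Cartan subgroups.
-/

set_option autoImplicit false
set_option linter.style.haveILetI false
set_option linter.unusedSectionVars false
set_option backward.isDefEq.respectTransparency false
set_option maxHeartbeats 2000000
set_option synthInstance.maxHeartbeats 400000

noncomputable section

universe u

open CategoryTheory CategoryTheory.Limits MonoidalCategory CartesianMonoidalCategory AlgebraicGeometry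
open scoped MonObj

attribute [-instance] CategoryTheory.Hom.commGroup

namespace Groth.Agent.TorsTuple

open Groth.Agent.BorelLib

variable {S : Scheme.{u}}

/-- A torus of a subgroup which is maximal in the group is maximal in the subgroup. -/
theorem isMaximalTorus_of_comp {G H T : Over S} [GrpObj G] [GrpObj H] [GrpObj T] (j : T ⟶ H) [IsMonHom j] [Mono j]
    (i : H ⟶ G) [IsMonHom i] [Mono i] (h : Red.IsMaximalTorus (j ≫ i)) : Red.IsMaximalTorus j := by
  obtain ⟨-, -, hT, hmax⟩ := h
  refine ⟨inferInstance, inferInstance, hT, fun s R _ J _ _ g hR hg => ?_⟩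
  haveI := DiagRep.isMonHom_bc_map (Red.geomPt s) i
  haveI := mono_bc (Red.geomPt s) i
  exact hmax s R (J ≫ (Over.pullback (Red.geomPt s)).map i) g hR (by rw [← Category.assoc, hg, Functor.map_comp])

/-- An isomorphism on the geometric fibre at a point is one at every geometric point above it. -/
theorem isIso_point_iff {X Y : Over S} (f : X ⟶ Y) {K : Type u} [Field K] [IsAlgClosed K]
    (ξ : Spec (CommRingCat.of K) ⟶ S) (t : S) (h : ξ (IsLocalRing.closedPoint K) = t) :
    IsIso ((Over.pullback ξ).map f) ↔ IsIso ((Over.pullback (Red.geomPt t)).map f) := by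
  obtain ⟨l, hl⟩ := _root_.MaxTorusRank.exists_lift_geomPt ξ t h
  let eX := ActBC.bcCompIso l (Red.geomPt t) X hl
  let eY := ActBC.bcCompIso l (Red.geomPt t) Y hl
  have e : (Over.pullback l).map ((Over.pullback (Red.geomPt t)).map f) ≫ eY.hom = eX.hom ≫ (Over.pullback ξ).map f :=
    ActBC.bcCompIso_hom_naturality _ _ _ _
  constructor
  · intro hi
    haveI : IsIso ((Over.pullback l).map ((Over.pullback (Red.geomPt t)).map f) ≫ eY.hom) := by rw [e]; infer_instance
    haveI : IsIso ((Over.pullback l).map ((Over.pullback (Red.geomPt t)).map f)) := IsIso.of_isIso_comp_right _ eY.hom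
    exact MaxTorConj.isIso_of_isIso_bc l ((Over.pullback (Red.geomPt t)).map f)
  · intro hi
    haveI : IsIso (eX.hom ≫ (Over.pullback ξ).map f) := by rw [← e]; infer_instance
    exact IsIso.of_isIso_comp_left eX.hom _

variable {G H : Over S} [GrpObj G] [GrpObj H]

/-- **Above a piece, a subgroup containing Cartan subgroups has a split maximal torus.** -/
theorem exists_sub_torus_local [IsAffine S] [Smooth G.hom] [IsSeparated G.hom] [QuasiCompact G.hom] [Smooth H.hom]
    [QuasiCompact H.hom] (i : H ⟶ G) [IsMonHom i] [Mono i]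
    (hGc : ∀ (K : Type u) [Field K] [IsAlgClosed K] (ξ : Spec (CommRingCat.of K) ⟶ S), ConnectedSpace (Red.bc ξ G).left)
    (hH : ∀ (K : Type u) [Field K] [IsAlgClosed K] (ξ : Spec (CommRingCat.of K) ⟶ S),
      ∃ (T' : Over (Spec (CommRingCat.of K))) (_ : GrpObj T') (i' : T' ⟶ Red.bc ξ G), Red.IsMaximalTorus i' ∧
        ∀ (X : Over (Spec (CommRingCat.of K))) (g : X ⟶ Red.bc ξ G),
          (∀ (X' : Over (Spec (CommRingCat.of K))) (x : X' ⟶ X) (t : X' ⟶ T'),
            (x ≫ g) * (t ≫ i') = (t ≫ i') * (x ≫ g)) → ∃ y, y ≫ (Over.pullback ξ).map i = g)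
    {ℓ r : ℕ} (R : RootSystem S ℓ) (v : Red.DS S (Fin r → ℤ) ⟶ G) (hv : Red.IsMaximalTorus v) :
    ∃ (P : Scheme.{u}) (f : P ⟶ S) (vH : Red.DS P (Fin r → ℤ) ⟶ Red.bc f H),
      Smooth f ∧ Surjective f ∧ Red.IsMaximalTorus vH := by
  obtain ⟨n, P, f, v', β', w, hn, hfs, hv', hgood, htors, hw, hpts⟩ := exists_tuple_cover (c := i) R v hv
  haveI := hfs; haveI := hv'.1; haveI := hv'.2.1
  haveI : Smooth (Red.bc f G).hom := MorphismProperty.pullback_snd (P := @Smooth) _ _ inferInstance
  haveI : IsSeparated (Red.bc f G).hom := inferInstanceAs (IsSeparated (pullback.snd G.hom f))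
  haveI : QuasiCompact (Red.bc f G).hom := MorphismProperty.pullback_snd (P := @QuasiCompact) _ _ inferInstance
  haveI : Smooth (Red.bc f H).hom := MorphismProperty.pullback_snd (P := @Smooth) _ _ inferInstance
  haveI : QuasiCompact (Red.bc f H).hom := MorphismProperty.pullback_snd (P := @QuasiCompact) _ _ inferInstance
  let iP : Red.bc f H ⟶ Red.bc f G := (Over.pullback f).map i
  haveI : IsMonHom iP := DiagRep.isMonHom_bc_map f i
  haveI : Mono iP := mono_bc f i
  haveI : Mono iP.left := inferInstanceAs (Mono ((Over.forget P).map iP))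
  haveI : IsSeparated (Red.bc f H).hom := by rw [← Over.w iP]; infer_instance
  have htc : IsTors n w := isTors_of_map (compHom iP _) (fun a b h => (cancel_mono iP).1 h) (by
    have e : (fun k => compHom iP _ (w k)) = fun k => β' k ≫ v' := funext hw
    rw [e]; exact htors)
  obtain ⟨Z, z, hzc, hzs, hz⟩ := exists_tupleCentralizer hn htc
  haveI := hzc; haveI := hzs
  haveI : Mono z := Over.mono_of_mono_left z
  obtain ⟨hZg, hzm⟩ := exists_grpObj_centralizer z hz
  letI := hZg; haveI := hzm
  haveI : QuasiCompact Z.hom := by rw [← Over.w z]; infer_instance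
  obtain ⟨CT, _, cT, hcT, hcl, hcart, t₀, ht₀, -⟩ := S4118.result P (Red.bc f G) _ v' hv'
  haveI := hcT.1; haveI := hcT.2.1; haveI := hcl; haveI := hcart.2.2.1
  haveI : QuasiCompact CT.hom := by rw [← Over.w cT]; infer_instance
  obtain ⟨m, hm⟩ := (hcT.2.2 Z (z ≫ iP)).2 fun X x t => (hgood X (x ≫ z ≫ iP) (fun k => by
    have e := congrArg (· ≫ iP) ((hz (x ≫ z)).1 ⟨x, rfl⟩ k)
    simp only [MonObj.mul_comp, Category.assoc, iP, hw] at e
    exact e) t).eq
  haveI : IsMonHom (m ≫ cT) := by rw [hm]; infer_instance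
  haveI : IsMonHom m := DiagRep.isMonHom_of_comp_mono m cT
  haveI : Mono (m ≫ cT) := by rw [hm]; infer_instance
  haveI : Mono m := mono_of_mono m cT
  have hCTc : ∀ t : P, ConnectedSpace ↥(Red.geomFibre t CT).left := fun t => by
    haveI : ConnectedSpace (Red.geomFibre t (Red.bc f G)).left := by
      haveI := hGc _ (Red.geomPt t ≫ f)
      let e : Red.bc (Red.geomPt t) (Red.bc f G) ≅ Red.bc (Red.geomPt t ≫ f) G :=
        ActBC.bcCompIso (Red.geomPt t) f G rfl
      haveI : IsIso e.inv.left := ((Over.forget _).mapIso e).isIso_inv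
      exact (Scheme.Hom.surjective e.inv.left).connectedSpace e.inv.left.continuous
    haveI : Smooth (Red.geomFibre t (Red.bc f G)).hom := MorphismProperty.pullback_snd (P := @Smooth) _ _ inferInstance
    haveI : QuasiCompact (Red.geomFibre t (Red.bc f G)).hom :=
      MorphismProperty.pullback_snd (P := @QuasiCompact) _ _ inferInstance
    exact (NA.cartan_props (hcart.2.2.2 t)).2.2.2
  let E : Set P := {t | IsIso ((Over.pullback (Red.geomPt t)).map m)}
  let U : P.Opens := ⟨interior E, isOpen_interior⟩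
  have hsurj : ∀ s : S, ∃ y ∈ U, f y = s := fun s => by
    let ξ := Red.geomPt s
    haveI : Smooth (Red.bc ξ G).hom := MorphismProperty.pullback_snd (P := @Smooth) _ _ inferInstance
    haveI : QuasiCompact (Red.bc ξ G).hom := MorphismProperty.pullback_snd (P := @QuasiCompact) _ _ inferInstance
    obtain ⟨T', _, i', hi', hfac⟩ := hH _ ξ
    haveI := hi'.1
    obtain ⟨x, hx, ha⟩ := hpts _ ξ T' i' hi' (hfac T' i' fun X' x t => by
      rw [← MonObj.mul_comp, ← MonObj.mul_comp, (commute_torus hi'.2.2.1 x t).eq])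
    refine ⟨x (IsLocalRing.closedPoint _), ?_, by rw [← Scheme.Hom.comp_apply, hx]; exact RedRank.geomPt_apply s⟩
    let F := Over.pullback x
    let GK := Red.bc x (Red.bc f G)
    haveI : Smooth GK.hom := MorphismProperty.pullback_snd (P := @Smooth) _ _ inferInstance
    haveI : QuasiCompact GK.hom := MorphismProperty.pullback_snd (P := @QuasiCompact) _ _ inferInstance
    haveI : IsSeparated GK.hom := inferInstanceAs (IsSeparated (pullback.snd (Red.bc f G).hom x))
    let eG : GK ≅ Red.bc ξ G := ActBC.bcCompIso x f G hx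
    haveI : IsMonHom eG.hom := ActBC.bcCompIso_isMonHom _ _ _
    haveI : IsMonHom eG.symm.hom := inferInstanceAs (IsMonHom eG.inv)
    have hvx := MaxTorConj.isMaximalTorus_bc hv' x
    have hTx := MaxTorConj.isMaximalTorus_iso eG.symm hi'
    haveI := hvx.1; haveI := hvx.2.1; haveI := hTx.1; haveI := hTx.2.1
    have hTT : ∀ (X : Over _) (t : X ⟶ Red.bc x (Red.DS P (Fin r → ℤ))) (t' : X ⟶ T'),
        (t ≫ F.map v') * (t' ≫ i' ≫ eG.symm.hom) = (t' ≫ i' ≫ eG.symm.hom) * (t ≫ F.map v') := fun X t t' =>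
      (good_bc hgood x X _ (fun k => by
        obtain ⟨a, ha'⟩ := ha k
        have e : bcTuple x (fun k => β' k ≫ v') k = a ≫ i' ≫ eG.symm.hom := by
          rw [← Category.assoc, ha', Iso.symm_hom, Category.assoc, Iso.hom_inv_id, Category.comp_id]
        rw [e, ← Category.assoc (toUnit X)]
        show (t' ≫ i' ≫ eG.symm.hom) * ((toUnit X ≫ a) ≫ i' ≫ eG.symm.hom) = _ * (t' ≫ i' ≫ eG.symm.hom)
        rw [← MonObj.mul_comp, ← MonObj.mul_comp, (commute_torus hi'.2.2.1 t' (toUnit X ≫ a)).eq]) t).eq.symm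
    obtain ⟨q, hq⟩ := S4120.result _ GK _ T' (F.map v') (i' ≫ eG.symm.hom) hvx hTx.2.2.1 hTT
    have hcx := BorelLib.isCentralizerOf_bc x hcT
    haveI := hcx.2.1
    let eH : Red.bc x (Red.bc f H) ≅ Red.bc ξ H := ActBC.bcCompIso x f H hx
    obtain ⟨y, hy⟩ := hfac _ (F.map cT ≫ eG.hom) fun X' x' t => by
      have e := congrArg (· ≫ eG.hom) ((hcx.2.2 _ (F.map cT)).1 ⟨𝟙 _, Category.id_comp _⟩ X' x' (t ≫ q))
      simp only [MonObj.mul_comp, Category.assoc] at e
      rw [reassoc_of% hq, Iso.symm_hom, Iso.inv_hom_id, Category.comp_id] at e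
      exact e
    have hy' : (y ≫ eH.inv) ≫ F.map iP = F.map cT := by
      rw [← cancel_mono eG.hom, Category.assoc, Category.assoc, ActBC.bcCompIso_hom_naturality x f hx i,
        Iso.inv_hom_id_assoc, hy]
    let A := (Over.mapPullbackAdj x).homEquiv
    obtain ⟨y₀, hy₀⟩ : ∃ y₀ : (Over.map x).obj (Red.bc x CT) ⟶ Red.bc f H, A _ (Red.bc f H) y₀ = y ≫ eH.inv :=
      ⟨_, Equiv.apply_symm_apply _ _⟩
    obtain ⟨h, hh⟩ := (hz y₀).2 fun k => by
      have e : Commute (A _ (Red.bc f H) y₀ ≫ F.map iP) (A _ _ (toUnit _ ≫ β' k) ≫ F.map v') := by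
        rw [hy₀, hy']
        have := commutes_of_centralizer hcx _ (𝟙 _) (A _ _ (toUnit _ ≫ β' k))
        rwa [Category.id_comp] at this
      rw [← Adjunction.homEquiv_naturality_right, ← Adjunction.homEquiv_naturality_right] at e
      have e' : Commute (y₀ ≫ iP) ((toUnit _ ≫ β' k) ≫ v') :=
        Commute.of_map (PowEtCentralLib.adjEquiv x (Red.bc x CT) (G := Red.bc f G)).injective e
      rw [← cancel_mono iP, MonObj.mul_comp, MonObj.mul_comp, Category.assoc, hw, ← Category.assoc]
      exact e'.eq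
    haveI : Mono (F.map m) := mono_bc x m
    have e₁ : A _ Z h ≫ F.map m = 𝟙 _ := by
      rw [← cancel_mono (F.map cT), Category.assoc, ← F.map_comp, hm, ← Adjunction.homEquiv_naturality_right,
        ← Category.assoc h, hh, Adjunction.homEquiv_naturality_right, hy₀, hy', Category.id_comp]
    haveI : IsIso (F.map m) :=
      ⟨A _ Z h, by rw [← cancel_mono (F.map m), Category.assoc, e₁, Category.id_comp, Category.comp_id], e₁⟩
    obtain ⟨V, hxV, hV⟩ := exists_nhd_isIso m hCTc (x (IsLocalRing.closedPoint _))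
      ((isIso_point_iff m x _ rfl).1 inferInstance)
    exact interior_maximal (t := (V : Set P)) (fun t ht => hV t ht) V.isOpen hxV
  let mU := (Over.pullback U.ι).map m
  haveI : Mono mU := mono_bc U.ι m
  haveI : IsIso mU := by
    haveI : Smooth (Red.bc U.ι Z).hom := MorphismProperty.pullback_snd (P := @Smooth) _ _ inferInstance
    haveI : Smooth (Red.bc U.ι CT).hom := MorphismProperty.pullback_snd (P := @Smooth) _ _ inferInstance
    refine isIso_of_mono_geom mU fun K _ _ ξ => ?_
    let eZ := ActBC.bcCompIso ξ U.ι Z rfl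
    let eC := ActBC.bcCompIso ξ U.ι CT rfl
    haveI : IsIso ((Over.pullback (ξ ≫ U.ι)).map m) :=
      (isIso_point_iff m (ξ ≫ U.ι) _ (Scheme.Hom.comp_apply _ _ _)).2
        (interior_subset (s := E) (ξ (IsLocalRing.closedPoint K)).2)
    have e : (Over.pullback ξ).map mU ≫ eC.hom = eZ.hom ≫ (Over.pullback (ξ ≫ U.ι)).map m :=
      ActBC.bcCompIso_hom_naturality _ _ _ _
    haveI : IsIso ((Over.pullback ξ).map mU ≫ eC.hom) := by rw [e]; infer_instance
    exact IsIso.of_isIso_comp_right _ eC.hom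
  let F := Over.pullback U.ι
  haveI : Smooth (Red.bc U.ι (Red.bc f G)).hom := MorphismProperty.pullback_snd (P := @Smooth) _ _ inferInstance
  haveI : QuasiCompact (Red.bc U.ι (Red.bc f G)).hom := MorphismProperty.pullback_snd (P := @QuasiCompact) _ _ inferInstance
  haveI := DiagRep.isMonHom_bc_map U.ι iP
  haveI := mono_bc U.ι iP
  have hvU := MaxTorConj.isMaximalTorus_bc hv' U.ι
  haveI := hvU.1; haveI := hvU.2.1
  let vH := F.map t₀ ≫ inv mU ≫ F.map z
  have hvH : vH ≫ F.map iP = F.map v' := by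
    show (F.map t₀ ≫ inv mU ≫ F.map z) ≫ F.map iP = _
    rw [Category.assoc, Category.assoc, ← F.map_comp, ← hm, F.map_comp, IsIso.inv_hom_id_assoc, ← F.map_comp, ht₀]
  haveI : IsMonHom (vH ≫ F.map iP) := by rw [hvH]; infer_instance
  haveI : Mono (vH ≫ F.map iP) := by rw [hvH]; infer_instance
  haveI : IsMonHom vH := DiagRep.isMonHom_of_comp_mono vH (F.map iP)
  haveI : Mono vH := mono_of_mono vH (F.map iP)
  have hmax : Red.IsMaximalTorus vH := isMaximalTorus_of_comp vH (F.map iP) (by rw [hvH]; exact hvU)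
  let θ : Red.DS (U : Scheme.{u}) (Fin r → ℤ) ≅ Red.bc U.ι (Red.DS P (Fin r → ℤ)) := (dsIso U.ι _).symm
  haveI : IsMonHom (dsIso (S := P) U.ι (Fin r → ℤ)).hom := ActBC.bcCompIso_isMonHom _ _ _
  haveI : IsMonHom θ.hom := inferInstanceAs (IsMonHom (dsIso U.ι _).inv)
  let e : Red.bc U.ι (Red.bc f H) ≅ Red.bc (U.ι ≫ f) H := ActBC.bcCompIso U.ι f H rfl
  haveI : IsMonHom e.hom := ActBC.bcCompIso_isMonHom _ _ _
  refine ⟨U, U.ι ≫ f, (θ.hom ≫ vH) ≫ e.hom, inferInstance, ⟨fun s => ?_⟩,
    MaxTorConj.isMaximalTorus_iso e (isMaximalTorus_precomp θ hmax)⟩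
  obtain ⟨y, hy, hfy⟩ := hsurj s
  exact ⟨⟨y, hy⟩, hfy⟩

end Groth.Agent.TorsTuple
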