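import Groth.Agent.TorsTupleLib.Points
import Groth.Agent.TorsTupleLib.SmoothCrit
import Groth.Agent.BorelLib.ImageField

/-!
The scheme of commuting torsion tuples of a smooth group and conjugation orbits in it.
-/

set_option autoImplicit false
set_option linter.style.haveILetI false
set_option linter.unusedSectionVars false
set_option backward.isDefEq.respectTransparency false
set_option maxHeartbeats 1000000
set_option synthInstance.maxHeartbeats 400000

noncomputable section

universe u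

open CategoryTheory CategoryTheory.Limits MonoidalCategory CartesianMonoidalCategory AlgebraicGeometry
open scoped MonObj

namespace Groth.Agent.TorsTuple

variable {S : Scheme.{u}}

/-- A finite power, with its projections. -/
structure Power (G : Over S) (r : ℕ) where
  /-- the underlying object -/
  obj : Over S
  /-- the projections -/
  π : Fin r → (obj ⟶ G)
  ext : ∀ {X : Over S} (f g : X ⟶ obj), (∀ i, f ≫ π i = g ≫ π i) → f = g
  exists_lift : ∀ {X : Over S} (f : Fin r → (X ⟶ G)), ∃ h : X ⟶ obj, ∀ i, h ≫ π i = f i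
  smooth : Smooth G.hom → Smooth obj.hom
  sep : IsSeparated G.hom → IsSeparated obj.hom
  qc : QuasiCompact G.hom → QuasiCompact obj.hom

theorem nonempty_power (G : Over S) : ∀ r : ℕ, Nonempty (Power G r)
  | 0 => ⟨{
      obj := 𝟙_ (Over S)
      π := Fin.elim0
      ext := fun _ _ _ => toUnit_unique _ _
      exists_lift := fun _ => ⟨toUnit _, fun i => i.elim0⟩
      smooth := fun _ => inferInstanceAs (Smooth (𝟙 S))
      sep := fun _ => inferInstanceAs (IsSeparated (𝟙 S))
      qc := fun _ => inferInstanceAs (QuasiCompact (𝟙 S)) }⟩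
  | r + 1 => by
    obtain ⟨P⟩ := nonempty_power G r
    refine ⟨{ obj := G ⊗ P.obj, π := Fin.cons (fst _ _) fun i => snd _ _ ≫ P.π i, ext := fun f g h => ?_,
              exists_lift := fun f => ?_, smooth := fun hG => ?_, sep := fun hG => ?_, qc := fun hG => ?_ }⟩
    · refine CartesianMonoidalCategory.hom_ext _ _ (by simpa using h 0) (P.ext _ _ fun i => ?_)
      simpa using h i.succ
    · obtain ⟨k, hk⟩ := P.exists_lift fun i => f i.succ
      refine ⟨lift (f 0) k, fun i => ?_⟩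
      induction i using Fin.cases with
      | zero => simp
      | succ i => simp [hk]
    · haveI := hG; haveI := P.smooth hG
      exact inferInstanceAs (Smooth (pullback.fst G.hom P.obj.hom ≫ G.hom))
    · haveI := hG; haveI := P.sep hG
      exact inferInstanceAs (IsSeparated (pullback.fst G.hom P.obj.hom ≫ G.hom))
    · haveI := hG; haveI := P.qc hG
      exact inferInstanceAs (QuasiCompact (pullback.fst G.hom P.obj.hom ≫ G.hom))

/-- Finitely many conditions of factorisation cut out a closed subscheme. -/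
theorem exists_closed_locus {P₀ : Over S} : ∀ {m : ℕ} {Y Z : Fin m → Over S} (j : ∀ k, Y k ⟶ Z k)
    (_ : ∀ k, IsClosedImmersion (j k).left) (_ : ∀ k, LocallyOfFinitePresentation (j k).left)
    (f : ∀ k, P₀ ⟶ Z k),
    ∃ (P : Over S) (i : P ⟶ P₀), IsClosedImmersion i.left ∧ LocallyOfFinitePresentation i.left ∧
      ∀ {X : Over S} (g : X ⟶ P₀), (∃ h, h ≫ i = g) ↔ ∀ k, ∃ y, y ≫ j k = g ≫ f k
  | 0, _, _, _, _, _, _ => ⟨P₀, 𝟙 _, inferInstanceAs (IsClosedImmersion (𝟙 P₀.left)),
      inferInstanceAs (LocallyOfFinitePresentation (𝟙 P₀.left)), fun g => ⟨fun _ k => k.elim0, fun _ => ⟨g, Category.comp_id _⟩⟩⟩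
  | m + 1, Y, Z, j, hc, hl, f => by
    obtain ⟨P₁, i₁, hi₁, hi₁', hspec⟩ := exists_closed_locus (P₀ := P₀) (fun k => j k.succ) (fun k => hc _)
      (fun k => hl _) fun k => f k.succ
    haveI := hi₁; haveI := hi₁'; haveI := hc 0; haveI := hl 0
    have sq : IsPullback (pullback.fst (i₁ ≫ f 0) (j 0)).left (pullback.snd (i₁ ≫ f 0) (j 0)).left
        (i₁ ≫ f 0).left (j 0).left := (IsPullback.of_hasPullback (i₁ ≫ f 0) (j 0)).map (Over.forget S)
    haveI : IsClosedImmersion (pullback.fst (i₁ ≫ f 0) (j 0)).left :=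
      MorphismProperty.of_isPullback (P := @IsClosedImmersion) sq.flip ‹_›
    haveI : LocallyOfFinitePresentation (pullback.fst (i₁ ≫ f 0) (j 0)).left :=
      MorphismProperty.of_isPullback (P := @LocallyOfFinitePresentation) sq.flip ‹_›
    refine ⟨pullback (i₁ ≫ f 0) (j 0), pullback.fst _ _ ≫ i₁, by rw [Over.comp_left]; infer_instance,
      by rw [Over.comp_left]; infer_instance, fun {X} g => ⟨?_, fun hg => ?_⟩⟩
    · rintro ⟨h, rfl⟩ k
      induction k using Fin.cases with
      | zero => exact ⟨h ≫ pullback.snd _ _, by simp only [Category.assoc, pullback.condition]⟩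
      | succ k => simpa only [Category.assoc] using (hspec (h ≫ pullback.fst _ _ ≫ i₁)).1 ⟨h ≫ pullback.fst _ _, Category.assoc _ _ _⟩ k
    · obtain ⟨h, hh⟩ := (hspec g).2 fun k => hg k.succ
      obtain ⟨y, hy⟩ := hg 0
      exact ⟨pullback.lift h y (by rw [← Category.assoc, hh, hy]), by rw [pullback.lift_fst_assoc, hh]⟩

variable (G : Over S) [GrpObj G]

/-- The scheme of commuting `n`-torsion `r`-tuples. -/
structure TupleScheme (n r : ℕ) where
  /-- the underlying object -/
  obj : Over S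
  /-- the universal tuple -/
  univ : Fin r → (obj ⟶ G)
  isTors : IsTors n univ
  exists_lift : ∀ {X : Over S} (y : Fin r → (X ⟶ G)), IsTors n y → ∃ h : X ⟶ obj, ∀ i, h ≫ univ i = y i
  ext : ∀ {X : Over S} (f g : X ⟶ obj), (∀ i, f ≫ univ i = g ≫ univ i) → f = g
  lfp : LocallyOfFinitePresentation obj.hom
  sep : IsSeparated obj.hom
  qc : QuasiCompact G.hom → QuasiCompact obj.hom

theorem nonempty_tupleScheme [Smooth G.hom] [IsSeparated G.hom] (n r : ℕ) :
    Nonempty (TupleScheme G n r) := by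
  obtain ⟨W⟩ := nonempty_power G r
  haveI := W.smooth inferInstance; haveI := W.sep inferInstance
  let e : Fin (r * r + r) ≃ (Fin r × Fin r) ⊕ Fin r := finSumFinEquiv.symm.trans (finProdFinEquiv.symm.sumCongr (Equiv.refl _))
  let η₀ : 𝟙_ (Over S) ⟶ G := η[G]
  haveI : IsClosedImmersion η₀.left := by
    haveI : IsClosedImmersion (η₀.left ≫ G.hom) := by rw [Over.w η₀]; exact inferInstanceAs (IsClosedImmersion (𝟙 S))
    exact IsClosedImmersion.of_comp η₀.left G.hom
  haveI : LocallyOfFinitePresentation η₀.left := by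
    haveI : LocallyOfFinitePresentation (η₀.left ≫ G.hom) := by
      rw [Over.w η₀]; exact inferInstanceAs (LocallyOfFinitePresentation (𝟙 S))
    exact AlgSpLib.lfp_of_comp_lft η₀.left G.hom
  let f : (Fin r × Fin r) ⊕ Fin r → (W.obj ⟶ G) :=
    Sum.elim (fun ij => W.π ij.1 * W.π ij.2 * (W.π ij.2 * W.π ij.1)⁻¹) fun i => W.π i ^ n
  obtain ⟨Q, jQ, hjc, hjl, hQ⟩ := exists_closed_locus (fun _ : Fin (r * r + r) => η₀) (fun _ => inferInstance)
    (fun _ => inferInstance) fun k => f (e k)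
  haveI := hjc; haveI := hjl
  haveI : Mono jQ := Over.mono_of_mono_left jQ
  have hiff : ∀ {X : Over S} (g : X ⟶ W.obj), (∃ h, h ≫ jQ = g) ↔ IsTors n fun i => g ≫ W.π i := by
    intro X g
    have hη : η₀ = 1 := MonObj.one_eq_one G
    have h1 : ∀ a : X ⟶ G, (∃ y, y ≫ η₀ = a) ↔ a = 1 := fun a =>
      ⟨fun ⟨y, hy⟩ => by rw [← hy, hη, MonObj.comp_one], fun h => ⟨toUnit _, by rw [h, hη, MonObj.comp_one]⟩⟩
    rw [hQ]
    simp only [h1]
    constructor
    · intro h
      refine ⟨fun i j => ?_, fun i => ?_⟩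
      · have := h (e.symm (Sum.inl (i, j)))
        simp only [Equiv.apply_symm_apply, f, Sum.elim_inl, MonObj.comp_mul, GrpObj.comp_inv, mul_inv_eq_one] at this
        exact this
      · have := h (e.symm (Sum.inr i))
        simp only [Equiv.apply_symm_apply, f, Sum.elim_inr, MonObj.comp_pow] at this
        exact this
    · intro h k
      obtain ⟨ij | i, hk⟩ : ∃ a, e k = a := ⟨_, rfl⟩ <;> rw [hk]
      · simp only [f, Sum.elim_inl, MonObj.comp_mul, GrpObj.comp_inv, mul_inv_eq_one]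
        exact h.1 _ _
      · simp only [f, Sum.elim_inr, MonObj.comp_pow]
        exact h.2 i
  exact ⟨{
    obj := Q
    univ := fun i => jQ ≫ W.π i
    isTors := (hiff jQ).1 ⟨𝟙 _, Category.id_comp _⟩
    exists_lift := fun {X} y hy => by
      obtain ⟨g, hg⟩ := W.exists_lift y
      obtain ⟨h, hh⟩ := (hiff g).2 (by simpa only [hg] using hy)
      exact ⟨h, fun i => by rw [← Category.assoc, hh, hg]⟩
    ext := fun a b hab => (cancel_mono jQ).1 (W.ext _ _ fun i => by simpa using hab i)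
    lfp := by rw [← Over.w jQ]; infer_instance
    sep := by rw [← Over.w jQ]; infer_instance
    qc := fun hG => by haveI := W.qc hG; rw [← Over.w jQ]; infer_instance }⟩

variable {G}

theorem isTors_comp {n r : ℕ} {X Y : Over S} {y : Fin r → (Y ⟶ G)} (h : IsTors n y) (g : X ⟶ Y) :
    IsTors n fun i => g ≫ y i :=
  ⟨fun i j => by rw [← MonObj.comp_mul, ← MonObj.comp_mul, h.1], fun i => by rw [← MonObj.comp_pow, h.2, MonObj.comp_one]⟩

theorem isUnit_natCast {n : ℕ} (hn : IsUnit (n : Γ(S, ⊤))) {C : Type u} [CommRing C]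
    (p : Spec (CommRingCat.of C) ⟶ S) : IsUnit (n : C) := by
  have h := hn.map ((p.appTop ≫ (Scheme.ΓSpecIso (CommRingCat.of C)).hom).hom)
  rwa [map_natCast] at h

/-- **The scheme of torsion tuples is smooth.** -/
theorem TupleScheme.smooth [Smooth G.hom] {n r : ℕ} (Q : TupleScheme G n r) (hn : IsUnit (n : Γ(S, ⊤))) :
    Smooth Q.obj.hom := by
  haveI := Q.lfp
  refine smooth_of_lifts Q.obj.hom fun y => ?_
  obtain ⟨U, hyU, hU⟩ := exists_isUnitOpen G y
  refine ⟨U, hyU, fun C _ I hI p hp τ hτ => ?_⟩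
  have hdiv := isDivExt_redS G hU hI (isUnit_natCast hn p) p hp
  let t₀ : (Over.mk (Spec.map (CommRingCat.ofHom (Ideal.Quotient.mk I)) ≫ p) : Over S) ⟶ Q.obj := Over.homMk τ hτ
  obtain ⟨y, hy, hy₀⟩ := hdiv.exists_lift (fun i => t₀ ≫ Q.univ i) (isTors_comp Q.isTors t₀)
  obtain ⟨t, ht⟩ := Q.exists_lift y hy
  have e : redPt I p ≫ t = t₀ := Q.ext _ _ fun i => by rw [Category.assoc, ht, ← redS_apply, hy₀]
  exact ⟨t.left, congrArg CommaMorphism.left e, Over.w t⟩

/-- A tuple conjugated by the universal point. -/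
def orbitTuple {r : ℕ} (a : Fin r → (𝟙_ (Over S) ⟶ G)) (i : Fin r) : G ⟶ G :=
  𝟙 G * (toUnit G ≫ a i) * (𝟙 G)⁻¹

theorem comp_orbitTuple {r : ℕ} (a : Fin r → (𝟙_ (Over S) ⟶ G)) (i : Fin r) {X : Over S} (g : X ⟶ G) :
    g ≫ orbitTuple a i = g * (toUnit X ≫ a i) * g⁻¹ := by
  rw [orbitTuple, MonObj.comp_mul, MonObj.comp_mul, GrpObj.comp_inv, Category.comp_id, ← Category.assoc,
    toUnit_unique (g ≫ toUnit G) (toUnit X)]

theorem isTors_orbitTuple {n r : ℕ} {a : Fin r → (𝟙_ (Over S) ⟶ G)} (ha : IsTors n a) :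
    IsTors n (orbitTuple a) := by
  have h := isTors_comp ha (toUnit G)
  refine ⟨fun i j => ?_, fun i => by rw [orbitTuple, conj_pow, h.2, mul_one, mul_inv_cancel]⟩
  calc orbitTuple a i * orbitTuple a j = 𝟙 G * ((toUnit G ≫ a i) * (toUnit G ≫ a j)) * (𝟙 G)⁻¹ := by
        simp only [orbitTuple, mul_assoc, inv_mul_cancel_left]
    _ = orbitTuple a j * orbitTuple a i := by rw [h.1]; simp only [orbitTuple, mul_assoc, inv_mul_cancel_left]

/-- **Conjugation orbits of torsion tuples are smooth.** -/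
theorem TupleScheme.smooth_orbit [Smooth G.hom] [IsSeparated G.hom] {n r : ℕ} (Q : TupleScheme G n r)
    (hn : IsUnit (n : Γ(S, ⊤))) {a : Fin r → (𝟙_ (Over S) ⟶ G)} (ha : IsTors n a) (o : G ⟶ Q.obj)
    (ho : ∀ i, o ≫ Q.univ i = orbitTuple a i) : Smooth o.left := by
  haveI := Q.lfp
  haveI : LocallyOfFinitePresentation (o.left ≫ Q.obj.hom) := by rw [Over.w o]; infer_instance
  haveI : LocallyOfFinitePresentation o.left := AlgSpLib.lfp_of_comp_lft o.left Q.obj.hom
  refine smooth_of_lifts o.left fun y => ?_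
  obtain ⟨U, hyU, hU⟩ := exists_isUnitOpen G (Q.obj.hom y)
  refine ⟨Q.obj.hom ⁻¹ᵁ U, hyU, fun C _ I hI p hp τ hτ => ?_⟩
  have hp' : Set.range (p ≫ Q.obj.hom) ⊆ U := by
    rintro _ ⟨c, rfl⟩
    exact hp ⟨c, rfl⟩
  have hdiv := isDivExt_redS G hU hI (isUnit_natCast hn (p ≫ Q.obj.hom)) (p ≫ Q.obj.hom) hp'
  let q : (Over.mk (p ≫ Q.obj.hom) : Over S) ⟶ Q.obj := Over.homMk p
  let g₀ : (Over.mk (Spec.map (CommRingCat.ofHom (Ideal.Quotient.mk I)) ≫ p ≫ Q.obj.hom) : Over S) ⟶ G :=
    Over.homMk τ (by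
      show τ ≫ G.hom = _
      rw [← Over.w o, ← Category.assoc, hτ, Category.assoc]
      rfl)
  have hg₀ : g₀ ≫ o = redPt I (p ≫ Q.obj.hom) ≫ q := Over.OverMorphism.ext hτ
  obtain ⟨g₁, hg₁⟩ := hdiv.surj g₀
  rw [redS_apply] at hg₁
  obtain ⟨m, hm, hm'⟩ := hdiv.exists_conj (fun i => g₁ ≫ orbitTuple a i) (fun i => q ≫ Q.univ i)
    (isTors_comp (isTors_orbitTuple ha) g₁) (isTors_comp Q.isTors q) fun i => by
      rw [redS_apply, redS_apply, ← Category.assoc (redPt I (p ≫ Q.obj.hom)) g₁, hg₁, ← ho,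
        ← Category.assoc g₀ o, hg₀, Category.assoc (redPt I (p ≫ Q.obj.hom)) q]
  have e : (m * g₁) ≫ o = q := Q.ext _ _ fun i => by
    rw [Category.assoc, ho, ← hm' i, comp_orbitTuple, comp_orbitTuple]
    group
  refine ⟨(m * g₁).left, ?_, congrArg CommaMorphism.left e⟩
  have e₀ : redPt I (p ≫ Q.obj.hom) ≫ (m * g₁) = g₀ := by
    rw [MonObj.comp_mul, hg₁, ← redS_apply G I _ m, hm, one_mul]
  exact congrArg CommaMorphism.left e₀

theorem comp_eq_one_of_tensorUnit {X : Over S} (y : X ⟶ 𝟙_ (Over S)) : y = toUnit X := toUnit_unique _ _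

/-- **The centralizer of a torsion tuple is closed and smooth.** -/
theorem exists_tupleCentralizer [Smooth G.hom] [IsSeparated G.hom] {n r : ℕ} (hn : IsUnit (n : Γ(S, ⊤)))
    {a : Fin r → (𝟙_ (Over S) ⟶ G)} (ha : IsTors n a) :
    ∃ (Z : Over S) (z : Z ⟶ G), IsClosedImmersion z.left ∧ Smooth Z.hom ∧
      ∀ {X : Over S} (g : X ⟶ G), (∃ h, h ≫ z = g) ↔ ∀ i, g * (toUnit X ≫ a i) = (toUnit X ≫ a i) * g := by
  obtain ⟨Q⟩ := nonempty_tupleScheme G n r
  haveI := Q.sep
  obtain ⟨o, ho⟩ := Q.exists_lift (orbitTuple a) (isTors_orbitTuple ha)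
  obtain ⟨q, hq⟩ := Q.exists_lift a ha
  haveI := Q.smooth_orbit hn ha o ho
  haveI : IsClosedImmersion q.left := by
    haveI : IsClosedImmersion (q.left ≫ Q.obj.hom) := by
      rw [Over.w q]; exact inferInstanceAs (IsClosedImmersion (𝟙 S))
    exact IsClosedImmersion.of_comp q.left Q.obj.hom
  have sq : IsPullback (pullback.fst o q).left (pullback.snd o q).left o.left q.left :=
    (IsPullback.of_hasPullback o q).map (Over.forget S)
  haveI : IsClosedImmersion (pullback.fst o q).left :=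
    MorphismProperty.of_isPullback (P := @IsClosedImmersion) sq.flip ‹_›
  haveI : Smooth (pullback.snd o q).left := MorphismProperty.of_isPullback (P := @Smooth) sq ‹_›
  refine ⟨pullback o q, pullback.fst o q, inferInstance, ?_, fun {X} g => ⟨?_, fun hg => ?_⟩⟩
  · rw [← Over.w (pullback.snd o q)]
    show Smooth ((pullback.snd o q).left ≫ 𝟙 S)
    exact (Category.comp_id (pullback.snd o q).left).symm ▸ ‹Smooth (pullback.snd o q).left›
  · rintro ⟨h, rfl⟩ i
    have e : ((h ≫ pullback.fst o q) ≫ o) ≫ Q.univ i = toUnit X ≫ a i := by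
      rw [Category.assoc h, pullback.condition, Category.assoc, Category.assoc, hq, ← Category.assoc h,
        toUnit_unique (h ≫ pullback.snd o q) (toUnit X)]
    rw [Category.assoc _ o, ho, comp_orbitTuple, mul_inv_eq_iff_eq_mul] at e
    exact e
  · exact ⟨pullback.lift g (toUnit X) (Q.ext _ _ fun i => by
      rw [Category.assoc, ho, comp_orbitTuple, Category.assoc, hq, hg i, mul_inv_cancel_right]), pullback.lift_fst _ _ _⟩

end Groth.Agent.TorsTuple
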