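import Groth.Agent.TorsTupleLib.Tuples
import Groth.Agent.TorsTupleLib.Density
import Groth.Agent.TorsTupleLib.IsoCrit
import Groth.Agent.SweepSix.Constr
import Groth.Agent.MaxTorConjLib.Geom
import Groth.Agent.AVAmpleLib.HomDiv
import Groth.Prelude.Def_Red2

/-!
A single torsion level cuts out the centralizer of a split torus over an affine base.
-/

set_option autoImplicit false
set_option linter.style.haveILetI false
set_option linter.unusedSectionVars false
set_option backward.isDefEq.respectTransparency false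
set_option maxHeartbeats 2000000
set_option synthInstance.maxHeartbeats 400000

noncomputable section

universe u

open CategoryTheory CategoryTheory.Limits MonoidalCategory CartesianMonoidalCategory AlgebraicGeometry
open scoped MonObj

namespace Groth.Agent.TorsTuple

variable {S : Scheme.{u}}

/-- A coherent system of primitive roots of unity of orders the powers of `ℓ`. -/
structure RootSystem (S : Scheme.{u}) (ℓ : ℕ) where
  /-- the roots -/
  ζ : ℕ → Γ(S, ⊤)ˣ
  isUnit : IsUnit (ℓ : Γ(S, ⊤))
  one_lt : 1 < ℓ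
  pow_eq_one : ∀ m, ζ m ^ (ℓ ^ m) = 1
  pow_succ : ∀ m, ζ (m + 1) ^ ℓ = ζ m
  primitive : ∀ (K : Type u) [Field K] (x : Spec (CommRingCat.of K) ⟶ S) (m : ℕ),
    IsPrimitiveRoot ((Scheme.ΓSpecIso (CommRingCat.of K)).hom (x.appTop (ζ m : Γ(S, ⊤)))) (ℓ ^ m)

variable {r : ℕ} {G : Over S} [GrpObj G] (v : Red.DS S (Fin r → ℤ) ⟶ G) [IsMonHom v]

theorem coordPt_pow {X : Over S} (i : Fin r) (w : Γ(X.left, ⊤)ˣ) (k : ℕ) :
    coordPt v i w ^ k = coordPt v i (w ^ k) := by
  induction k with
  | zero =>
    rw [pow_zero, pow_zero, coordPt, show coordChar i (1 : Γ(X.left, ⊤)ˣ) = 1 from MonoidHom.ext fun m => by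
      simp [coordChar], DSPtsLib.dsPt_one, MonObj.one_comp]
  | succ k ih =>
    rw [_root_.pow_succ, ih, _root_.pow_succ, coordPt, coordPt, coordPt, ← MonObj.mul_comp, ← DSPtsLib.dsPt_mul]
    congr 2
    exact MonoidHom.ext fun m => by simp [coordChar, mul_zpow]

theorem isTors_std {ℓ : ℕ} (R : RootSystem S ℓ) (m : ℕ) : IsTors (ℓ ^ m) (stdTuple v (R.ζ m)) :=
  ⟨fun i j => (isTors_stdTuple v (R.pow_eq_one m)).1 i j, (isTors_stdTuple v (R.pow_eq_one m)).2⟩

theorem isUnit_pow {ℓ : ℕ} (R : RootSystem S ℓ) (m : ℕ) : IsUnit ((ℓ ^ m : ℕ) : Γ(S, ⊤)) := by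
  rw [Nat.cast_pow]
  exact R.isUnit.pow m

theorem commute_succ {ℓ : ℕ} (R : RootSystem S ℓ) {X : Over S} (g : X ⟶ G) (m : ℕ)
    (h : ∀ i, Commute g (toUnit X ≫ stdTuple v (R.ζ (m + 1)) i)) (i : Fin r) :
    Commute g (toUnit X ≫ stdTuple v (R.ζ m) i) := by
  have e : stdTuple v (R.ζ m) i = stdTuple v (R.ζ (m + 1)) i ^ ℓ := by
    rw [stdTuple, stdTuple, coordPt_pow, R.pow_succ]
  rw [e, MonObj.comp_pow]
  exact (h i).pow_right ℓ

/-- A point over an algebraically closed field commuting with the tuples commutes with the torus scheme-theoretically. -/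
theorem commute_fst_snd [Smooth G.hom] [IsSeparated G.hom] {ℓ : ℕ} (R : RootSystem S ℓ) {K : Type u} [Field K]
    [IsAlgClosed K] {x : Spec (CommRingCat.of K) ⟶ S} (g : (Over.mk x : Over S) ⟶ G)
    (h : ∀ m i, Commute g (toUnit _ ≫ stdTuple v (R.ζ m) i)) :
    (fst (Over.mk x : Over S) (Red.DS S (Fin r → ℤ)) ≫ g) * (snd _ _ ≫ v) =
      (snd _ _ ≫ v) * (fst (Over.mk x : Over S) (Red.DS S (Fin r → ℤ)) ≫ g) := by
  let Z : Over S := Over.mk x ⊗ Red.DS S (Fin r → ℤ)
  let pr : Z.left ⟶ Spec (CommRingCat.of K) := (fst (Over.mk x : Over S) (Red.DS S (Fin r → ℤ))).left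
  have hpr : pr ≫ x = Z.hom := Over.w (fst (Over.mk x : Over S) (Red.DS S (Fin r → ℤ)))
  let φ₁ : Z ⟶ G := (fst _ _ ≫ g) * (snd _ _ ≫ v)
  let φ₂ : Z ⟶ G := (snd _ _ ≫ v) * (fst _ _ ≫ g)
  haveI := MaxTorConj.smooth_of_isTorus (RedRank.isTorus_DS S r)
  haveI : Smooth pr := inferInstanceAs (Smooth (pullback.fst x (Red.DS S (Fin r → ℤ)).hom))
  let Z₀ : Over (Spec (CommRingCat.of K)) := Over.mk pr
  haveI : Smooth Z₀.hom := ‹Smooth pr›
  haveI : AlgebraicGeometry.IsReduced Z₀.left := AlgSpLib.isReduced_of_smooth Z₀.hom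
  haveI : LocallyOfFiniteType (Red.bc x G).hom := MorphismProperty.pullback_snd (P := @LocallyOfFiniteType) _ _ inferInstance
  haveI : IsSeparated (Red.bc x G).hom := inferInstanceAs (IsSeparated (pullback.snd G.hom x))
  have hw : ∀ φ : Z ⟶ G, φ.left ≫ G.hom = pr ≫ x := fun φ => (Over.w φ).trans hpr.symm
  let lf : (Z ⟶ G) → (Z₀ ⟶ Red.bc x G) := fun φ =>
    Over.homMk (pullback.lift φ.left pr (hw φ)) (pullback.lift_snd _ _ _)
  have heq : lf φ₁ = lf φ₂ := AVAmpleLib.hom_ext_of_points _ _ fun a => by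
    have ha : a.left ≫ pr = 𝟙 _ := Over.w a
    let p : (Over.mk x : Over S) ⟶ Z := Over.homMk a.left (by
      show a.left ≫ Z.hom = x
      rw [← hpr, ← Category.assoc, ha, Category.id_comp])
    have hp : p ≫ fst _ _ = 𝟙 _ := Over.OverMorphism.ext ha
    have hc : p ≫ φ₁ = p ≫ φ₂ := by
      have := commute_of_stdTuples v R.ζ R.one_lt R.primitive x g h (p ≫ snd _ _)
      simp only [φ₁, φ₂, MonObj.comp_mul, reassoc_of% hp]
      rw [Category.assoc] at this
      exact this.eq
    refine Over.OverMorphism.ext (pullback.hom_ext ?_ ?_)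
    · show (a.left ≫ pullback.lift φ₁.left pr (hw φ₁)) ≫ pullback.fst _ _ =
        (a.left ≫ pullback.lift φ₂.left pr (hw φ₂)) ≫ pullback.fst _ _
      rw [Category.assoc, Category.assoc, pullback.lift_fst, pullback.lift_fst]
      exact congrArg CommaMorphism.left hc
    · show (a.left ≫ pullback.lift φ₁.left pr (hw φ₁)) ≫ pullback.snd _ _ =
        (a.left ≫ pullback.lift φ₂.left pr (hw φ₂)) ≫ pullback.snd _ _
      rw [Category.assoc, Category.assoc, pullback.lift_snd, pullback.lift_snd]
  have h2 := congrArg (fun φ => φ.left ≫ pullback.fst G.hom x) heq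
  simp only [lf, Over.homMk_left, pullback.lift_fst] at h2
  exact Over.OverMorphism.ext h2

/-- **Over an affine base some torsion level has the centralizer of the whole torus.** -/
theorem exists_uniform [IsAffine S] [Smooth G.hom] [IsSeparated G.hom] [QuasiCompact G.hom] {ℓ : ℕ}
    (R : RootSystem S ℓ) {C : Over S} [GrpObj C] {c : C ⟶ G} (hc : Red.IsCentralizerOf v c)
    [IsClosedImmersion c.left] [Smooth C.hom] :
    ∃ m, ∀ (X : Over S) (g : X ⟶ G), (∀ i, Commute g (toUnit X ≫ stdTuple v (R.ζ m) i)) → ∃ h, h ≫ c = g := by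
  haveI := hc.1; haveI := hc.2.1
  have hZ := fun m => exists_tupleCentralizer (isUnit_pow R m) (isTors_std v R m)
  choose Z z hzc hzs hzspec using hZ
  have hmono : ∀ m m', m ≤ m' → Set.range (z m').left ⊆ Set.range (z m).left := by
    intro m m' h
    induction h with
    | refl => exact subset_rfl
    | @step k _ ih =>
      refine Set.Subset.trans ?_ ih
      obtain ⟨l, hl⟩ := (hzspec k (z (k + 1))).2 fun i =>
        (commute_succ v R (z (k + 1)) k (fun i => (hzspec (k + 1) (z (k + 1))).1 ⟨𝟙 _, Category.id_comp _⟩ i) i).eq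
      rw [← hl, Over.comp_left]
      rintro _ ⟨y, rfl⟩
      exact ⟨l.left y, rfl⟩
  haveI : CompactSpace G.left := QuasiCompact.compactSpace_of_compactSpace G.hom
  haveI : QuasiSeparatedSpace G.left := quasiSeparatedSpace_of_quasiSeparated G.hom
  haveI : LocallyOfFinitePresentation c.left := by
    haveI : LocallyOfFinitePresentation (c.left ≫ G.hom) := by rw [Over.w c]; infer_instance
    exact AlgSpLib.lfp_of_comp_lft c.left G.hom
  let U : Set G.left := (Set.range c.left)ᶜ
  have hU : IsCompact U := by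
    haveI : CompactSpace C.left := by
      haveI : QuasiCompact C.hom := by rw [← Over.w c]; infer_instance
      exact QuasiCompact.compactSpace_of_compactSpace C.hom
    have h1 : Topology.IsConstructible (Set.range c.left) := by
      rw [← Set.image_univ]
      exact c.left.isConstructible_image Topology.IsConstructible.univ
    have h2 := SweepSix.isRetrocompact_of_isConstructible h1.compl isCompact_univ isOpen_univ
    rwa [Set.inter_univ] at h2
  have hempty : (U ∩ ⋂ m, Set.range (z m).left) = ∅ := by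
    refine Set.eq_empty_iff_forall_notMem.2 fun y ⟨hy, hy'⟩ => hy ?_
    let K := AlgebraicClosure (G.left.residueField y)
    let b : Spec (CommRingCat.of K) ⟶ G.left :=
      Spec.map (CommRingCat.ofHom (algebraMap (G.left.residueField y) K)) ≫ G.left.fromSpecResidueField y
    let x : Spec (CommRingCat.of K) ⟶ S := b ≫ G.hom
    let g : (Over.mk x : Over S) ⟶ G := Over.homMk b
    have hb : b (IsLocalRing.closedPoint K) = y := G.left.fromSpecResidueField_apply y _
    have hgm : ∀ m, ∃ h, h ≫ z m = g := fun m => by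
      obtain ⟨w, hw⟩ := Set.mem_iInter.1 hy' m
      haveI := hzc m
      haveI : IsClosedImmersion (pullback.snd (z m).left b) :=
        MorphismProperty.pullback_snd (P := @IsClosedImmersion) _ _ inferInstance
      haveI : Surjective (pullback.snd (z m).left b) := ⟨fun k => by
        obtain ⟨e, -, he⟩ := Scheme.Pullback.exists_preimage_pullback (f := (z m).left) (g := b) w k (by
          rw [hw, Subsingleton.elim (α := PrimeSpectrum K) k (IsLocalRing.closedPoint K), hb])
        exact ⟨e, he⟩⟩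
      haveI : AlgebraicGeometry.IsReduced (Spec (CommRingCat.of K)) := inferInstance
      haveI := isIso_of_isClosedImmersion_of_surjective (pullback.snd (z m).left b)
      let l := inv (pullback.snd (z m).left b) ≫ pullback.fst (z m).left b
      have hl : l ≫ (z m).left = b := by simp [l, pullback.condition]
      exact ⟨Over.homMk l (by rw [← Over.w (z m), ← Category.assoc, hl]; rfl), Over.OverMorphism.ext hl⟩
    have htup : ∀ m i, Commute g (toUnit _ ≫ stdTuple v (R.ζ m) i) := fun m i => (hzspec m g).1 (hgm m) i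
    obtain ⟨h, hh⟩ := (hc.2.2 _ g).2 fun X' x' t => by
      have key := congrArg (lift x' t ≫ ·) (commute_fst_snd v R g htup)
      simp only [MonObj.comp_mul, lift_fst_assoc, lift_snd_assoc] at key
      exact key
    refine ⟨h.left (IsLocalRing.closedPoint K : Spec (CommRingCat.of K)), Eq.trans ?_ hb⟩
    exact congrArg (fun q : (Over.mk x : Over S) ⟶ G => q.left (IsLocalRing.closedPoint K : Spec (CommRingCat.of K))) hh
  obtain ⟨m, hm⟩ : ∃ m, U ∩ Set.range (z m).left = ∅ := by
    have hcl : ∀ m, IsClosed (Set.range (z m).left) := fun m => by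
      haveI := hzc m
      exact (z m).left.isClosedEmbedding.isClosed_range
    obtain ⟨u, hu⟩ := hU.elim_finite_subfamily_closed (fun m => Set.range (z m).left) hcl hempty
    refine ⟨u.sup id, Set.eq_empty_of_subset_empty ?_⟩
    rintro y ⟨hy, hy'⟩
    exact hu.le ⟨hy, Set.mem_iInter₂.2 fun i hi => hmono i _ (Finset.le_sup (f := id) hi) hy'⟩
  haveI := hzc m; haveI := hzs m
  obtain ⟨l, hl⟩ := (hzspec m c).2 fun i => by
    have h := (hc.2.2 C c).1 ⟨𝟙 _, Category.id_comp _⟩ C (𝟙 C)
      (toUnit C ≫ DSPtsLib.dsPt (T := 𝟙_ (Over S)) (coordChar i (R.ζ m)))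
    rw [Category.id_comp, Category.assoc] at h
    exact h
  haveI : IsClosedImmersion l.left := by
    haveI : IsClosedImmersion (l.left ≫ (z m).left) := by rw [← Over.comp_left, hl]; infer_instance
    exact IsClosedImmersion.of_comp l.left (z m).left
  haveI : Surjective l.left := ⟨fun w => by
    have hw : (z m).left w ∈ Set.range c.left := by
      by_contra hw
      exact (Set.eq_empty_iff_forall_notMem.1 hm) _ ⟨hw, w, rfl⟩
    obtain ⟨y, hy⟩ := hw
    refine ⟨y, (z m).left.isClosedEmbedding.injective ?_⟩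
    rw [← hy, ← hl]
    rfl⟩
  haveI : IsIso l := isIso_of_closed_surjective l
  refine ⟨m, fun X g hg => ?_⟩
  obtain ⟨h, hh⟩ := (hzspec m g).2 fun i => (hg i).eq
  exact ⟨h ≫ inv l, by rw [Category.assoc, ← hl, IsIso.inv_hom_id_assoc, hh]⟩

end Groth.Agent.TorsTuple
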